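import Mathlib
import Cfsg.Prelude.Def_Classical
import Cfsg.Agent.Helper7.Hermitian

set_option autoImplicit false
set_option linter.unusedSectionVars false

/-!
# LS3 swarm piece (ii) (helper3): transport of a block model to `SU n F q`

`B : Matrix (Fin n) ι F` (columns = a frame of the standard Hermitian space), `B'` a two-sided
inverse.  If `M : Matrix ι ι F` has determinant one and preserves the Gram matrix
`J = Bᵀ σ(B)` of the frame (`Mᵀ J σ(M) = J`, `σ` = entrywise `x ↦ x ^ q`), then `B M B'` lies in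
`SU n F q`.  Packaged as an injective monoid homomorphism `h3_phi : h3_BU q J →* SU n F q`.
-/

namespace Cfsg.Agent.LS3

open Matrix Cfsg Cfsg.Agent.Helper7.Herm

variable {F : Type*} [Field F]

/-- entrywise Frobenius `x ↦ x ^ q` on matrices. -/
def h3_sig (q : ℕ) {α β : Type*} (M : Matrix α β F) : Matrix α β F := M.map (fun x => x ^ q)

@[simp] theorem h3_sig_apply (q : ℕ) {α β : Type*} (M : Matrix α β F) (a : α) (b : β) :
    h3_sig q M a b = M a b ^ q := rfl

theorem h3_sig_transpose (q : ℕ) {α β : Type*} (M : Matrix α β F) :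
    h3_sig q Mᵀ = (h3_sig q M)ᵀ := rfl

theorem h3_sig_one {q : ℕ} (hq : q ≠ 0) {α : Type*} [DecidableEq α] :
    h3_sig q (1 : Matrix α α F) = 1 := by
  ext a b
  by_cases h : a = b
  · subst h; simp
  · simp [Matrix.one_apply_ne h, zero_pow hq]

section finite

variable [Fintype F] {q : ℕ}

theorem h3_sig_mul (hF : Fintype.card F = q ^ 2) {α β γ : Type*} [Fintype β]
    (X : Matrix α β F) (Y : Matrix β γ F) : h3_sig q (X * Y) = h3_sig q X * h3_sig q Y := by
  ext a c
  simp only [h3_sig_apply, Matrix.mul_apply]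
  rw [sum_pow_q hF]
  simp only [mul_pow]

theorem h3_sig_sig (hF : Fintype.card F = q ^ 2) {α β : Type*} (M : Matrix α β F) :
    h3_sig q (h3_sig q M) = M := by
  ext a b
  exact pow_q_pow_q hF _

theorem h3_q_ne_zero' (hF : Fintype.card F = q ^ 2) : q ≠ 0 := by
  have := one_le_q hF
  omega

/-- `hermForm (g u) (g v)` through the matrix `gᵀ σ(g)`. -/
theorem h3_herm_mulVec (hF : Fintype.card F = q ^ 2) {n : ℕ} (g : Matrix (Fin n) (Fin n) F)
    (u v : Fin n → F) :
    hermForm n F q (g *ᵥ u) (g *ᵥ v) = u ⬝ᵥ ((gᵀ * h3_sig q g) *ᵥ (fun k => v k ^ q)) := by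
  have h1 : (fun k => (g *ᵥ v) k ^ q) = h3_sig q g *ᵥ (fun k => v k ^ q) := by
    funext k
    simp only [Matrix.mulVec, dotProduct, h3_sig_apply]
    rw [sum_pow_q hF]
    simp only [mul_pow]
  have h2 : hermForm n F q (g *ᵥ u) (g *ᵥ v) = (g *ᵥ u) ⬝ᵥ (fun k => (g *ᵥ v) k ^ q) := rfl
  rw [h2, h1, ← Matrix.mulVec_mulVec, dotProduct_comm (g *ᵥ u), Matrix.dotProduct_mulVec,
    ← Matrix.mulVec_transpose, dotProduct_comm]

/-- a matrix with `gᵀ σ(g) = 1` preserves `hermForm`. -/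
theorem h3_herm_preserved (hF : Fintype.card F = q ^ 2) {n : ℕ} (g : Matrix (Fin n) (Fin n) F)
    (hg : gᵀ * h3_sig q g = 1) (u v : Fin n → F) :
    hermForm n F q (g *ᵥ u) (g *ᵥ v) = hermForm n F q u v := by
  rw [h3_herm_mulVec hF, hg, Matrix.one_mulVec]
  rfl

end finite

/-- the Gram matrix of the columns of `B`. -/
def h3_gram (q : ℕ) {n : ℕ} {ι : Type*} (B : Matrix (Fin n) ι F) : Matrix ι ι F :=
  Bᵀ * h3_sig q B

theorem h3_gram_apply (q : ℕ) {n : ℕ} {ι : Type*} (B : Matrix (Fin n) ι F) (a b : ι) :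
    h3_gram q B a b = hermForm n F q (fun k => B k a) (fun k => B k b) := rfl

section transport

variable [Fintype F] {q : ℕ} {n : ℕ} {ι : Type} [Fintype ι] [DecidableEq ι]

/-- the key computation: `B M B'` is unitary if `M` preserves the Gram matrix of `B`. -/
theorem h3_conj_unitary (hF : Fintype.card F = q ^ 2) (B : Matrix (Fin n) ι F)
    (B' : Matrix ι (Fin n) F) (h1 : B * B' = 1) (M : Matrix ι ι F)
    (hM : Mᵀ * h3_gram q B * h3_sig q M = h3_gram q B) :
    (B * M * B')ᵀ * h3_sig q (B * M * B') = 1 := by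
  rw [h3_sig_mul hF, h3_sig_mul hF, Matrix.transpose_mul, Matrix.transpose_mul]
  have e : B'ᵀ * (Mᵀ * Bᵀ) * (h3_sig q B * h3_sig q M * h3_sig q B')
      = B'ᵀ * (Mᵀ * (Bᵀ * h3_sig q B) * h3_sig q M) * h3_sig q B' := by
    simp only [Matrix.mul_assoc]
  rw [e]
  change B'ᵀ * (Mᵀ * h3_gram q B * h3_sig q M) * h3_sig q B' = 1
  rw [hM, h3_gram]
  have e2 : B'ᵀ * (Bᵀ * h3_sig q B) * h3_sig q B' = (B * B')ᵀ * h3_sig q (B * B') := by
    rw [h3_sig_mul hF, Matrix.transpose_mul]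
    simp only [Matrix.mul_assoc]
  rw [e2, h1, Matrix.transpose_one, h3_sig_one (h3_q_ne_zero' hF), Matrix.one_mul]

/-- the block-model unitary group: determinant one matrices over `ι` preserving the Gram
matrix `J` in the sense `Mᵀ J σ(M) = J`. -/
def h3_BU (hF : Fintype.card F = q ^ 2) (J : Matrix ι ι F) :
    Subgroup (Matrix.SpecialLinearGroup ι F) where
  carrier := {M | (M.1)ᵀ * J * h3_sig q M.1 = J}
  one_mem' := by
    show ((1 : Matrix.SpecialLinearGroup ι F).1)ᵀ * J * h3_sig q (1 : Matrix.SpecialLinearGroup ι F).1 = J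
    rw [Matrix.SpecialLinearGroup.coe_one, Matrix.transpose_one, h3_sig_one (h3_q_ne_zero' hF),
      Matrix.one_mul, Matrix.mul_one]
  mul_mem' := by
    intro M N hM hN
    show ((M * N).1)ᵀ * J * h3_sig q (M * N).1 = J
    rw [Matrix.SpecialLinearGroup.coe_mul, Matrix.transpose_mul, h3_sig_mul hF]
    have e : (N.1)ᵀ * (M.1)ᵀ * J * (h3_sig q M.1 * h3_sig q N.1)
        = (N.1)ᵀ * ((M.1)ᵀ * J * h3_sig q M.1) * h3_sig q N.1 := by
      simp only [Matrix.mul_assoc]
    rw [e]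
    have hM' : (M.1)ᵀ * J * h3_sig q M.1 = J := hM
    rw [hM']
    exact hN
  inv_mem' := by
    intro M hM
    show ((M⁻¹).1)ᵀ * J * h3_sig q (M⁻¹).1 = J
    have hM' : (M.1)ᵀ * J * h3_sig q M.1 = J := hM
    have h1 : (M⁻¹).1 * M.1 = 1 := by
      rw [← Matrix.SpecialLinearGroup.coe_mul, inv_mul_cancel, Matrix.SpecialLinearGroup.coe_one]
    have h2 : M.1 * (M⁻¹).1 = 1 := by
      rw [← Matrix.SpecialLinearGroup.coe_mul, mul_inv_cancel, Matrix.SpecialLinearGroup.coe_one]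
    have h3 : ((M⁻¹).1)ᵀ * (M.1)ᵀ = 1 := by
      rw [← Matrix.transpose_mul, h2, Matrix.transpose_one]
    have h4 : h3_sig q M.1 * h3_sig q (M⁻¹).1 = 1 := by
      rw [← h3_sig_mul hF, h2, h3_sig_one (h3_q_ne_zero' hF)]
    calc ((M⁻¹).1)ᵀ * J * h3_sig q (M⁻¹).1
        = ((M⁻¹).1)ᵀ * ((M.1)ᵀ * J * h3_sig q M.1) * h3_sig q (M⁻¹).1 := by rw [hM']
      _ = (((M⁻¹).1)ᵀ * (M.1)ᵀ) * J * (h3_sig q M.1 * h3_sig q (M⁻¹).1) := by
          simp only [Matrix.mul_assoc]
      _ = J := by rw [h3, h4, Matrix.one_mul, Matrix.mul_one]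

theorem h3_mem_BU (hF : Fintype.card F = q ^ 2) (J : Matrix ι ι F)
    (M : Matrix.SpecialLinearGroup ι F) :
    M ∈ h3_BU hF J ↔ (M.1)ᵀ * J * h3_sig q M.1 = J := Iff.rfl

/-- conjugation `M ↦ B M B'` as a homomorphism of special linear groups. -/
noncomputable def h3_phiSL (B : Matrix (Fin n) ι F) (B' : Matrix ι (Fin n) F)
    (h1 : B * B' = 1) (h2 : B' * B = 1) :
    Matrix.SpecialLinearGroup ι F →* Matrix.SpecialLinearGroup (Fin n) F where
  toFun M := ⟨B * M.1 * B', by rw [Matrix.det_conj_of_mul_eq_one h1 h2, M.2]⟩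
  map_one' := by
    apply Subtype.ext
    show B * (1 : Matrix.SpecialLinearGroup ι F).1 * B' = 1
    rw [Matrix.SpecialLinearGroup.coe_one, Matrix.mul_one, h1]
  map_mul' M N := by
    apply Subtype.ext
    show B * (M * N).1 * B' = (B * M.1 * B') * (B * N.1 * B')
    rw [Matrix.SpecialLinearGroup.coe_mul]
    have e : B * M.1 * B' * (B * N.1 * B') = B * M.1 * (B' * B) * N.1 * B' := by
      simp only [Matrix.mul_assoc]
    rw [e, h2, Matrix.mul_one]
    simp only [Matrix.mul_assoc]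

@[simp] theorem h3_phiSL_coe (B : Matrix (Fin n) ι F) (B' : Matrix ι (Fin n) F)
    (h1 : B * B' = 1) (h2 : B' * B = 1) (M : Matrix.SpecialLinearGroup ι F) :
    ((h3_phiSL B B' h1 h2 M : Matrix.SpecialLinearGroup (Fin n) F) :
      Matrix (Fin n) (Fin n) F) = B * M.1 * B' := rfl

theorem h3_phiSL_injective (B : Matrix (Fin n) ι F) (B' : Matrix ι (Fin n) F)
    (h1 : B * B' = 1) (h2 : B' * B = 1) : Function.Injective (h3_phiSL B B' h1 h2) := by
  intro M N h
  have h' : B * M.1 * B' = B * N.1 * B' := congrArg Subtype.val h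
  apply Subtype.ext
  have e : ∀ X : Matrix ι ι F, B' * (B * X * B') * B = X := by
    intro X
    have : B' * (B * X * B') * B = (B' * B) * X * (B' * B) := by
      simp only [Matrix.mul_assoc]
    rw [this, h2, Matrix.one_mul, Matrix.mul_one]
  rw [← e M.1, h', e N.1]

theorem h3_phiSL_mem_SU (hF : Fintype.card F = q ^ 2) (B : Matrix (Fin n) ι F)
    (B' : Matrix ι (Fin n) F) (h1 : B * B' = 1) (h2 : B' * B = 1) (J : Matrix ι ι F)
    (hJ : h3_gram q B = J) (M : Matrix.SpecialLinearGroup ι F) (hM : M ∈ h3_BU hF J) :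
    h3_phiSL B B' h1 h2 M ∈ SU n F q := by
  intro u v
  have hM' : (M.1)ᵀ * h3_gram q B * h3_sig q M.1 = h3_gram q B := by rw [hJ]; exact hM
  have key := h3_herm_preserved hF (B * M.1 * B') (h3_conj_unitary hF B B' h1 M.1 hM') u v
  have hmat : (slToMat n F) (h3_phiSL B B' h1 h2 M) = B * M.1 * B' := rfl
  rw [hmat]
  exact key

/-- **the transport homomorphism** from the block model to `SU n F q`. -/
noncomputable def h3_phi (hF : Fintype.card F = q ^ 2) (B : Matrix (Fin n) ι F)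
    (B' : Matrix ι (Fin n) F) (h1 : B * B' = 1) (h2 : B' * B = 1) (J : Matrix ι ι F)
    (hJ : h3_gram q B = J) : h3_BU hF J →* SU n F q where
  toFun M := ⟨h3_phiSL B B' h1 h2 M.1, h3_phiSL_mem_SU hF B B' h1 h2 J hJ M.1 M.2⟩
  map_one' := by
    apply Subtype.ext
    show h3_phiSL B B' h1 h2 (1 : h3_BU hF J).1 = 1
    rw [Subgroup.coe_one, map_one]
  map_mul' M N := by
    apply Subtype.ext
    show h3_phiSL B B' h1 h2 (M * N).1 = h3_phiSL B B' h1 h2 M.1 * h3_phiSL B B' h1 h2 N.1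
    rw [Subgroup.coe_mul, map_mul]

theorem h3_phi_coe (hF : Fintype.card F = q ^ 2) (B : Matrix (Fin n) ι F)
    (B' : Matrix ι (Fin n) F) (h1 : B * B' = 1) (h2 : B' * B = 1) (J : Matrix ι ι F)
    (hJ : h3_gram q B = J) (M : h3_BU hF J) :
    (((h3_phi hF B B' h1 h2 J hJ M : SU n F q) : Matrix.SpecialLinearGroup (Fin n) F) :
      Matrix (Fin n) (Fin n) F) = B * (M.1).1 * B' := rfl

theorem h3_phi_injective (hF : Fintype.card F = q ^ 2) (B : Matrix (Fin n) ι F)
    (B' : Matrix ι (Fin n) F) (h1 : B * B' = 1) (h2 : B' * B = 1) (J : Matrix ι ι F)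
    (hJ : h3_gram q B = J) : Function.Injective (h3_phi hF B B' h1 h2 J hJ) := by
  intro M N h
  have h' : h3_phiSL B B' h1 h2 M.1 = h3_phiSL B B' h1 h2 N.1 := congrArg Subtype.val h
  exact Subtype.ext (h3_phiSL_injective B B' h1 h2 h')

/-- the inverse of the frame matrix from the Gram identity: if `Bᵀ σ(B) = J`, `σ(J) = J`,
`J * J = 1` then `B' := J σ(B)ᵀ` is a two-sided inverse of `B` (given `|ι| = n`). -/
theorem h3_frame_inv (hF : Fintype.card F = q ^ 2) (B : Matrix (Fin n) ι F) (J : Matrix ι ι F)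
    (hJ : h3_gram q B = J) (hJs : h3_sig q J = J) (hJJ : J * J = 1)
    (hcard : Fintype.card ι = n) :
    (J * (h3_sig q B)ᵀ) * B = 1 ∧ B * (J * (h3_sig q B)ᵀ) = 1 := by
  have h1 : (h3_sig q B)ᵀ * B = J := by
    have : h3_sig q (h3_gram q B) = (h3_sig q B)ᵀ * B := by
      rw [h3_gram, h3_sig_mul hF, h3_sig_sig hF, h3_sig_transpose]
    rw [← this, hJ, hJs]
  have h2 : (J * (h3_sig q B)ᵀ) * B = 1 := by
    rw [Matrix.mul_assoc, h1, hJJ]
  refine ⟨h2, ?_⟩
  have hc : Fintype.card ι = Fintype.card (Fin n) := by rw [Fintype.card_fin, hcard]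
  exact (Matrix.mul_eq_one_comm_of_equiv (Fintype.equivOfCardEq hc)).1 h2

end transport

end Cfsg.Agent.LS3
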