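import Mathlib
import Cfsg.Agent.LS3.H3_FrameEven
import Cfsg.Agent.LS3.H3_Transport

set_option autoImplicit false
set_option linter.unusedSectionVars false

/-!
# LS3 swarm piece (ii) (helper3): the even frame as a matrix; transport to `SU (2m) F q`

`h3_Be m lam cc : Matrix (Fin (2m)) (Fin m ⊕ Fin m) F` has columns `e_i` (`inl i`) and `f_i`
(`inr i`); its Gram matrix is `h3_Je m = fromBlocks 0 1 1 0`.  Consequently
`h3_phiE : h3_BU hF (h3_Je m) →* SU (2m) F q`, `M ↦ B M B'`, is an injective homomorphism.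
-/

namespace Cfsg.Agent.LS3

open Matrix Cfsg Cfsg.Agent.Helper7.Herm

variable {F : Type*} [Field F]

/-- the frame matrix in even dimension: columns `e_i` (index `inl i`), `f_i` (index `inr i`). -/
def h3_Be (m : ℕ) (lam cc : F) : Matrix (Fin (2 * m)) (Fin m ⊕ Fin m) F :=
  fun k c => Sum.elim (fun i : Fin m => h3e_e m lam i.val k)
    (fun i : Fin m => h3e_f m lam cc i.val k) c

/-- the hyperbolic Gram matrix `[[0,1],[1,0]]`. -/
def h3_Je (m : ℕ) : Matrix (Fin m ⊕ Fin m) (Fin m ⊕ Fin m) F := Matrix.fromBlocks 0 1 1 0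

theorem h3_Be_inl (m : ℕ) (lam cc : F) (i : Fin m) :
    (fun k => h3_Be m lam cc k (Sum.inl i)) = h3e_e m lam i.val := rfl

theorem h3_Be_inr (m : ℕ) (lam cc : F) (i : Fin m) :
    (fun k => h3_Be m lam cc k (Sum.inr i)) = h3e_f m lam cc i.val := rfl

theorem h3_Je_mul_self (m : ℕ) : (h3_Je m : Matrix _ _ F) * h3_Je m = 1 := by
  unfold h3_Je
  rw [Matrix.fromBlocks_multiply]
  simp

theorem h3_Je_sig {q : ℕ} (hq : q ≠ 0) (m : ℕ) : h3_sig q (h3_Je m : Matrix _ _ F) = h3_Je m := by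
  ext a b
  rw [h3_sig_apply]
  rcases a with i | i <;> rcases b with j | j <;>
    simp [h3_Je, Matrix.one_apply, zero_pow hq, apply_ite (fun x : F => x ^ q)]

section table

variable [Fintype F] {q : ℕ} {m : ℕ}

/-- **Gram identity** of the even frame. -/
theorem h3_Be_gram (hF : Fintype.card F = q ^ 2) (lam cc : F) (hl : lam ^ (q + 1) = -1)
    (hc : cc ^ q + cc = -1) : h3_gram q (h3_Be m lam cc) = h3_Je m := by
  ext a b
  rw [h3_gram_apply]
  rcases a with i | i <;> rcases b with j | j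
  · rw [h3_Be_inl, h3_Be_inl, h3e_ee hF lam hl]
    simp [h3_Je]
  · rw [h3_Be_inl, h3_Be_inr, h3e_ef' hF lam cc hl i.2]
    simp [h3_Je, Matrix.one_apply, Fin.ext_iff]
  · rw [h3_Be_inr, h3_Be_inl, h3e_fe' hF lam cc hl i.2]
    simp [h3_Je, Matrix.one_apply, Fin.ext_iff]
  · rw [h3_Be_inr, h3_Be_inr, h3e_ff hF lam cc hl hc]
    simp [h3_Je]

/-- the inverse frame matrix `B' = J σ(B)ᵀ`. -/
def h3_Be' (q : ℕ) (m : ℕ) (lam cc : F) : Matrix (Fin m ⊕ Fin m) (Fin (2 * m)) F :=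
  h3_Je m * (h3_sig q (h3_Be m lam cc))ᵀ

theorem h3_Be'_mul (hF : Fintype.card F = q ^ 2) (lam cc : F) (hl : lam ^ (q + 1) = -1)
    (hc : cc ^ q + cc = -1) : h3_Be' q m lam cc * h3_Be m lam cc = 1 :=
  (h3_frame_inv hF (h3_Be m lam cc) (h3_Je m) (h3_Be_gram hF lam cc hl hc)
    (h3_Je_sig (h3_q_ne_zero' hF) m) (h3_Je_mul_self m) (by simp; omega)).1

theorem h3_Be_mul' (hF : Fintype.card F = q ^ 2) (lam cc : F) (hl : lam ^ (q + 1) = -1)
    (hc : cc ^ q + cc = -1) : h3_Be m lam cc * h3_Be' q m lam cc = 1 :=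
  (h3_frame_inv hF (h3_Be m lam cc) (h3_Je m) (h3_Be_gram hF lam cc hl hc)
    (h3_Je_sig (h3_q_ne_zero' hF) m) (h3_Je_mul_self m) (by simp; omega)).2

/-- **transport, even dimension**: `M ↦ B M B'` from the block model to `SU (2m) F q`. -/
noncomputable def h3_phiE (hF : Fintype.card F = q ^ 2) (m : ℕ) (lam cc : F)
    (hl : lam ^ (q + 1) = -1) (hc : cc ^ q + cc = -1) :
    h3_BU hF (h3_Je m : Matrix _ _ F) →* SU (2 * m) F q :=
  h3_phi hF (h3_Be m lam cc) (h3_Be' q m lam cc) (h3_Be_mul' hF lam cc hl hc)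
    (h3_Be'_mul hF lam cc hl hc) (h3_Je m) (h3_Be_gram hF lam cc hl hc)

theorem h3_phiE_injective (hF : Fintype.card F = q ^ 2) (m : ℕ) (lam cc : F)
    (hl : lam ^ (q + 1) = -1) (hc : cc ^ q + cc = -1) :
    Function.Injective (h3_phiE hF m lam cc hl hc) :=
  h3_phi_injective hF _ _ _ _ _ _

theorem h3_phiE_coe (hF : Fintype.card F = q ^ 2) (m : ℕ) (lam cc : F)
    (hl : lam ^ (q + 1) = -1) (hc : cc ^ q + cc = -1) (M : h3_BU hF (h3_Je m : Matrix _ _ F)) :
    (((h3_phiE hF m lam cc hl hc M : SU (2 * m) F q) :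
      Matrix.SpecialLinearGroup (Fin (2 * m)) F) : Matrix (Fin (2 * m)) (Fin (2 * m)) F)
      = h3_Be m lam cc * (M.1).1 * h3_Be' q m lam cc := rfl

end table

end Cfsg.Agent.LS3
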