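import Mathlib
import Cfsg.Agent.LS3.H3_FrameMatEven
import Cfsg.Agent.SUTri.H3_FrameInst

set_option autoImplicit false
set_option linter.unusedSectionVars false

/-!
# LS3 swarm piece (ii) (helper3): frame matrices in the shape requested by the architect

`h3_frame_even`, `h3_frame_odd`: invertible frame matrices `B` with hyperbolic Gram matrix
`Bᵀ σ(B)` for the standard Hermitian space of dimension `m + m` resp. `m + m + 1`.
-/

namespace Cfsg.Agent.LS3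

open Matrix Cfsg Cfsg.Agent.Helper7.Herm Cfsg.Agent.SUTri

variable {F : Type*} [Field F]

/-! ### odd dimension: the frame matrix of `SUTri/H3_Frame` -/

/-- the frame matrix in odd dimension: columns `e_i` (`inl (inl i)`), `f_i` (`inl (inr i)`),
`d` (`inr ()`). -/
def h3_Bo (m : ℕ) (lam cc : F) : Matrix (Fin (2 * m + 1)) ((Fin m ⊕ Fin m) ⊕ Unit) F :=
  fun k c => Sum.elim (Sum.elim (fun i : Fin m => h3_e m lam i.val k)
    (fun i : Fin m => h3_f m lam cc i.val k)) (fun _ => h3_d m k) c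

/-- the Gram matrix `diag([[0,1],[1,0]], 1)`. -/
def h3_Jo (m : ℕ) : Matrix ((Fin m ⊕ Fin m) ⊕ Unit) ((Fin m ⊕ Fin m) ⊕ Unit) F :=
  Matrix.fromBlocks (h3_Je m) 0 0 1

theorem h3_Bo_e (m : ℕ) (lam cc : F) (i : Fin m) :
    (fun k => h3_Bo m lam cc k (Sum.inl (Sum.inl i))) = h3_e m lam i.val := rfl

theorem h3_Bo_f (m : ℕ) (lam cc : F) (i : Fin m) :
    (fun k => h3_Bo m lam cc k (Sum.inl (Sum.inr i))) = h3_f m lam cc i.val := rfl

theorem h3_Bo_d (m : ℕ) (lam cc : F) (u : Unit) :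
    (fun k => h3_Bo m lam cc k (Sum.inr u)) = h3_d m := rfl

theorem h3_Jo_mul_self (m : ℕ) : (h3_Jo m : Matrix _ _ F) * h3_Jo m = 1 := by
  unfold h3_Jo
  rw [Matrix.fromBlocks_multiply, h3_Je_mul_self]
  simp

theorem h3_Jo_sig {q : ℕ} (hq : q ≠ 0) (m : ℕ) : h3_sig q (h3_Jo m : Matrix _ _ F) = h3_Jo m := by
  ext a b
  rw [h3_sig_apply]
  rcases a with (i | i) | i <;> rcases b with (j | j) | j <;>
    simp [h3_Jo, h3_Je, Matrix.one_apply, zero_pow hq, apply_ite (fun x : F => x ^ q)]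

section table

variable [Fintype F] {q : ℕ} {m : ℕ}

/-- **Gram identity** of the odd frame. -/
theorem h3_Bo_gram (hF : Fintype.card F = q ^ 2) (lam cc : F) (hl : lam ^ (q + 1) = -1)
    (hc : cc ^ q + cc = -1) : h3_gram q (h3_Bo m lam cc) = h3_Jo m := by
  ext a b
  rw [h3_gram_apply]
  rcases a with (i | i) | i <;> rcases b with (j | j) | j
  · rw [h3_Bo_e, h3_Bo_e, h3_ee hF lam hl]
    simp [h3_Jo, h3_Je]
  · rw [h3_Bo_e, h3_Bo_f, h3_ef' hF lam cc hl i.2]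
    simp [h3_Jo, h3_Je, Matrix.one_apply, Fin.ext_iff]
  · rw [h3_Bo_e, h3_Bo_d, h3_ed hF]
    simp [h3_Jo]
  · rw [h3_Bo_f, h3_Bo_e, h3_fe' hF lam cc hl i.2]
    simp [h3_Jo, h3_Je, Matrix.one_apply, Fin.ext_iff]
  · rw [h3_Bo_f, h3_Bo_f, h3_ff hF lam cc hl hc]
    simp [h3_Jo, h3_Je]
  · rw [h3_Bo_f, h3_Bo_d, h3_fd hF]
    simp [h3_Jo]
  · rw [h3_Bo_d, h3_Bo_e, h3_de hF]
    simp [h3_Jo]
  · rw [h3_Bo_d, h3_Bo_f, h3_df hF]
    simp [h3_Jo]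
  · show hermForm (2 * m + 1) F q (h3_d m) (h3_d m) = _
    rw [h3_dd hF]
    simp [h3_Jo]

/-- the inverse frame matrix `B' = J σ(B)ᵀ`. -/
def h3_Bo' (q : ℕ) (m : ℕ) (lam cc : F) : Matrix ((Fin m ⊕ Fin m) ⊕ Unit) (Fin (2 * m + 1)) F :=
  h3_Jo m * (h3_sig q (h3_Bo m lam cc))ᵀ

theorem h3_Bo_inv (hF : Fintype.card F = q ^ 2) (lam cc : F) (hl : lam ^ (q + 1) = -1)
    (hc : cc ^ q + cc = -1) :
    h3_Bo' q m lam cc * h3_Bo m lam cc = 1 ∧ h3_Bo m lam cc * h3_Bo' q m lam cc = 1 :=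
  h3_frame_inv hF (h3_Bo m lam cc) (h3_Jo m) (h3_Bo_gram hF lam cc hl hc)
    (h3_Jo_sig (h3_q_ne_zero' hF) m) (h3_Jo_mul_self m) (by simp; omega)

end table

/-! ### the architect's statements -/

section arch

variable [Fintype F] {q : ℕ}

theorem h3_frame_even_aux (hF : Fintype.card F = q ^ 2) (m n : ℕ) (hn : n = 2 * m) :
    ∃ (B : Matrix (Fin n) (Fin m ⊕ Fin m) F) (B' : Matrix (Fin m ⊕ Fin m) (Fin n) F),
      B * B' = 1 ∧ B' * B = 1 ∧ Bᵀ * B.map (· ^ q) = Matrix.fromBlocks 0 1 1 0 := by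
  subst hn
  have : Fact (Fintype.card F = q ^ 2) := ⟨hF⟩
  obtain ⟨lam, cc, hl, hc⟩ := h3_exists_params (F := F) (q := q)
  exact ⟨h3_Be m lam cc, h3_Be' q m lam cc, h3_Be_mul' hF lam cc hl hc,
    h3_Be'_mul hF lam cc hl hc, h3_Be_gram hF lam cc hl hc⟩

/-- **even frame** (architect's statement). -/
theorem h3_frame_even (hF : Fintype.card F = q ^ 2) (m : ℕ) :
    ∃ (B : Matrix (Fin (m + m)) (Fin m ⊕ Fin m) F)
      (B' : Matrix (Fin m ⊕ Fin m) (Fin (m + m)) F),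
      B * B' = 1 ∧ B' * B = 1 ∧ Bᵀ * B.map (· ^ q) = Matrix.fromBlocks 0 1 1 0 :=
  h3_frame_even_aux hF m (m + m) (two_mul m).symm

theorem h3_frame_odd_aux (hF : Fintype.card F = q ^ 2) (m n : ℕ) (hn : n = 2 * m + 1) :
    ∃ (B : Matrix (Fin n) ((Fin m ⊕ Fin m) ⊕ Unit) F)
      (B' : Matrix ((Fin m ⊕ Fin m) ⊕ Unit) (Fin n) F),
      B * B' = 1 ∧ B' * B = 1 ∧
        Bᵀ * B.map (· ^ q) = Matrix.fromBlocks (Matrix.fromBlocks 0 1 1 0) 0 0 1 := by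
  subst hn
  have : Fact (Fintype.card F = q ^ 2) := ⟨hF⟩
  obtain ⟨lam, cc, hl, hc⟩ := h3_exists_params (F := F) (q := q)
  exact ⟨h3_Bo m lam cc, h3_Bo' q m lam cc, (h3_Bo_inv hF lam cc hl hc).2,
    (h3_Bo_inv hF lam cc hl hc).1, h3_Bo_gram hF lam cc hl hc⟩

/-- **odd frame** (architect's statement). -/
theorem h3_frame_odd (hF : Fintype.card F = q ^ 2) (m : ℕ) :
    ∃ (B : Matrix (Fin (m + m + 1)) ((Fin m ⊕ Fin m) ⊕ Unit) F)
      (B' : Matrix ((Fin m ⊕ Fin m) ⊕ Unit) (Fin (m + m + 1)) F),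
      B * B' = 1 ∧ B' * B = 1 ∧
        Bᵀ * B.map (· ^ q) = Matrix.fromBlocks (Matrix.fromBlocks 0 1 1 0) 0 0 1 :=
  h3_frame_odd_aux hF m (m + m + 1) (by omega)

end arch

end Cfsg.Agent.LS3
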