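import Mathlib
import Cfsg.Prelude.Def_Classical
import Cfsg.Agent.Helper7.Hermitian
import Cfsg.Agent.Helper8.SUCenter
import Cfsg.Agent.LS3.H3_Transport
import Cfsg.Agent.LS3.H3_Frames

set_option autoImplicit false
set_option linter.unusedSectionVars false

/-!
# LS3 (S2334, S2335): base definitions (helper7, architect)

`ct q M` = conjugate transpose w.r.t. `x ↦ x ^ q`; transport of block matrices to `Cfsg.SU n F q`
along a frame `(B, B')` with Gram matrix `J`; the even block elements `uB S`, `dB q A Ai`.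
-/

namespace Cfsg.Agent.LS3

open Matrix Cfsg Cfsg.Agent.Helper7.Herm

variable {F : Type*} [Field F] [Fintype F] {q : ℕ}

/-- `x ↦ x ^ q` as a ring homomorphism (`|F| = q ^ 2`). -/
def sigH (hF : Fintype.card F = q ^ 2) : F →+* F where
  toFun x := x ^ q
  map_one' := one_pow q
  map_mul' a b := mul_pow a b q
  map_zero' := zero_pow (by have := one_le_q hF; omega)
  map_add' a b := add_pow_q hF a b

theorem sigH_apply (hF : Fintype.card F = q ^ 2) (x : F) : sigH hF x = x ^ q := rfl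

theorem map_pow_eq (hF : Fintype.card F = q ^ 2) {ι κ : Type*} (M : Matrix ι κ F) :
    M.map (· ^ q) = M.map (sigH hF) := rfl

/-- conjugate transpose (any rectangular matrix). -/
def ct (q : ℕ) {ι κ : Type*} (M : Matrix ι κ F) : Matrix κ ι F := (M.map (· ^ q))ᵀ

theorem ct_apply {ι κ : Type*} (M : Matrix ι κ F) (i : κ) (j : ι) : ct q M i j = M j i ^ q := rfl

theorem ct_eq (hF : Fintype.card F = q ^ 2) {ι κ : Type*} (M : Matrix ι κ F) :
    ct q M = (M.map (sigH hF))ᵀ := rfl

theorem map_mul_q (hF : Fintype.card F = q ^ 2) {ι κ μ : Type*} [Fintype κ]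
    (M : Matrix ι κ F) (N : Matrix κ μ F) :
    (M * N).map (· ^ q) = M.map (· ^ q) * N.map (· ^ q) := by
  rw [map_pow_eq hF, map_pow_eq hF, map_pow_eq hF, Matrix.map_mul]

theorem ct_mul (hF : Fintype.card F = q ^ 2) {ι κ μ : Type*} [Fintype κ]
    (M : Matrix ι κ F) (N : Matrix κ μ F) : ct q (M * N) = ct q N * ct q M := by
  unfold ct
  rw [map_mul_q hF, Matrix.transpose_mul]

theorem ct_add (hF : Fintype.card F = q ^ 2) {ι κ : Type*} (M N : Matrix ι κ F) :
    ct q (M + N) = ct q M + ct q N := by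
  ext i j
  simp only [ct_apply, Matrix.add_apply]
  exact add_pow_q hF _ _

theorem ct_zero (hF : Fintype.card F = q ^ 2) {ι κ : Type*} :
    ct q (0 : Matrix ι κ F) = 0 := by
  ext i j
  simp only [ct_apply, Matrix.zero_apply]
  exact zero_pow (by have := one_le_q hF; omega)

theorem ct_neg (hF : Fintype.card F = q ^ 2) {ι κ : Type*} (M : Matrix ι κ F) :
    ct q (-M) = -ct q M := by
  have h := ct_add hF M (-M)
  rw [add_neg_cancel, ct_zero hF] at h
  exact (neg_eq_of_add_eq_zero_right h.symm).symm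

theorem ct_sub (hF : Fintype.card F = q ^ 2) {ι κ : Type*} (M N : Matrix ι κ F) :
    ct q (M - N) = ct q M - ct q N := by
  rw [sub_eq_add_neg, ct_add hF, ct_neg hF, sub_eq_add_neg]

theorem ct_one (hF : Fintype.card F = q ^ 2) {ι : Type*} [DecidableEq ι] :
    ct q (1 : Matrix ι ι F) = 1 := by
  ext i j
  rw [ct_apply, Matrix.one_apply, Matrix.one_apply]
  by_cases h : i = j
  · subst h; simp
  · rw [if_neg h, if_neg (Ne.symm h)]
    exact zero_pow (by have := one_le_q hF; omega)

theorem ct_smul {ι κ : Type*} (c : F) (M : Matrix ι κ F) : ct q (c • M) = c ^ q • ct q M := by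
  ext i j
  simp only [ct_apply, Matrix.smul_apply, smul_eq_mul, mul_pow]

theorem ct_ct (hF : Fintype.card F = q ^ 2) {ι κ : Type*} (M : Matrix ι κ F) :
    ct q (ct q M) = M := by
  ext i j
  simp only [ct_apply]
  exact pow_q_pow_q hF _

theorem det_ct (hF : Fintype.card F = q ^ 2) {ι : Type*} [Fintype ι] [DecidableEq ι]
    (M : Matrix ι ι F) : (ct q M).det = M.det ^ q := by
  rw [ct_eq hF, Matrix.det_transpose, ← RingHom.mapMatrix_apply, ← RingHom.map_det, sigH_apply]

theorem map_ct (hF : Fintype.card F = q ^ 2) {ι κ : Type*} (M : Matrix ι κ F) :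
    (ct q M).map (· ^ q) = Mᵀ := by
  ext i j
  simp only [Matrix.map_apply, ct_apply, Matrix.transpose_apply]
  exact pow_q_pow_q hF _

theorem transpose_ct {ι κ : Type*} (M : Matrix ι κ F) : (ct q M)ᵀ = M.map (· ^ q) := rfl

/-! ### The even block model: index `Fin m ⊕ Fin m`, Gram `h3_Je m = [[0,1],[1,0]]` -/

section even

variable {m : ℕ}

/-- `u(S) = [[1,S],[0,1]]`. -/
def uB (S : Matrix (Fin m) (Fin m) F) : Matrix (Fin m ⊕ Fin m) (Fin m ⊕ Fin m) F :=
  fromBlocks 1 S 0 1

/-- `d(A) = diag(A, (A⁻¹)*)`, with `Ai` in the role of `A⁻¹`. -/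
def dB (q : ℕ) (A Ai : Matrix (Fin m) (Fin m) F) : Matrix (Fin m ⊕ Fin m) (Fin m ⊕ Fin m) F :=
  fromBlocks A 0 0 (ct q Ai)

theorem uB_mul (S S' : Matrix (Fin m) (Fin m) F) : uB S * uB S' = uB (S + S') := by
  unfold uB
  rw [fromBlocks_multiply]
  simp [add_comm]

theorem uB_zero : uB (0 : Matrix (Fin m) (Fin m) F) = 1 := by
  unfold uB
  exact fromBlocks_one

theorem det_uB (S : Matrix (Fin m) (Fin m) F) : (uB S).det = 1 := by
  unfold uB
  rw [det_fromBlocks_zero₂₁, det_one, one_mul]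

theorem uB_injective {S S' : Matrix (Fin m) (Fin m) F} (h : uB S = uB S') : S = S' := by
  unfold uB at h
  exact (fromBlocks_inj.mp h).2.1

theorem map_zero_q (hF : Fintype.card F = q ^ 2) {ι κ : Type*} :
    (0 : Matrix ι κ F).map (· ^ q) = 0 := by
  rw [map_pow_eq hF]; exact Matrix.map_zero _ (map_zero _)

theorem map_one_q (hF : Fintype.card F = q ^ 2) {ι : Type*} [DecidableEq ι] :
    (1 : Matrix ι ι F).map (· ^ q) = 1 := by
  rw [map_pow_eq hF]; exact Matrix.map_one _ (map_zero _) (map_one _)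

theorem uB_form (hF : Fintype.card F = q ^ 2) {S : Matrix (Fin m) (Fin m) F}
    (hS : ct q S = -S) : (uB S)ᵀ * h3_Je m * h3_sig q (uB S) = h3_Je m := by
  unfold uB h3_Je h3_sig
  rw [fromBlocks_transpose, fromBlocks_map, fromBlocks_multiply, fromBlocks_multiply,
    map_zero_q hF, map_one_q hF]
  have h1 : S.map (· ^ q) + Sᵀ = 0 := by
    have := congrArg Matrix.transpose hS
    rw [Matrix.transpose_neg, transpose_ct] at this
    rw [this]; simp
  simp [h1]

theorem dB_form (hF : Fintype.card F = q ^ 2) {A Ai : Matrix (Fin m) (Fin m) F}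
    (hA : Ai * A = 1) : (dB q A Ai)ᵀ * h3_Je m * h3_sig q (dB q A Ai) = h3_Je m := by
  unfold dB h3_Je h3_sig
  rw [fromBlocks_transpose, fromBlocks_map, fromBlocks_multiply, fromBlocks_multiply,
    map_zero_q hF, map_ct hF, transpose_ct]
  have h1 : Aᵀ * Aiᵀ = 1 := by rw [← Matrix.transpose_mul, hA, Matrix.transpose_one]
  have h2 : Ai.map (· ^ q) * A.map (· ^ q) = 1 := by
    rw [← map_mul_q hF, hA, map_one_q hF]
  simp [h1, h2]

theorem det_dB (hF : Fintype.card F = q ^ 2) (A Ai : Matrix (Fin m) (Fin m) F) :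
    (dB q A Ai).det = A.det * Ai.det ^ q := by
  unfold dB
  rw [det_fromBlocks_zero₂₁, det_ct hF]

theorem dB_mul (hF : Fintype.card F = q ^ 2) (A Ai C Ci : Matrix (Fin m) (Fin m) F) :
    dB q A Ai * dB q C Ci = dB q (A * C) (Ci * Ai) := by
  unfold dB
  rw [fromBlocks_multiply, ct_mul hF]
  simp

theorem dB_one (hF : Fintype.card F = q ^ 2) : dB q (1 : Matrix (Fin m) (Fin m) F) 1 = 1 := by
  unfold dB
  rw [ct_one hF]
  exact fromBlocks_one

/-- the basic relation `d(A) u(S) = u(A S A*) d(A)`. -/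
theorem dB_mul_uB (hF : Fintype.card F = q ^ 2) {A Ai : Matrix (Fin m) (Fin m) F}
    (hA : Ai * A = 1) (S : Matrix (Fin m) (Fin m) F) :
    dB q A Ai * uB S = uB (A * S * ct q A) * dB q A Ai := by
  unfold dB uB
  rw [fromBlocks_multiply, fromBlocks_multiply]
  have h : A * S * ct q A * ct q Ai = A * S := by
    rw [Matrix.mul_assoc, ← ct_mul hF, hA, ct_one hF, Matrix.mul_one]
  simp [h]

/-- `A S A*` is skew-Hermitian if `S` is. -/
theorem ct_conj_neg (hF : Fintype.card F = q ^ 2) {κ : Type*} [Fintype κ]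
    (A : Matrix κ (Fin m) F) {S : Matrix (Fin m) (Fin m) F} (hS : ct q S = -S) :
    ct q (A * S * ct q A) = -(A * S * ct q A) := by
  rw [ct_mul hF, ct_mul hF, ct_ct hF, hS]
  simp [Matrix.mul_assoc]

/-- `A T A*` is Hermitian if `T` is. -/
theorem ct_conj (hF : Fintype.card F = q ^ 2) {κ : Type*} [Fintype κ]
    (A : Matrix κ (Fin m) F) {T : Matrix (Fin m) (Fin m) F} (hT : ct q T = T) :
    ct q (A * T * ct q A) = A * T * ct q A := by
  rw [ct_mul hF, ct_mul hF, ct_ct hF, hT]
  simp [Matrix.mul_assoc]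

/-- `j • T` is skew-Hermitian if `T` is Hermitian and `j ^ q = -j`. -/
theorem ct_smul_skew {j : F} (hj : j ^ q + j = 0) {T : Matrix (Fin m) (Fin m) F}
    (hT : ct q T = T) : ct q (j • T) = -(j • T) := by
  rw [ct_smul, hT, eq_neg_of_add_eq_zero_left hj, neg_smul]

/-- `u(S)` as an element of the block unitary group. -/
def uE (hF : Fintype.card F = q ^ 2) (S : Matrix (Fin m) (Fin m) F) (hS : ct q S = -S) :
    h3_BU hF (h3_Je m : Matrix _ _ F) :=
  ⟨⟨uB S, det_uB S⟩, uB_form hF hS⟩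

theorem uE_coe (hF : Fintype.card F = q ^ 2) (S : Matrix (Fin m) (Fin m) F) (hS : ct q S = -S) :
    ((uE hF S hS).1 : Matrix (Fin m ⊕ Fin m) (Fin m ⊕ Fin m) F) = uB S := rfl

/-- `d(A)` as an element of the block unitary group (needs `det A * σ(det A⁻¹) = 1`). -/
def dE (hF : Fintype.card F = q ^ 2) (A Ai : Matrix (Fin m) (Fin m) F) (hA : Ai * A = 1)
    (hdet : A.det * Ai.det ^ q = 1) : h3_BU hF (h3_Je m : Matrix _ _ F) :=
  ⟨⟨dB q A Ai, by rw [det_dB hF]; exact hdet⟩, dB_form hF hA⟩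

theorem dE_coe (hF : Fintype.card F = q ^ 2) (A Ai : Matrix (Fin m) (Fin m) F) (hA : Ai * A = 1)
    (hdet : A.det * Ai.det ^ q = 1) :
    ((dE hF A Ai hA hdet).1 : Matrix (Fin m ⊕ Fin m) (Fin m ⊕ Fin m) F) = dB q A Ai := rfl

theorem uE_mul (hF : Fintype.card F = q ^ 2) (S S' : Matrix (Fin m) (Fin m) F)
    (hS : ct q S = -S) (hS' : ct q S' = -S') (hSS' : ct q (S + S') = -(S + S')) :
    uE hF S hS * uE hF S' hS' = uE hF (S + S') hSS' := by
  apply Subtype.ext
  apply Subtype.ext
  show uB S * uB S' = uB (S + S')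
  exact uB_mul S S'

theorem uE_congr (hF : Fintype.card F = q ^ 2) {S S' : Matrix (Fin m) (Fin m) F} (h : S = S')
    (hS : ct q S = -S) (hS' : ct q S' = -S') : uE hF S hS = uE hF S' hS' := by
  subst h; rfl

theorem uE_zero (hF : Fintype.card F = q ^ 2) (h0 : ct q (0 : Matrix (Fin m) (Fin m) F) = -0) :
    uE hF (0 : Matrix (Fin m) (Fin m) F) h0 = 1 := by
  apply Subtype.ext
  apply Subtype.ext
  show uB (0 : Matrix (Fin m) (Fin m) F) = 1
  exact uB_zero

/-- `d(A) u(S) = u(A S A*) d(A)` in the block unitary group. -/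
theorem dE_mul_uE (hF : Fintype.card F = q ^ 2) (A Ai : Matrix (Fin m) (Fin m) F)
    (hA : Ai * A = 1) (hdet : A.det * Ai.det ^ q = 1) (S : Matrix (Fin m) (Fin m) F)
    (hS : ct q S = -S) :
    dE hF A Ai hA hdet * uE hF S hS
      = uE hF (A * S * ct q A) (ct_conj_neg hF A hS) * dE hF A Ai hA hdet := by
  apply Subtype.ext
  apply Subtype.ext
  show dB q A Ai * uB S = uB (A * S * ct q A) * dB q A Ai
  exact dB_mul_uB hF hA S

end even

/-! ### Hermitian matrices as an additive group, and its characters -/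

section herm

variable {m : ℕ}

/-- The additive group of Hermitian `m × m` matrices. -/
def Hm (hF : Fintype.card F = q ^ 2) (m : ℕ) : AddSubgroup (Matrix (Fin m) (Fin m) F) where
  carrier := {T | ct q T = T}
  zero_mem' := ct_zero hF
  add_mem' := by
    intro a b ha hb
    show ct q (a + b) = a + b
    rw [ct_add hF, ha, hb]
  neg_mem' := by
    intro a ha
    show ct q (-a) = -a
    rw [ct_neg hF, ha]

theorem mem_Hm (hF : Fintype.card F = q ^ 2) (T : Matrix (Fin m) (Fin m) F) :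
    T ∈ Hm hF m ↔ ct q T = T := Iff.rfl

/-- The character `T₁ ↦ ψ (tr (T * T₁))` of the Hermitian matrices, for any matrix `T`. -/
def chiH (hF : Fintype.card F = q ^ 2) {K : Type*} [CommMonoid K] (ψ : Multiplicative F →* K)
    (T : Matrix (Fin m) (Fin m) F) : Multiplicative (Hm hF m) →* K where
  toFun x := ψ (Multiplicative.ofAdd (Matrix.trace (T * (Multiplicative.toAdd x).1)))
  map_one' := by
    show ψ (Multiplicative.ofAdd (Matrix.trace (T * ((0 : Hm hF m) : Matrix _ _ F)))) = 1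
    rw [AddSubgroup.coe_zero, Matrix.mul_zero, Matrix.trace_zero, ofAdd_zero, map_one]
  map_mul' := by
    intro x y
    show ψ (Multiplicative.ofAdd (Matrix.trace (T *
        ((Multiplicative.toAdd x + Multiplicative.toAdd y : Hm hF m) : Matrix _ _ F)))) = _
    rw [AddSubgroup.coe_add, Matrix.mul_add, Matrix.trace_add, ofAdd_add, map_mul]

theorem chiH_apply (hF : Fintype.card F = q ^ 2) {K : Type*} [CommMonoid K]
    (ψ : Multiplicative F →* K) (T : Matrix (Fin m) (Fin m) F) (x : Multiplicative (Hm hF m)) :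
    chiH hF ψ T x = ψ (Multiplicative.ofAdd (Matrix.trace (T * (Multiplicative.toAdd x).1))) :=
  rfl

/-- The unipotent radical as a homomorphic image of the Hermitian matrices:
`T₁ ↦ u(j • T₁)` (`j ^ q = -j`). -/
def UE (hF : Fintype.card F = q ^ 2) (m : ℕ) (j : F) (hj : j ^ q + j = 0) :
    Multiplicative (Hm hF m) →* h3_BU hF (h3_Je m : Matrix _ _ F) where
  toFun x := uE hF (j • (Multiplicative.toAdd x).1) (ct_smul_skew hj (Multiplicative.toAdd x).2)
  map_one' := by
    apply Subtype.ext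
    apply Subtype.ext
    show uB (j • ((0 : Hm hF m) : Matrix (Fin m) (Fin m) F)) = 1
    rw [AddSubgroup.coe_zero, smul_zero, uB_zero]
  map_mul' := by
    intro x y
    apply Subtype.ext
    apply Subtype.ext
    show uB (j • ((Multiplicative.toAdd x + Multiplicative.toAdd y : Hm hF m) :
        Matrix (Fin m) (Fin m) F))
      = uB (j • (Multiplicative.toAdd x).1) * uB (j • (Multiplicative.toAdd y).1)
    rw [uB_mul, AddSubgroup.coe_add, smul_add]

theorem UE_coe (hF : Fintype.card F = q ^ 2) (m : ℕ) (j : F) (hj : j ^ q + j = 0)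
    (x : Multiplicative (Hm hF m)) :
    ((UE hF m j hj x).1 : Matrix (Fin m ⊕ Fin m) (Fin m ⊕ Fin m) F)
      = uB (j • (Multiplicative.toAdd x).1) := rfl

end herm

/-! ### Non-central elements -/

section center

variable {n : ℕ} {ι : Type} [Fintype ι] [DecidableEq ι]

/-- If the transport of a block matrix is central in `SU n F q`, the block matrix is scalar. -/
theorem scalar_of_phi_mem_center (hF : Fintype.card F = q ^ 2) (hn : 1 ≤ n)
    (B : Matrix (Fin n) ι F) (B' : Matrix ι (Fin n) F) (h1 : B * B' = 1) (h2 : B' * B = 1)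
    (J : Matrix ι ι F) (hJ : h3_gram q B = J) (M : h3_BU hF J)
    (hM : h3_phi hF B B' h1 h2 J hJ M ∈ Subgroup.center (SU n F q)) :
    ∃ ζ : F, ((M.1 : Matrix.SpecialLinearGroup ι F) : Matrix ι ι F) = ζ • 1 := by
  obtain ⟨ζ, hζ, hζn, hz⟩ := Cfsg.Agent.Helper8.SUCenter.center_eq_scal hF hn _ hM
  refine ⟨ζ, ?_⟩
  have h3 : B * (M.1).1 * B' = ζ • (1 : Matrix (Fin n) (Fin n) F) := by
    have := congrArg (fun x : SU n F q => ((x.1 : Matrix.SpecialLinearGroup (Fin n) F) :
      Matrix (Fin n) (Fin n) F)) hz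
    exact this
  calc ((M.1 : Matrix.SpecialLinearGroup ι F) : Matrix ι ι F)
      = (B' * B) * (M.1).1 * (B' * B) := by rw [h2, Matrix.one_mul, Matrix.mul_one]
    _ = B' * (B * (M.1).1 * B') * B := by simp only [Matrix.mul_assoc]
    _ = ζ • 1 := by
        rw [h3, Matrix.mul_smul, Matrix.smul_mul, Matrix.mul_one, h2]

end center

end Cfsg.Agent.LS3
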