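import Mathlib

set_option autoImplicit false

/-! Splitting off the first two factors of `|GL_n(q)| = ∏ (q^n - q^i)`. -/

namespace Cfsg.Agent.LS3

theorem h1_prod_split (q m : ℕ) :
    ∏ i : Fin (m + 2), (q ^ (m + 2) - q ^ (i : ℕ))
      = (q ^ (m + 2) - 1) * (q ^ (m + 2) - q) *
        (q ^ (2 * m) * ∏ i : Fin m, (q ^ m - q ^ (i : ℕ))) := by
  rw [Fin.prod_univ_succ, Fin.prod_univ_succ]
  simp only [Fin.val_zero, pow_zero, Fin.val_succ, zero_add, pow_one]
  rw [mul_assoc]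
  congr 2
  have h : ∀ i : Fin m, q ^ (m + 2) - q ^ ((i : ℕ) + 1 + 1) = q ^ 2 * (q ^ m - q ^ (i : ℕ)) := by
    intro i
    rw [Nat.mul_sub, ← pow_add, ← pow_add]
    congr 1
    · rw [add_comm]
    · rw [add_comm 2]
  rw [Finset.prod_congr rfl (fun i _ => h i), Finset.prod_mul_distrib, Finset.prod_const,
    Finset.card_univ, Fintype.card_fin, ← pow_mul]

theorem h1_card_GL_split {F : Type*} [Field F] [Fintype F] (m : ℕ) :
    Nat.card (GL (Fin (m + 2)) F)
      = (Fintype.card F ^ (m + 2) - 1) * (Fintype.card F ^ (m + 2) - Fintype.card F) *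
        (Fintype.card F ^ (2 * m) * ∏ i : Fin m, (Fintype.card F ^ m - Fintype.card F ^ (i : ℕ))) := by
  rw [Matrix.card_GL_field, h1_prod_split]

theorem h1_card_GL_split' {F : Type*} [Field F] [Fintype F] (n : ℕ) (hn : 2 ≤ n) :
    Nat.card (GL (Fin n) F)
      = (Fintype.card F ^ n - 1) * (Fintype.card F ^ n - Fintype.card F) *
        (Fintype.card F ^ (2 * (n - 2)) *
          ∏ i : Fin (n - 2), (Fintype.card F ^ (n - 2) - Fintype.card F ^ (i : ℕ))) := by
  obtain ⟨m, rfl⟩ : ∃ m, n = m + 2 := ⟨n - 2, by omega⟩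
  exact h1_card_GL_split (F := F) m

end Cfsg.Agent.LS3
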