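import Mathlib
import Cfsg.Agent.LS3.H3_Transport

set_option autoImplicit false
set_option linter.unusedSectionVars false

/-!
# LS3 (helper3): the Siegel block elements of the even block model

Inside `h3_BU hF (fromBlocks 0 1 1 0)` (index `Fin m ⊕ Fin m`):
`h3_uS S = [[1,S],[0,1]]` for `S* = -S`, `h3_dA A A' = [[A,0],[0,A'*]]` for `A A' = 1`,
`det A ^ q = det A`, with `u(S) u(S') = u(S+S')` and `d(A) u(S) = u(A S A*) d(A)`.
(`X* := (X.map (· ^ q))ᵀ`.)
-/

namespace Cfsg.Agent.LS3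

open Matrix Cfsg Cfsg.Agent.Helper7.Herm

variable {F : Type*} [Field F]

/-- conjugate transpose `X* = σ(X)ᵀ`. -/
def h3_ct (q : ℕ) {α β : Type*} (M : Matrix α β F) : Matrix β α F := (h3_sig q M)ᵀ

theorem h3_ct_apply (q : ℕ) {α β : Type*} (M : Matrix α β F) (a : α) (b : β) :
    h3_ct q M b a = M a b ^ q := rfl

section finite

variable [Fintype F] {q : ℕ}

theorem h3_ct_mul (hF : Fintype.card F = q ^ 2) {α β γ : Type*} [Fintype β]
    (X : Matrix α β F) (Y : Matrix β γ F) : h3_ct q (X * Y) = h3_ct q Y * h3_ct q X := by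
  unfold h3_ct
  rw [h3_sig_mul hF, Matrix.transpose_mul]

theorem h3_ct_ct (hF : Fintype.card F = q ^ 2) {α β : Type*} (M : Matrix α β F) :
    h3_ct q (h3_ct q M) = M := by
  ext a b
  exact pow_q_pow_q hF _

theorem h3_ct_one (hF : Fintype.card F = q ^ 2) {α : Type*} [DecidableEq α] :
    h3_ct q (1 : Matrix α α F) = 1 := by
  unfold h3_ct
  rw [h3_sig_one (h3_q_ne_zero' hF), Matrix.transpose_one]

theorem h3_ct_add (hF : Fintype.card F = q ^ 2) {α β : Type*} (X Y : Matrix α β F) :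
    h3_ct q (X + Y) = h3_ct q X + h3_ct q Y := by
  ext a b
  exact add_pow_q hF _ _

theorem h3_ct_neg (hF : Fintype.card F = q ^ 2) {α β : Type*} (X : Matrix α β F) :
    h3_ct q (-X) = -h3_ct q X := by
  have h := h3_ct_add hF X (-X)
  rw [add_neg_cancel] at h
  have h0 : h3_ct q (0 : Matrix α β F) = 0 := by
    ext a b
    exact zero_pow (h3_q_ne_zero' hF)
  rw [h0] at h
  exact (neg_eq_of_add_eq_zero_right h.symm).symm

theorem h3_sig_zero (hF : Fintype.card F = q ^ 2) {α β : Type*} :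
    h3_sig q (0 : Matrix α β F) = 0 := by
  ext a b
  exact zero_pow (h3_q_ne_zero' hF)

theorem h3_sig_fromBlocks {α β γ δ : Type*} (A : Matrix α γ F) (B : Matrix α δ F)
    (C : Matrix β γ F) (D : Matrix β δ F) :
    h3_sig q (Matrix.fromBlocks A B C D)
      = Matrix.fromBlocks (h3_sig q A) (h3_sig q B) (h3_sig q C) (h3_sig q D) := by
  unfold h3_sig
  exact Matrix.fromBlocks_map A B C D _

variable {m : ℕ}

/-! ### `u(S)` -/

/-- the matrix identity behind `u(S) ∈ BU`. -/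
theorem h3_uS_unitary (hF : Fintype.card F = q ^ 2) (S : Matrix (Fin m) (Fin m) F)
    (hS : h3_ct q S = -S) :
    (Matrix.fromBlocks 1 S 0 1 : Matrix (Fin m ⊕ Fin m) (Fin m ⊕ Fin m) F)ᵀ
      * (Matrix.fromBlocks 0 1 1 0 : Matrix (Fin m ⊕ Fin m) (Fin m ⊕ Fin m) F)
      * h3_sig q (Matrix.fromBlocks 1 S 0 1 : Matrix (Fin m ⊕ Fin m) (Fin m ⊕ Fin m) F)
      = (Matrix.fromBlocks 0 1 1 0 : Matrix (Fin m ⊕ Fin m) (Fin m ⊕ Fin m) F) := by
  have hS' : h3_sig q S = -Sᵀ := by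
    have := congrArg Matrix.transpose hS
    unfold h3_ct at this
    rw [Matrix.transpose_transpose, Matrix.transpose_neg] at this
    exact this
  rw [h3_sig_fromBlocks, h3_sig_one (h3_q_ne_zero' hF), h3_sig_zero hF, hS',
    Matrix.fromBlocks_transpose, Matrix.fromBlocks_multiply, Matrix.fromBlocks_multiply]
  simp

/-- `u(S) = [[1,S],[0,1]]` in the special linear group. -/
def h3_uSL (S : Matrix (Fin m) (Fin m) F) : Matrix.SpecialLinearGroup (Fin m ⊕ Fin m) F :=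
  ⟨Matrix.fromBlocks 1 S 0 1, by rw [Matrix.det_fromBlocks_zero₂₁]; simp⟩

/-- `u(S) = [[1,S],[0,1]]`, `S* = -S`, in the block unitary group. -/
def h3_uS (hF : Fintype.card F = q ^ 2) (S : Matrix (Fin m) (Fin m) F) (hS : h3_ct q S = -S) :
    h3_BU hF (Matrix.fromBlocks 0 1 1 0 : Matrix (Fin m ⊕ Fin m) (Fin m ⊕ Fin m) F) :=
  ⟨h3_uSL S, h3_uS_unitary hF S hS⟩

theorem h3_uS_coe (hF : Fintype.card F = q ^ 2) (S : Matrix (Fin m) (Fin m) F)
    (hS : h3_ct q S = -S) : ((h3_uS hF S hS).1).1 = Matrix.fromBlocks 1 S 0 1 := rfl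

theorem h3_uS_mul (hF : Fintype.card F = q ^ 2) (S S' : Matrix (Fin m) (Fin m) F)
    (hS : h3_ct q S = -S) (hS' : h3_ct q S' = -S') (hSS' : h3_ct q (S + S') = -(S + S')) :
    h3_uS hF S hS * h3_uS hF S' hS' = h3_uS hF (S + S') hSS' := by
  apply Subtype.ext
  apply Subtype.ext
  show (Matrix.fromBlocks 1 S 0 1 : Matrix (Fin m ⊕ Fin m) (Fin m ⊕ Fin m) F)
      * Matrix.fromBlocks 1 S' 0 1 = Matrix.fromBlocks 1 (S + S') 0 1
  rw [Matrix.fromBlocks_multiply]
  simp [add_comm]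

theorem h3_skew_add (hF : Fintype.card F = q ^ 2) {S S' : Matrix (Fin m) (Fin m) F}
    (hS : h3_ct q S = -S) (hS' : h3_ct q S' = -S') : h3_ct q (S + S') = -(S + S') := by
  rw [h3_ct_add hF, hS, hS', neg_add]

theorem h3_uS_eq_one_iff (hF : Fintype.card F = q ^ 2) (S : Matrix (Fin m) (Fin m) F)
    (hS : h3_ct q S = -S) : h3_uS hF S hS = 1 ↔ S = 0 := by
  constructor
  · intro h
    have h1 : ((h3_uS hF S hS).1).1 = ((1 : h3_BU hF
        (Matrix.fromBlocks 0 1 1 0 : Matrix (Fin m ⊕ Fin m) (Fin m ⊕ Fin m) F)).1).1 := by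
      rw [h]
    rw [h3_uS_coe, Subgroup.coe_one, Matrix.SpecialLinearGroup.coe_one,
      ← Matrix.fromBlocks_one] at h1
    exact (Matrix.fromBlocks_inj.1 h1).2.1
  · intro h
    subst h
    apply Subtype.ext
    apply Subtype.ext
    show (Matrix.fromBlocks 1 0 0 1 : Matrix (Fin m ⊕ Fin m) (Fin m ⊕ Fin m) F) = 1
    exact Matrix.fromBlocks_one

/-! ### `d(A)` -/

/-- the matrix identity behind `d(A) ∈ BU`. -/
theorem h3_dA_unitary (hF : Fintype.card F = q ^ 2) (A A' : Matrix (Fin m) (Fin m) F)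
    (hAA' : A * A' = 1) :
    (Matrix.fromBlocks A 0 0 (h3_ct q A') : Matrix (Fin m ⊕ Fin m) (Fin m ⊕ Fin m) F)ᵀ
      * (Matrix.fromBlocks 0 1 1 0 : Matrix (Fin m ⊕ Fin m) (Fin m ⊕ Fin m) F)
      * h3_sig q (Matrix.fromBlocks A 0 0 (h3_ct q A') : Matrix (Fin m ⊕ Fin m) (Fin m ⊕ Fin m) F)
      = (Matrix.fromBlocks 0 1 1 0 : Matrix (Fin m ⊕ Fin m) (Fin m ⊕ Fin m) F) := by
  have hA'A : A' * A = 1 := (_root_.mul_eq_one_comm).1 hAA'
  have e1 : Aᵀ * h3_sig q (h3_ct q A') = 1 := by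
    have : h3_sig q (h3_ct q A') = A'ᵀ := by
      unfold h3_ct
      rw [h3_sig_transpose, h3_sig_sig hF]
    rw [this, ← Matrix.transpose_mul, hA'A, Matrix.transpose_one]
  have e2 : (h3_ct q A')ᵀ * h3_sig q A = 1 := by
    unfold h3_ct
    rw [Matrix.transpose_transpose, ← h3_sig_mul hF, hA'A, h3_sig_one (h3_q_ne_zero' hF)]
  rw [h3_sig_fromBlocks, h3_sig_zero hF, Matrix.fromBlocks_transpose,
    Matrix.fromBlocks_multiply, Matrix.fromBlocks_multiply]
  simp [e1, e2]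

theorem h3_det_sig (hF : Fintype.card F = q ^ 2) {α : Type*} [Fintype α] [DecidableEq α]
    (A : Matrix α α F) : (h3_sig q A).det = A.det ^ q := by
  obtain ⟨p, k, hp, hc, rfl⟩ := exists_char_pow hF
  have : Fact p.Prime := ⟨hp⟩
  have h := RingHom.map_det (iterateFrobenius F p k) A
  rw [iterateFrobenius_def] at h
  rw [h]
  congr 1

theorem h3_det_ct (hF : Fintype.card F = q ^ 2) {α : Type*} [Fintype α] [DecidableEq α]
    (A : Matrix α α F) : (h3_ct q A).det = A.det ^ q := by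
  unfold h3_ct
  rw [Matrix.det_transpose, h3_det_sig hF]

/-- `d(A) = [[A,0],[0,A'*]]` (`A A' = 1`, `det A ^ q = det A`) in the special linear group. -/
def h3_dSL (hF : Fintype.card F = q ^ 2) (A A' : Matrix (Fin m) (Fin m) F) (hAA' : A * A' = 1)
    (hdet : A.det ^ q = A.det) : Matrix.SpecialLinearGroup (Fin m ⊕ Fin m) F :=
  ⟨Matrix.fromBlocks A 0 0 (h3_ct q A'), by
    rw [Matrix.det_fromBlocks_zero₂₁, h3_det_ct hF]
    have h1 : A.det * A'.det = 1 := by rw [← Matrix.det_mul, hAA', Matrix.det_one]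
    have h2 : (A.det * A'.det) ^ q = 1 := by rw [h1, one_pow]
    rw [mul_pow, hdet] at h2
    have hA0 : A.det ≠ 0 := fun h0 => by rw [h0, zero_mul] at h1; exact zero_ne_one h1
    have h3 : A'.det ^ q = A'.det := by
      apply mul_left_cancel₀ hA0
      rw [h2, h1]
    rw [h3, h1]⟩

/-- `d(A)` in the block unitary group. -/
def h3_dA (hF : Fintype.card F = q ^ 2) (A A' : Matrix (Fin m) (Fin m) F) (hAA' : A * A' = 1)
    (hdet : A.det ^ q = A.det) :
    h3_BU hF (Matrix.fromBlocks 0 1 1 0 : Matrix (Fin m ⊕ Fin m) (Fin m ⊕ Fin m) F) :=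
  ⟨h3_dSL hF A A' hAA' hdet, h3_dA_unitary hF A A' hAA'⟩

theorem h3_dA_coe (hF : Fintype.card F = q ^ 2) (A A' : Matrix (Fin m) (Fin m) F)
    (hAA' : A * A' = 1) (hdet : A.det ^ q = A.det) :
    ((h3_dA hF A A' hAA' hdet).1).1 = Matrix.fromBlocks A 0 0 (h3_ct q A') := rfl

/-- `A S A*` is skew-Hermitian if `S` is. -/
theorem h3_skew_conj (hF : Fintype.card F = q ^ 2) (A S : Matrix (Fin m) (Fin m) F)
    (hS : h3_ct q S = -S) : h3_ct q (A * S * h3_ct q A) = -(A * S * h3_ct q A) := by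
  rw [h3_ct_mul hF, h3_ct_mul hF, h3_ct_ct hF, hS]
  simp [Matrix.mul_assoc]

/-- **the Levi relation** `d(A) u(S) = u(A S A*) d(A)`. -/
theorem h3_dA_mul_uS (hF : Fintype.card F = q ^ 2) (A A' : Matrix (Fin m) (Fin m) F)
    (hAA' : A * A' = 1) (hdet : A.det ^ q = A.det) (S : Matrix (Fin m) (Fin m) F)
    (hS : h3_ct q S = -S) :
    h3_dA hF A A' hAA' hdet * h3_uS hF S hS
      = h3_uS hF (A * S * h3_ct q A) (h3_skew_conj hF A S hS) * h3_dA hF A A' hAA' hdet := by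
  apply Subtype.ext
  apply Subtype.ext
  show (Matrix.fromBlocks A 0 0 (h3_ct q A') : Matrix (Fin m ⊕ Fin m) (Fin m ⊕ Fin m) F)
      * Matrix.fromBlocks 1 S 0 1
      = Matrix.fromBlocks 1 (A * S * h3_ct q A) 0 1 * Matrix.fromBlocks A 0 0 (h3_ct q A')
  rw [Matrix.fromBlocks_multiply, Matrix.fromBlocks_multiply]
  have hA'A : A' * A = 1 := (_root_.mul_eq_one_comm).1 hAA'
  have e : A * S * h3_ct q A * h3_ct q A' = A * S := by
    rw [Matrix.mul_assoc (A * S), ← h3_ct_mul hF, hA'A, h3_ct_one hF, Matrix.mul_one]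
  simp [e]

end finite

end Cfsg.Agent.LS3
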