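import Mathlib
import Cfsg.Agent.LS3.H3_BlockEven

set_option autoImplicit false
set_option linter.unusedSectionVars false
set_option linter.unusedVariables false

/-!
# LS3 (helper2): the block elements of the odd block model

Index `(Fin m ⊕ Fin m) ⊕ Unit`, Gram matrix `J = [[0,1,0],[1,0,0],[0,0,1]]`.
`v(a,S) = [[1,S,a],[0,1,0],[0,-a*,1]]` for `S + S* = -(a a*)` (`a` a column),
`d(A,λ) = diag(A, A'*, λ)`.
-/

namespace Cfsg.Agent.LS3

open Matrix Cfsg Cfsg.Agent.Helper7.Herm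

variable {F : Type*} [Field F] {m : ℕ}

/-- index type of the odd block model. -/
abbrev h2_I (m : ℕ) : Type := (Fin m ⊕ Fin m) ⊕ Unit

/-- Gram matrix of the odd block model. -/
def h2_J (F : Type*) [Field F] (m : ℕ) : Matrix (h2_I m) (h2_I m) F :=
  Matrix.fromBlocks (Matrix.fromBlocks 0 1 1 0) 0 0 1

/-- the column `[a; 0]`. -/
def h2_col (a : Matrix (Fin m) Unit F) : Matrix (Fin m ⊕ Fin m) Unit F := Matrix.fromRows a 0

/-- the row `[0, b]`. -/
def h2_row (b : Matrix Unit (Fin m) F) : Matrix Unit (Fin m ⊕ Fin m) F := Matrix.fromCols 0 b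

/-- the matrix of `v(a,S)`. -/
def h2_vM (q : ℕ) (a : Matrix (Fin m) Unit F) (S : Matrix (Fin m) (Fin m) F) :
    Matrix (h2_I m) (h2_I m) F :=
  Matrix.fromBlocks (Matrix.fromBlocks 1 S 0 1) (h2_col a) (h2_row (-(h3_ct q a))) 1

theorem h2_col_add (a a' : Matrix (Fin m) Unit F) : h2_col a + h2_col a' = h2_col (a + a') := by
  ext (i | i) j <;> simp [h2_col]

theorem h2_row_add (b b' : Matrix Unit (Fin m) F) : h2_row b + h2_row b' = h2_row (b + b') := by
  ext i (j | j) <;> simp [h2_row]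

theorem h2_col_mul_row (a : Matrix (Fin m) Unit F) (b : Matrix Unit (Fin m) F) :
    h2_col a * h2_row b = Matrix.fromBlocks 0 (a * b) 0 0 := by
  unfold h2_col h2_row
  rw [Matrix.fromRows_mul_fromCols]
  simp

theorem h2_row_mul_col (a : Matrix (Fin m) Unit F) (b : Matrix Unit (Fin m) F) :
    h2_row b * h2_col a = 0 := by
  unfold h2_col h2_row
  rw [Matrix.fromCols_mul_fromRows]
  simp

theorem h2_E_mul_col (S : Matrix (Fin m) (Fin m) F) (a : Matrix (Fin m) Unit F) :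
    (Matrix.fromBlocks 1 S 0 1 : Matrix (Fin m ⊕ Fin m) (Fin m ⊕ Fin m) F) * h2_col a = h2_col a := by
  unfold h2_col
  rw [Matrix.fromBlocks_mul_fromRows]
  simp

theorem h2_row_mul_E (S : Matrix (Fin m) (Fin m) F) (b : Matrix Unit (Fin m) F) :
    h2_row b * (Matrix.fromBlocks 1 S 0 1 : Matrix (Fin m ⊕ Fin m) (Fin m ⊕ Fin m) F) = h2_row b := by
  unfold h2_row
  rw [Matrix.fromCols_mul_fromBlocks]
  simp

section finite

variable [Fintype F] {q : ℕ}

/-- **group law** `v(a,S) v(a',S') = v(a + a', S + S' - a a'*)`. -/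
theorem h2_vM_mul (hF : Fintype.card F = q ^ 2) (a a' : Matrix (Fin m) Unit F)
    (S S' : Matrix (Fin m) (Fin m) F) :
    h2_vM q a S * h2_vM q a' S' = h2_vM q (a + a') (S + S' - a * h3_ct q a') := by
  unfold h2_vM
  rw [Matrix.fromBlocks_multiply, h2_col_mul_row, h2_E_mul_col, h2_row_mul_E, h2_row_mul_col,
    Matrix.fromBlocks_multiply, Matrix.fromBlocks_add]
  simp only [Matrix.mul_one, Matrix.one_mul, Matrix.mul_zero, Matrix.zero_mul, add_zero, zero_add]
  rw [h2_row_add, ← neg_add, ← h3_ct_add hF, add_comm (h2_col a'), h2_col_add, Matrix.mul_neg]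
  congr 2
  abel

theorem h2_vM_det (a : Matrix (Fin m) Unit F) (S : Matrix (Fin m) (Fin m) F) :
    (h2_vM q a S).det = 1 := by
  unfold h2_vM
  rw [Matrix.det_fromBlocks_one₂₂, h2_col_mul_row]
  have : (Matrix.fromBlocks 1 S 0 1 : Matrix (Fin m ⊕ Fin m) (Fin m ⊕ Fin m) F)
      - Matrix.fromBlocks 0 (a * -h3_ct q a) 0 0
      = Matrix.fromBlocks 1 (S - a * -h3_ct q a) 0 1 := by
    ext (i | i) (j | j) <;> simp
  rw [this, Matrix.det_fromBlocks_zero₂₁]
  simp

theorem h2_vM_zero (hF : Fintype.card F = q ^ 2) :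
    h2_vM q (0 : Matrix (Fin m) Unit F) (0 : Matrix (Fin m) (Fin m) F) = 1 := by
  unfold h2_vM h2_col h2_row
  have h0 : h3_ct q (0 : Matrix (Fin m) Unit F) = 0 := by
    ext i j
    exact zero_pow (h3_q_ne_zero' hF)
  rw [h0, neg_zero, Matrix.fromRows_zero, Matrix.fromCols_zero, Matrix.fromBlocks_one,
    Matrix.fromBlocks_one]

theorem h2_sig_neg (hF : Fintype.card F = q ^ 2) {α β : Type*} (X : Matrix α β F) :
    h3_sig q (-X) = -h3_sig q X := by
  have h := congrArg Matrix.transpose (h3_ct_neg hF X)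
  unfold h3_ct at h
  rw [Matrix.transpose_transpose, Matrix.transpose_neg, Matrix.transpose_transpose] at h
  exact h

theorem h2_sig_fromRows {α β γ : Type*} (A : Matrix α γ F) (B : Matrix β γ F) :
    h3_sig q (Matrix.fromRows A B) = Matrix.fromRows (h3_sig q A) (h3_sig q B) := by
  unfold h3_sig
  exact Matrix.fromRows_map A B _

theorem h2_sig_fromCols {α β γ : Type*} (A : Matrix α β F) (B : Matrix α γ F) :
    h3_sig q (Matrix.fromCols A B) = Matrix.fromCols (h3_sig q A) (h3_sig q B) := by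
  unfold h3_sig
  exact Matrix.fromCols_map A B _

/-- the matrix identity behind `v(a,S) ∈ BU`. -/
theorem h2_vM_unitary (hF : Fintype.card F = q ^ 2) (a : Matrix (Fin m) Unit F)
    (S : Matrix (Fin m) (Fin m) F) (h : S + h3_ct q S = -(a * h3_ct q a)) :
    (h2_vM q a S)ᵀ * h2_J F m * h3_sig q (h2_vM q a S) = h2_J F m := by
  have hq0 := h3_q_ne_zero' hF
  -- transposed form of the hypothesis
  have h' : h3_sig q S + Sᵀ + h3_sig q a * aᵀ = 0 := by
    have h1 := congrArg Matrix.transpose h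
    unfold h3_ct at h1
    rw [Matrix.transpose_add, Matrix.transpose_transpose, Matrix.transpose_neg,
      Matrix.transpose_mul, Matrix.transpose_transpose] at h1
    rw [add_comm (h3_sig q S), h1, neg_add_cancel]
  have hca : (h3_ct q a)ᵀ = h3_sig q a := by
    unfold h3_ct
    rw [Matrix.transpose_transpose]
  have hsa : h3_sig q (h3_ct q a) = aᵀ := by
    unfold h3_ct
    rw [h3_sig_transpose, h3_sig_sig hF]
  unfold h2_vM h2_J h2_col h2_row
  rw [h3_sig_fromBlocks, h3_sig_fromBlocks, h3_sig_one hq0, h3_sig_one hq0, h3_sig_zero hF,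
    h2_sig_fromRows, h2_sig_fromCols, h3_sig_zero hF, h3_sig_zero hF, h2_sig_neg hF, hsa,
    Matrix.fromBlocks_transpose, Matrix.fromBlocks_transpose, Matrix.transpose_fromRows,
    Matrix.transpose_fromCols, Matrix.transpose_neg, hca, Matrix.fromBlocks_multiply,
    Matrix.fromBlocks_multiply]
  simp only [Matrix.transpose_one, Matrix.transpose_zero, Matrix.mul_zero, Matrix.zero_mul,
    Matrix.mul_one, Matrix.one_mul, add_zero, zero_add]
  simp only [Matrix.fromBlocks_multiply, Matrix.fromRows_mul_fromCols,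
    Matrix.fromBlocks_mul_fromRows, Matrix.fromCols_mul_fromBlocks, Matrix.fromCols_mul_fromRows,
    Matrix.mul_zero, Matrix.zero_mul, Matrix.mul_one, Matrix.one_mul, add_zero, zero_add,
    Matrix.fromBlocks_add, Matrix.neg_mul, Matrix.mul_neg, neg_neg]
  rw [h']
  have e1 : (Matrix.fromRows (0 : Matrix (Fin m) Unit F) (h3_sig q a))
      + Matrix.fromRows 0 (-h3_sig q a) = 0 := by
    ext (i | i) j <;> simp
  have e2 : (Matrix.fromCols (0 : Matrix Unit (Fin m) F) aᵀ) + Matrix.fromCols 0 (-aᵀ) = 0 := by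
    ext i (j | j) <;> simp
  rw [e1, e2, neg_zero, add_zero]

/-- `v(a,S)` in the special linear group. -/
def h2_vSL (q : ℕ) (a : Matrix (Fin m) Unit F) (S : Matrix (Fin m) (Fin m) F) :
    Matrix.SpecialLinearGroup (h2_I m) F := ⟨h2_vM q a S, h2_vM_det a S⟩

/-- `v(a,S)`, `S + S* = -(a a*)`, in the block unitary group. -/
def h2_v (hF : Fintype.card F = q ^ 2) (a : Matrix (Fin m) Unit F) (S : Matrix (Fin m) (Fin m) F)
    (h : S + h3_ct q S = -(a * h3_ct q a)) : h3_BU hF (h2_J F m) :=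
  ⟨h2_vSL q a S, h2_vM_unitary hF a S h⟩

theorem h2_v_coe (hF : Fintype.card F = q ^ 2) (a : Matrix (Fin m) Unit F)
    (S : Matrix (Fin m) (Fin m) F) (h : S + h3_ct q S = -(a * h3_ct q a)) :
    ((h2_v hF a S h).1).1 = h2_vM q a S := rfl

theorem h2_ct_sub (hF : Fintype.card F = q ^ 2) {α β : Type*} (X Y : Matrix α β F) :
    h3_ct q (X - Y) = h3_ct q X - h3_ct q Y := by
  rw [sub_eq_add_neg, h3_ct_add hF, h3_ct_neg hF, ← sub_eq_add_neg]

theorem h2_ct_zero (hF : Fintype.card F = q ^ 2) {α β : Type*} :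
    h3_ct q (0 : Matrix α β F) = 0 := by
  ext i j
  exact zero_pow (h3_q_ne_zero' hF)

/-- the condition `S + S* = -(a a*)` is closed under the group law. -/
theorem h2_cond_mul (hF : Fintype.card F = q ^ 2) {a a' : Matrix (Fin m) Unit F}
    {S S' : Matrix (Fin m) (Fin m) F} (h : S + h3_ct q S = -(a * h3_ct q a))
    (h' : S' + h3_ct q S' = -(a' * h3_ct q a')) :
    (S + S' - a * h3_ct q a') + h3_ct q (S + S' - a * h3_ct q a')
      = -((a + a') * h3_ct q (a + a')) := by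
  rw [h2_ct_sub hF, h3_ct_add hF, h3_ct_mul hF, h3_ct_ct hF, h3_ct_add hF, Matrix.add_mul,
    Matrix.mul_add, Matrix.mul_add]
  have e : S + S' - a * h3_ct q a' + (h3_ct q S + h3_ct q S' - a' * h3_ct q a)
      = (S + h3_ct q S) + (S' + h3_ct q S') - a * h3_ct q a' - a' * h3_ct q a := by abel
  rw [e, h, h']
  abel

/-- **group law** in `BU`. -/
theorem h2_v_mul (hF : Fintype.card F = q ^ 2) (a a' : Matrix (Fin m) Unit F)
    (S S' : Matrix (Fin m) (Fin m) F) (h : S + h3_ct q S = -(a * h3_ct q a))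
    (h' : S' + h3_ct q S' = -(a' * h3_ct q a')) :
    h2_v hF a S h * h2_v hF a' S' h'
      = h2_v hF (a + a') (S + S' - a * h3_ct q a') (h2_cond_mul hF h h') := by
  apply Subtype.ext
  apply Subtype.ext
  exact h2_vM_mul hF a a' S S'

theorem h2_vM_inj {a a' : Matrix (Fin m) Unit F} {S S' : Matrix (Fin m) (Fin m) F}
    (h : h2_vM q a S = h2_vM q a' S') : a = a' ∧ S = S' := by
  unfold h2_vM h2_col at h
  have h1 := Matrix.fromBlocks_inj.1 h
  have h2 := Matrix.fromBlocks_inj.1 h1.1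
  have h3 := Matrix.fromRows_inj h1.2.1
  exact ⟨h3.1, h2.2.1⟩

theorem h2_v_eq_one_iff (hF : Fintype.card F = q ^ 2) (a : Matrix (Fin m) Unit F)
    (S : Matrix (Fin m) (Fin m) F) (h : S + h3_ct q S = -(a * h3_ct q a)) :
    h2_v hF a S h = 1 ↔ a = 0 ∧ S = 0 := by
  constructor
  · intro h1
    have h2 : ((h2_v hF a S h).1).1 = ((1 : h3_BU hF (h2_J F m)).1).1 := by rw [h1]
    rw [h2_v_coe, Subgroup.coe_one, Matrix.SpecialLinearGroup.coe_one, ← h2_vM_zero hF] at h2
    exact h2_vM_inj h2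
  · rintro ⟨rfl, rfl⟩
    apply Subtype.ext
    apply Subtype.ext
    exact h2_vM_zero hF

/-- **commutator relation** `v(a,S) v(a',S') = v(a',S') v(a,S) v(0, a' a* - a a'*)`. -/
theorem h2_vM_comm (hF : Fintype.card F = q ^ 2) (a a' : Matrix (Fin m) Unit F)
    (S S' : Matrix (Fin m) (Fin m) F) :
    h2_vM q a S * h2_vM q a' S'
      = h2_vM q a' S' * h2_vM q a S * h2_vM q 0 (a' * h3_ct q a - a * h3_ct q a') := by
  rw [h2_vM_mul hF, h2_vM_mul hF, h2_vM_mul hF, h2_ct_zero hF, Matrix.mul_zero, sub_zero, add_zero,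
    add_comm a' a]
  congr 1
  abel

/-- `v(0,C)` commutes with every `v(a,S)`. -/
theorem h2_vM_central (hF : Fintype.card F = q ^ 2) (a : Matrix (Fin m) Unit F)
    (S C : Matrix (Fin m) (Fin m) F) :
    h2_vM q 0 C * h2_vM q a S = h2_vM q a S * h2_vM q 0 C := by
  rw [h2_vM_mul hF, h2_vM_mul hF, h2_ct_zero hF, Matrix.mul_zero, Matrix.zero_mul, sub_zero,
    sub_zero, add_zero, zero_add, add_comm]

/-! ### `d(A, λ)` -/

/-- the matrix of `d(A,λ) = diag(A, A'*, λ)`. -/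
def h2_dM (q : ℕ) (A A' : Matrix (Fin m) (Fin m) F) (lam : F) : Matrix (h2_I m) (h2_I m) F :=
  Matrix.fromBlocks (Matrix.fromBlocks A 0 0 (h3_ct q A')) 0 0 (lam • (1 : Matrix Unit Unit F))

theorem h2_dM_det (hF : Fintype.card F = q ^ 2) (A A' : Matrix (Fin m) (Fin m) F) (lam : F)
    (hdet : A.det * A'.det ^ q * lam = 1) : (h2_dM q A A' lam).det = 1 := by
  unfold h2_dM
  rw [Matrix.det_fromBlocks_zero₂₁, Matrix.det_fromBlocks_zero₂₁, h3_det_ct hF]
  simp only [Matrix.det_smul, Fintype.card_unit, pow_one, Matrix.det_one, mul_one]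
  exact hdet

theorem h2_dM_unitary (hF : Fintype.card F = q ^ 2) (A A' : Matrix (Fin m) (Fin m) F)
    (hAA' : A * A' = 1) (lam : F) (hl : lam * lam ^ q = 1) :
    (h2_dM q A A' lam)ᵀ * h2_J F m * h3_sig q (h2_dM q A A' lam) = h2_J F m := by
  have hq0 := h3_q_ne_zero' hF
  have hev := h3_dA_unitary hF A A' hAA'
  have hs : h3_sig q (lam • (1 : Matrix Unit Unit F)) = lam ^ q • (1 : Matrix Unit Unit F) := by
    ext i j
    simp [hq0]
  unfold h2_dM h2_J
  rw [h3_sig_fromBlocks, h3_sig_zero hF, h3_sig_zero hF, hs, Matrix.fromBlocks_transpose,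
    Matrix.fromBlocks_multiply, Matrix.fromBlocks_multiply]
  simp only [Matrix.transpose_zero, Matrix.mul_zero, Matrix.zero_mul, Matrix.mul_one,
    add_zero, zero_add, hev]
  congr 1
  ext i j
  simp only [Matrix.transpose_smul, Matrix.transpose_one, Matrix.smul_mul, Matrix.mul_smul,
    Matrix.one_mul, Matrix.smul_apply, Matrix.one_apply_eq, smul_eq_mul, mul_one]
  rw [mul_comm]
  exact hl

/-- `d(A,λ)` in the special linear group. -/
def h2_dSL (hF : Fintype.card F = q ^ 2) (A A' : Matrix (Fin m) (Fin m) F) (lam : F)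
    (hdet : A.det * A'.det ^ q * lam = 1) : Matrix.SpecialLinearGroup (h2_I m) F :=
  ⟨h2_dM q A A' lam, h2_dM_det hF A A' lam hdet⟩

/-- `d(A,λ)` (`A A' = 1`, `λ λ^q = 1`, `det A · (det A')^q · λ = 1`) in the block unitary group. -/
def h2_d (hF : Fintype.card F = q ^ 2) (A A' : Matrix (Fin m) (Fin m) F) (hAA' : A * A' = 1)
    (lam : F) (hl : lam * lam ^ q = 1) (hdet : A.det * A'.det ^ q * lam = 1) :
    h3_BU hF (h2_J F m) :=
  ⟨h2_dSL hF A A' lam hdet, h2_dM_unitary hF A A' hAA' lam hl⟩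

theorem h2_d_coe (hF : Fintype.card F = q ^ 2) (A A' : Matrix (Fin m) (Fin m) F)
    (hAA' : A * A' = 1) (lam : F) (hl : lam * lam ^ q = 1)
    (hdet : A.det * A'.det ^ q * lam = 1) :
    ((h2_d hF A A' hAA' lam hl hdet).1).1 = h2_dM q A A' lam := rfl

/-- **Levi relation** at the matrix level:
`d(A,λ) v(a,S) = v(λ⁻¹ A a, A S A*) d(A,λ)` (with `μ = λ⁻¹`). -/
theorem h2_dM_mul_vM (hF : Fintype.card F = q ^ 2) (A A' : Matrix (Fin m) (Fin m) F)
    (hAA' : A * A' = 1) (lam mu : F) (hl : lam * lam ^ q = 1) (hmu : mu * lam = 1)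
    (a : Matrix (Fin m) Unit F) (S : Matrix (Fin m) (Fin m) F) :
    h2_dM q A A' lam * h2_vM q a S
      = h2_vM q (mu • (A * a)) (A * S * h3_ct q A) * h2_dM q A A' lam := by
  have hA'A : A' * A = 1 := (_root_.mul_eq_one_comm).1 hAA'
  have e : A * S * h3_ct q A * h3_ct q A' = A * S := by
    rw [Matrix.mul_assoc (A * S), ← h3_ct_mul hF, hA'A, h3_ct_one hF, Matrix.mul_one]
  have hmuq : mu ^ q = lam := by
    have h1 : (mu * lam) ^ q = 1 := by rw [hmu, one_pow]
    rw [mul_pow] at h1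
    have hl0 : lam ^ q ≠ 0 := fun h0 => by rw [h0, mul_zero] at hl; exact zero_ne_one hl
    apply mul_right_cancel₀ hl0
    rw [h1, hl]
  have ect : h3_ct q (mu • (A * a)) = lam • (h3_ct q a * h3_ct q A) := by
    rw [← h3_ct_mul hF]
    ext i j
    simp only [h3_ct_apply, Matrix.smul_apply, smul_eq_mul, mul_pow, hmuq]
  have hTL : (Matrix.fromBlocks A 0 0 (h3_ct q A') : Matrix (Fin m ⊕ Fin m) (Fin m ⊕ Fin m) F)
      * Matrix.fromBlocks 1 S 0 1
      = Matrix.fromBlocks 1 (A * S * h3_ct q A) 0 1 * Matrix.fromBlocks A 0 0 (h3_ct q A') := by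
    rw [Matrix.fromBlocks_multiply, Matrix.fromBlocks_multiply]
    simp [e]
  have hTR : (Matrix.fromBlocks A 0 0 (h3_ct q A') : Matrix (Fin m ⊕ Fin m) (Fin m ⊕ Fin m) F)
      * (Matrix.fromRows a 0 : Matrix (Fin m ⊕ Fin m) Unit F)
      = (Matrix.fromRows (mu • (A * a)) 0 : Matrix (Fin m ⊕ Fin m) Unit F)
        * (lam • (1 : Matrix Unit Unit F)) := by
    rw [Matrix.fromBlocks_mul_fromRows, Matrix.fromRows_mul]
    simp only [Matrix.mul_zero, Matrix.zero_mul, add_zero, Matrix.mul_smul, Matrix.mul_one,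
      smul_smul, smul_zero]
    rw [mul_comm lam mu, hmu, one_smul]
  have hBL : (lam • (1 : Matrix Unit Unit F))
      * (Matrix.fromCols 0 (-h3_ct q a) : Matrix Unit (Fin m ⊕ Fin m) F)
      = (Matrix.fromCols (0 : Matrix Unit (Fin m) F) (-(lam • (h3_ct q a * h3_ct q A)))
          : Matrix Unit (Fin m ⊕ Fin m) F)
        * (Matrix.fromBlocks A 0 0 (h3_ct q A') : Matrix (Fin m ⊕ Fin m) (Fin m ⊕ Fin m) F) := by
    rw [Matrix.mul_fromCols, Matrix.fromCols_mul_fromBlocks]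
    simp only [Matrix.mul_zero, Matrix.zero_mul, add_zero, zero_add, Matrix.smul_mul,
      Matrix.one_mul, Matrix.neg_mul, Matrix.mul_neg]
    rw [Matrix.mul_assoc, ← h3_ct_mul hF, hA'A, h3_ct_one hF, Matrix.mul_one]
  unfold h2_dM h2_vM h2_col h2_row
  rw [ect]
  have hL : (Matrix.fromBlocks (Matrix.fromBlocks A 0 0 (h3_ct q A')) 0 0
        (lam • (1 : Matrix Unit Unit F)) : Matrix (h2_I m) (h2_I m) F)
      * Matrix.fromBlocks (Matrix.fromBlocks 1 S 0 1) (Matrix.fromRows a 0)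
        (Matrix.fromCols 0 (-h3_ct q a)) 1
      = Matrix.fromBlocks
        ((Matrix.fromBlocks A 0 0 (h3_ct q A') : Matrix (Fin m ⊕ Fin m) (Fin m ⊕ Fin m) F)
          * Matrix.fromBlocks 1 S 0 1)
        ((Matrix.fromBlocks A 0 0 (h3_ct q A') : Matrix (Fin m ⊕ Fin m) (Fin m ⊕ Fin m) F)
          * (Matrix.fromRows a 0 : Matrix (Fin m ⊕ Fin m) Unit F))
        ((lam • (1 : Matrix Unit Unit F))
          * (Matrix.fromCols 0 (-h3_ct q a) : Matrix Unit (Fin m ⊕ Fin m) F))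
        (lam • (1 : Matrix Unit Unit F)) := by
    rw [Matrix.fromBlocks_multiply]
    simp only [Matrix.mul_zero, Matrix.zero_mul, add_zero, zero_add, Matrix.mul_one]
  have hR : (Matrix.fromBlocks (Matrix.fromBlocks 1 (A * S * h3_ct q A) 0 1)
        (Matrix.fromRows (mu • (A * a)) 0)
        (Matrix.fromCols 0 (-(lam • (h3_ct q a * h3_ct q A)))) 1 : Matrix (h2_I m) (h2_I m) F)
      * Matrix.fromBlocks (Matrix.fromBlocks A 0 0 (h3_ct q A')) 0 0
        (lam • (1 : Matrix Unit Unit F))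
      = Matrix.fromBlocks
        ((Matrix.fromBlocks 1 (A * S * h3_ct q A) 0 1
            : Matrix (Fin m ⊕ Fin m) (Fin m ⊕ Fin m) F) * Matrix.fromBlocks A 0 0 (h3_ct q A'))
        ((Matrix.fromRows (mu • (A * a)) 0 : Matrix (Fin m ⊕ Fin m) Unit F)
          * (lam • (1 : Matrix Unit Unit F)))
        ((Matrix.fromCols (0 : Matrix Unit (Fin m) F) (-(lam • (h3_ct q a * h3_ct q A)))
            : Matrix Unit (Fin m ⊕ Fin m) F)
          * (Matrix.fromBlocks A 0 0 (h3_ct q A') : Matrix (Fin m ⊕ Fin m) (Fin m ⊕ Fin m) F))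
        (lam • (1 : Matrix Unit Unit F)) := by
    rw [Matrix.fromBlocks_multiply]
    simp only [Matrix.mul_zero, Matrix.zero_mul, add_zero, zero_add, Matrix.one_mul]
  rw [hL, hR, hTL, hTR, hBL]

theorem h2_cond_zero (hF : Fintype.card F = q ^ 2) {S : Matrix (Fin m) (Fin m) F}
    (hS : h3_ct q S = -S) :
    S + h3_ct q S = -((0 : Matrix (Fin m) Unit F) * h3_ct q (0 : Matrix (Fin m) Unit F)) := by
  rw [hS, Matrix.zero_mul, neg_zero, add_neg_cancel]

/-- `u(S) = v(0,S)` for skew-Hermitian `S`. -/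
def h2_u (hF : Fintype.card F = q ^ 2) (S : Matrix (Fin m) (Fin m) F) (hS : h3_ct q S = -S) :
    h3_BU hF (h2_J F m) := h2_v hF 0 S (h2_cond_zero hF hS)

theorem h2_u_coe (hF : Fintype.card F = q ^ 2) (S : Matrix (Fin m) (Fin m) F)
    (hS : h3_ct q S = -S) : ((h2_u hF S hS).1).1 = h2_vM q 0 S := rfl

theorem h2_u_mul (hF : Fintype.card F = q ^ 2) (S S' : Matrix (Fin m) (Fin m) F)
    (hS : h3_ct q S = -S) (hS' : h3_ct q S' = -S') :
    h2_u hF S hS * h2_u hF S' hS' = h2_u hF (S + S') (h3_skew_add hF hS hS') := by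
  apply Subtype.ext
  apply Subtype.ext
  show h2_vM q 0 S * h2_vM q 0 S' = h2_vM q 0 (S + S')
  rw [h2_vM_mul hF, Matrix.zero_mul, sub_zero, add_zero]

theorem h2_u_eq_one_iff (hF : Fintype.card F = q ^ 2) (S : Matrix (Fin m) (Fin m) F)
    (hS : h3_ct q S = -S) : h2_u hF S hS = 1 ↔ S = 0 := by
  unfold h2_u
  rw [h2_v_eq_one_iff]
  simp

/-- `u(C)` commutes with `v(a,S)`. -/
theorem h2_u_comm_v (hF : Fintype.card F = q ^ 2) (C : Matrix (Fin m) (Fin m) F)
    (hC : h3_ct q C = -C) (a : Matrix (Fin m) Unit F) (S : Matrix (Fin m) (Fin m) F)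
    (h : S + h3_ct q S = -(a * h3_ct q a)) :
    h2_u hF C hC * h2_v hF a S h = h2_v hF a S h * h2_u hF C hC := by
  apply Subtype.ext
  apply Subtype.ext
  exact h2_vM_central hF a S C

/-- the skew matrix of the commutator. -/
theorem h2_comm_skew (hF : Fintype.card F = q ^ 2) (a a' : Matrix (Fin m) Unit F) :
    h3_ct q (a' * h3_ct q a - a * h3_ct q a') = -(a' * h3_ct q a - a * h3_ct q a') := by
  rw [h2_ct_sub hF, h3_ct_mul hF, h3_ct_mul hF, h3_ct_ct hF, h3_ct_ct hF]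
  abel

/-- **commutator relation** in `BU`: `v(a,S) v(a',S') = v(a',S') v(a,S) u(a' a* - a a'*)`. -/
theorem h2_v_comm (hF : Fintype.card F = q ^ 2) (a a' : Matrix (Fin m) Unit F)
    (S S' : Matrix (Fin m) (Fin m) F) (h : S + h3_ct q S = -(a * h3_ct q a))
    (h' : S' + h3_ct q S' = -(a' * h3_ct q a')) :
    h2_v hF a S h * h2_v hF a' S' h'
      = h2_v hF a' S' h' * h2_v hF a S h
        * h2_u hF (a' * h3_ct q a - a * h3_ct q a') (h2_comm_skew hF a a') := by
  apply Subtype.ext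
  apply Subtype.ext
  exact h2_vM_comm hF a a' S S'

/-- the condition `S + S* = -(a a*)` under the Levi action. -/
theorem h2_cond_conj (hF : Fintype.card F = q ^ 2) (A : Matrix (Fin m) (Fin m) F) (mu : F)
    (hmu : mu * mu ^ q = 1) {a : Matrix (Fin m) Unit F} {S : Matrix (Fin m) (Fin m) F}
    (h : S + h3_ct q S = -(a * h3_ct q a)) :
    A * S * h3_ct q A + h3_ct q (A * S * h3_ct q A)
      = -((mu • (A * a)) * h3_ct q (mu • (A * a))) := by
  have e1 : h3_ct q (mu • (A * a)) = mu ^ q • (h3_ct q a * h3_ct q A) := by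
    rw [← h3_ct_mul hF]
    ext i j
    simp only [h3_ct_apply, Matrix.smul_apply, smul_eq_mul, mul_pow]
  rw [e1, h3_ct_mul hF, h3_ct_mul hF, h3_ct_ct hF, Matrix.smul_mul, Matrix.mul_smul, smul_smul,
    hmu, one_smul]
  have e2 : A * S * h3_ct q A + A * (h3_ct q S * h3_ct q A) = A * (S + h3_ct q S) * h3_ct q A := by
    rw [Matrix.mul_add, Matrix.add_mul, Matrix.mul_assoc A (h3_ct q S)]
  rw [e2, h, Matrix.mul_neg, Matrix.neg_mul, Matrix.mul_assoc, Matrix.mul_assoc, Matrix.mul_assoc]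

/-- **Levi relation** in `BU`: `d(A,λ) v(a,S) = v(λ⁻¹ A a, A S A*) d(A,λ)`. -/
theorem h2_d_mul_v (hF : Fintype.card F = q ^ 2) (A A' : Matrix (Fin m) (Fin m) F)
    (hAA' : A * A' = 1) (lam mu : F) (hl : lam * lam ^ q = 1) (hmu : mu * lam = 1)
    (hdet : A.det * A'.det ^ q * lam = 1) (a : Matrix (Fin m) Unit F)
    (S : Matrix (Fin m) (Fin m) F) (h : S + h3_ct q S = -(a * h3_ct q a))
    (h' : A * S * h3_ct q A + h3_ct q (A * S * h3_ct q A)
      = -((mu • (A * a)) * h3_ct q (mu • (A * a)))) :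
    h2_d hF A A' hAA' lam hl hdet * h2_v hF a S h
      = h2_v hF (mu • (A * a)) (A * S * h3_ct q A) h' * h2_d hF A A' hAA' lam hl hdet := by
  apply Subtype.ext
  apply Subtype.ext
  exact h2_dM_mul_vM hF A A' hAA' lam mu hl hmu a S

/-- **Levi relation** for `u(S)`: `d(A,λ) u(S) = u(A S A*) d(A,λ)`. -/
theorem h2_d_mul_u (hF : Fintype.card F = q ^ 2) (A A' : Matrix (Fin m) (Fin m) F)
    (hAA' : A * A' = 1) (lam : F) (hl : lam * lam ^ q = 1)
    (hdet : A.det * A'.det ^ q * lam = 1) (S : Matrix (Fin m) (Fin m) F)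
    (hS : h3_ct q S = -S) :
    h2_d hF A A' hAA' lam hl hdet * h2_u hF S hS
      = h2_u hF (A * S * h3_ct q A) (h3_skew_conj hF A S hS) * h2_d hF A A' hAA' lam hl hdet := by
  have hl0 : lam ≠ 0 := fun h0 => by rw [h0, zero_mul] at hl; exact zero_ne_one hl
  apply Subtype.ext
  apply Subtype.ext
  show h2_dM q A A' lam * h2_vM q 0 S = h2_vM q 0 (A * S * h3_ct q A) * h2_dM q A A' lam
  have := h2_dM_mul_vM hF A A' hAA' lam lam⁻¹ hl (inv_mul_cancel₀ hl0) 0 S
  rwa [Matrix.mul_zero, smul_zero] at this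

end finite

end Cfsg.Agent.LS3
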