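import Mathlib
import Cfsg.Agent.Helper8.LSB
import Cfsg.Agent.LS3.H3_Transport

set_option autoImplicit false
set_option linter.unusedSectionVars false

/-!
# LS3 swarm piece (iv-U) (helper4): characters of the group of skew-Hermitian matrices

`F` a finite field with `q ^ 2` elements, `σ x = x ^ q`, `M* = σ(M)ᵀ` (`h4_star q M`).
`h4_herm hF ι` / `h4_skew hF ι` : the additive groups of Hermitian (`T* = T`) and skew-Hermitian
(`S* = -S`) `ι × ι` matrices.  For an additive character `ψ` of `F` and any matrix `T`,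
`h4_chi hF ψ T : Multiplicative (h4_skew hF ι) →* Kˣ` is `S ↦ ψ (tr (T S))`.

* `h4_chi_conj`   : `χ_T (C S C*) = χ_{C* T C} (S)` (equivariance; any square `C`);
* `h4_chi_injOn`  : if `ψ` is non-trivial on some `w - w ^ q` (`h4_Good q ψ`), then `T ↦ χ_T` is
  injective on Hermitian matrices;
* `h4_chi_surj`   : ... and every character of `h4_skew hF ι` is a `χ_T`, `T` Hermitian;
* `h4_exists_good`: such a `ψ` exists;
* `h4_duality`    : the package over `ℂ`.
-/

namespace Cfsg.Agent.LS3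

open Matrix Cfsg.Agent.Helper7.Herm Cfsg.Agent.Helper8.LS

variable {F : Type*} [Field F] [Fintype F] {q : ℕ}

/-! ### Frobenius arithmetic -/

theorem h4_neg_pow_q (hF : Fintype.card F = q ^ 2) (x : F) : (-x) ^ q = -(x ^ q) := by
  have h := add_pow_q hF (-x) x
  rw [neg_add_cancel, zero_pow (h3_q_ne_zero' hF)] at h
  exact eq_neg_of_add_eq_zero_left h.symm

theorem h4_sub_pow_q (hF : Fintype.card F = q ^ 2) (x y : F) : (x - y) ^ q = x ^ q - y ^ q := by
  rw [sub_eq_add_neg, add_pow_q hF, h4_neg_pow_q hF, ← sub_eq_add_neg]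

/-- `w - w ^ q` is "purely imaginary". -/
theorem h4_imag_pow_q (hF : Fintype.card F = q ^ 2) (w : F) :
    (w - w ^ q) ^ q = -(w - w ^ q) := by
  rw [h4_sub_pow_q hF, pow_q_pow_q hF]
  ring

theorem h4_two_le_q (hF : Fintype.card F = q ^ 2) : 2 ≤ q := by
  have h1 : 1 < Fintype.card F := Fintype.one_lt_card
  rw [hF] at h1
  by_contra h
  push Not at h
  have : q ≤ 1 := by omega
  have h2 : q ^ 2 ≤ 1 ^ 2 := Nat.pow_le_pow_left this 2
  omega

/-- there is an element not fixed by the Frobenius `x ↦ x ^ q`. -/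
theorem h4_exists_not_fixed (hF : Fintype.card F = q ^ 2) : ∃ x : F, x ^ q ≠ x := by
  classical
  by_contra hcon
  push Not at hcon
  have hq := h4_two_le_q hF
  obtain ⟨g, hg⟩ := IsCyclic.exists_ofOrder_eq_natCard (α := Fˣ)
  have h1 : g ^ (q - 1) = 1 := by
    apply Units.ext
    have h2 : (g : F) ^ q = g := hcon g
    have h3 : (g : F) ^ (q - 1) * g = 1 * g := by
      rw [← pow_succ, Nat.sub_add_cancel (by omega), h2, one_mul]
    rw [Units.val_pow_eq_pow_val, Units.val_one]
    exact mul_right_cancel₀ g.ne_zero h3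
  have h4 : orderOf g ∣ q - 1 := orderOf_dvd_of_pow_eq_one h1
  rw [hg, Nat.card_eq_fintype_card, Fintype.card_units, hF] at h4
  have h5 : q ^ 2 - 1 ≤ q - 1 := Nat.le_of_dvd (by omega) h4
  have h6 : q * 2 ≤ q * q := Nat.mul_le_mul_left q hq
  have h7 : q ^ 2 = q * q := sq q
  omega

/-- a non-zero "purely imaginary" element `j` (`j ^ q = -j`). -/
theorem h4_exists_j (hF : Fintype.card F = q ^ 2) : ∃ j : F, j ≠ 0 ∧ j ^ q = -j := by
  obtain ⟨x, hx⟩ := h4_exists_not_fixed hF
  exact ⟨x - x ^ q, sub_ne_zero.mpr (Ne.symm hx), h4_imag_pow_q hF x⟩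

/-! ### The conjugate transpose -/

/-- conjugate transpose `M* = σ(M)ᵀ`, `(M*) b a = (M a b) ^ q`. -/
def h4_star (q : ℕ) {α β : Type*} (M : Matrix α β F) : Matrix β α F := (h3_sig q M)ᵀ

theorem h4_star_eq (q : ℕ) {α β : Type*} (M : Matrix α β F) :
    h4_star q M = (M.map (· ^ q))ᵀ := rfl

@[simp] theorem h4_star_apply (q : ℕ) {α β : Type*} (M : Matrix α β F) (a : α) (b : β) :
    h4_star q M b a = M a b ^ q := rfl

theorem h4_star_mul (hF : Fintype.card F = q ^ 2) {α β γ : Type*} [Fintype β]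
    (X : Matrix α β F) (Y : Matrix β γ F) :
    h4_star q (X * Y) = h4_star q Y * h4_star q X := by
  unfold h4_star
  rw [h3_sig_mul hF, Matrix.transpose_mul]

theorem h4_star_star (hF : Fintype.card F = q ^ 2) {α β : Type*} (M : Matrix α β F) :
    h4_star q (h4_star q M) = M := by
  ext a b
  simp only [h4_star_apply]
  exact pow_q_pow_q hF _

theorem h4_star_add (hF : Fintype.card F = q ^ 2) {α β : Type*} (M N : Matrix α β F) :
    h4_star q (M + N) = h4_star q M + h4_star q N := by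
  ext a b
  simp only [h4_star_apply, Matrix.add_apply]
  exact add_pow_q hF _ _

theorem h4_star_neg (hF : Fintype.card F = q ^ 2) {α β : Type*} (M : Matrix α β F) :
    h4_star q (-M) = -h4_star q M := by
  ext a b
  simp only [h4_star_apply, Matrix.neg_apply]
  exact h4_neg_pow_q hF _

theorem h4_star_sub (hF : Fintype.card F = q ^ 2) {α β : Type*} (M N : Matrix α β F) :
    h4_star q (M - N) = h4_star q M - h4_star q N := by
  ext a b
  simp only [h4_star_apply, Matrix.sub_apply]
  exact h4_sub_pow_q hF _ _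

theorem h4_star_zero (hF : Fintype.card F = q ^ 2) {α β : Type*} :
    h4_star q (0 : Matrix α β F) = 0 := by
  ext a b
  simp only [h4_star_apply, Matrix.zero_apply]
  exact zero_pow (h3_q_ne_zero' hF)

theorem h4_star_smul {α β : Type*} (c : F) (M : Matrix α β F) :
    h4_star q (c • M) = c ^ q • h4_star q M := by
  ext a b
  simp only [h4_star_apply, Matrix.smul_apply, smul_eq_mul, mul_pow]

theorem h4_star_one (hF : Fintype.card F = q ^ 2) {α : Type*} [DecidableEq α] :
    h4_star q (1 : Matrix α α F) = 1 := by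
  unfold h4_star
  rw [h3_sig_one (h3_q_ne_zero' hF), Matrix.transpose_one]

theorem h4_star_single {α β : Type*} [DecidableEq α] [DecidableEq β]
    (hF : Fintype.card F = q ^ 2) (a : α) (b : β) (c : F) :
    h4_star q (Matrix.single a b c) = Matrix.single b a (c ^ q) := by
  ext x y
  simp only [h4_star_apply, Matrix.single_apply]
  by_cases h : a = y ∧ b = x
  · rw [if_pos h, if_pos ⟨h.2, h.1⟩]
  · rw [if_neg h, if_neg (fun h' => h ⟨h'.2, h'.1⟩), zero_pow (h3_q_ne_zero' hF)]

/-! ### Hermitian and skew-Hermitian matrices -/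

/-- the additive group of Hermitian matrices `T* = T`. -/
def h4_herm (hF : Fintype.card F = q ^ 2) (ι : Type*) : AddSubgroup (Matrix ι ι F) where
  carrier := {T | h4_star q T = T}
  zero_mem' := h4_star_zero hF
  add_mem' := by
    intro a b ha hb
    show h4_star q (a + b) = a + b
    rw [h4_star_add hF]
    have ha' : h4_star q a = a := ha
    have hb' : h4_star q b = b := hb
    rw [ha', hb']
  neg_mem' := by
    intro a ha
    show h4_star q (-a) = -a
    have ha' : h4_star q a = a := ha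
    rw [h4_star_neg hF, ha']

/-- the additive group of skew-Hermitian matrices `S* = -S`. -/
def h4_skew (hF : Fintype.card F = q ^ 2) (ι : Type*) : AddSubgroup (Matrix ι ι F) where
  carrier := {S | h4_star q S = -S}
  zero_mem' := by
    show h4_star q (0 : Matrix ι ι F) = -0
    rw [h4_star_zero hF, neg_zero]
  add_mem' := by
    intro a b ha hb
    show h4_star q (a + b) = -(a + b)
    rw [h4_star_add hF]
    have ha' : h4_star q a = -a := ha
    have hb' : h4_star q b = -b := hb
    rw [ha', hb', neg_add]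
  neg_mem' := by
    intro a ha
    show h4_star q (-a) = - -a
    have ha' : h4_star q a = -a := ha
    rw [h4_star_neg hF, ha']

theorem h4_mem_herm (hF : Fintype.card F = q ^ 2) {ι : Type*} (T : Matrix ι ι F) :
    T ∈ h4_herm hF ι ↔ h4_star q T = T := Iff.rfl

theorem h4_mem_skew (hF : Fintype.card F = q ^ 2) {ι : Type*} (S : Matrix ι ι F) :
    S ∈ h4_skew hF ι ↔ h4_star q S = -S := Iff.rfl

/-- membership in the raw shape used by the orbit lemmas. -/
theorem h4_mem_herm_map (hF : Fintype.card F = q ^ 2) {ι : Type*} (T : Matrix ι ι F) :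
    T ∈ h4_herm hF ι ↔ (T.map (· ^ q))ᵀ = T := Iff.rfl

theorem h4_mem_skew_map (hF : Fintype.card F = q ^ 2) {ι : Type*} (S : Matrix ι ι F) :
    S ∈ h4_skew hF ι ↔ (S.map (· ^ q))ᵀ = -S := Iff.rfl

theorem h4_mem_herm_iff (hF : Fintype.card F = q ^ 2) {ι : Type*} (T : Matrix ι ι F) :
    T ∈ h4_herm hF ι ↔ ∀ i j, T j i ^ q = T i j := by
  rw [h4_mem_herm]
  constructor
  · intro h i j
    have := congrFun (congrFun h i) j
    simpa using this
  · intro h
    ext i j
    exact h i j

theorem h4_mem_skew_iff (hF : Fintype.card F = q ^ 2) {ι : Type*} (S : Matrix ι ι F) :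
    S ∈ h4_skew hF ι ↔ ∀ i j, S j i ^ q = -S i j := by
  rw [h4_mem_skew]
  constructor
  · intro h i j
    have := congrFun (congrFun h i) j
    simpa using this
  · intro h
    ext i j
    exact h i j

theorem h4_herm_entry (hF : Fintype.card F = q ^ 2) {ι : Type*} {T : Matrix ι ι F}
    (hT : T ∈ h4_herm hF ι) (i j : ι) : T j i = T i j ^ q := by
  have h := (h4_mem_herm_iff hF T).1 hT i j
  rw [← h, pow_q_pow_q hF]

/-- `C T C*` is Hermitian if `T` is (any rectangular `C`). -/
theorem h4_conj_mem_herm (hF : Fintype.card F = q ^ 2) {ι κ : Type*} [Fintype ι]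
    (C : Matrix κ ι F) {T : Matrix ι ι F} (hT : T ∈ h4_herm hF ι) :
    C * T * h4_star q C ∈ h4_herm hF κ := by
  have hT' : h4_star q T = T := hT
  show h4_star q (C * T * h4_star q C) = C * T * h4_star q C
  rw [h4_star_mul hF, h4_star_mul hF, h4_star_star hF, hT', Matrix.mul_assoc]

/-- `C S C*` is skew-Hermitian if `S` is (any rectangular `C`). -/
theorem h4_conj_mem_skew (hF : Fintype.card F = q ^ 2) {ι κ : Type*} [Fintype ι]
    (C : Matrix κ ι F) {S : Matrix ι ι F} (hS : S ∈ h4_skew hF ι) :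
    C * S * h4_star q C ∈ h4_skew hF κ := by
  have hS' : h4_star q S = -S := hS
  show h4_star q (C * S * h4_star q C) = -(C * S * h4_star q C)
  rw [h4_star_mul hF, h4_star_mul hF, h4_star_star hF, hS', Matrix.mul_assoc,
    Matrix.neg_mul, Matrix.mul_neg]

/-- `C* T C` is Hermitian if `T` is. -/
theorem h4_conj_mem_herm' (hF : Fintype.card F = q ^ 2) {ι κ : Type*} [Fintype ι]
    (C : Matrix ι κ F) {T : Matrix ι ι F} (hT : T ∈ h4_herm hF ι) :
    h4_star q C * T * C ∈ h4_herm hF κ := by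
  have := h4_conj_mem_herm hF (h4_star q C) hT
  rwa [h4_star_star hF] at this

theorem h4_smul_mem_skew_of_herm (hF : Fintype.card F = q ^ 2) {ι : Type*} {j : F}
    (hj : j ^ q = -j) {T : Matrix ι ι F} (hT : T ∈ h4_herm hF ι) : j • T ∈ h4_skew hF ι := by
  have hT' : h4_star q T = T := hT
  show h4_star q (j • T) = -(j • T)
  rw [h4_star_smul, hT', hj, neg_smul]

theorem h4_smul_mem_herm_of_skew (hF : Fintype.card F = q ^ 2) {ι : Type*} {j : F}
    (hj : j ^ q = -j) {S : Matrix ι ι F} (hS : S ∈ h4_skew hF ι) : j • S ∈ h4_herm hF ι := by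
  have hS' : h4_star q S = -S := hS
  show h4_star q (j • S) = j • S
  rw [h4_star_smul, hS', hj, neg_smul, smul_neg, neg_neg]

/-- fixed-field scalars preserve both groups. -/
theorem h4_smul_mem_skew (hF : Fintype.card F = q ^ 2) {ι : Type*} {s : F}
    (hs : s ^ q = s) {S : Matrix ι ι F} (hS : S ∈ h4_skew hF ι) : s • S ∈ h4_skew hF ι := by
  have hS' : h4_star q S = -S := hS
  show h4_star q (s • S) = -(s • S)
  rw [h4_star_smul, hS', hs, smul_neg]

theorem h4_smul_mem_herm (hF : Fintype.card F = q ^ 2) {ι : Type*} {s : F}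
    (hs : s ^ q = s) {T : Matrix ι ι F} (hT : T ∈ h4_herm hF ι) : s • T ∈ h4_herm hF ι := by
  have hT' : h4_star q T = T := hT
  show h4_star q (s • T) = s • T
  rw [h4_star_smul, hT', hs]

/-- Hermitian and skew-Hermitian matrices are equinumerous (`T ↦ j T`). -/
noncomputable def h4_hermEquivSkew (hF : Fintype.card F = q ^ 2) (ι : Type*) :
    h4_herm hF ι ≃ h4_skew hF ι :=
  let j := (h4_exists_j hF).choose
  have hj0 : j ≠ 0 := (h4_exists_j hF).choose_spec.1
  have hj : j ^ q = -j := (h4_exists_j hF).choose_spec.2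
  have hji : (j⁻¹) ^ q = -j⁻¹ := by rw [inv_pow, hj, inv_neg]
  { toFun := fun T => ⟨j • T.1, h4_smul_mem_skew_of_herm hF hj T.2⟩
    invFun := fun S => ⟨j⁻¹ • S.1, h4_smul_mem_herm_of_skew hF hji S.2⟩
    left_inv := by
      intro T
      apply Subtype.ext
      show j⁻¹ • (j • T.1) = T.1
      rw [smul_smul, inv_mul_cancel₀ hj0, one_smul]
    right_inv := by
      intro S
      apply Subtype.ext
      show j • (j⁻¹ • S.1) = S.1
      rw [smul_smul, mul_inv_cancel₀ hj0, one_smul] }

theorem h4_card_herm_eq_skew (hF : Fintype.card F = q ^ 2) (ι : Type*) :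
    Nat.card (h4_herm hF ι) = Nat.card (h4_skew hF ι) :=
  Nat.card_congr (h4_hermEquivSkew hF ι)

/-! ### The characters `χ_T` -/

section chars

variable {K : Type*} [Field K] {ι : Type*} [Fintype ι] [DecidableEq ι]

/-- `χ_T : S ↦ ψ (tr (T S))`, a character of the group of skew-Hermitian matrices
(defined for every matrix `T`; used for Hermitian `T`). -/
noncomputable def h4_chi (hF : Fintype.card F = q ^ 2) (ψ : Multiplicative F →* Kˣ)
    (T : Matrix ι ι F) : Multiplicative (h4_skew hF ι) →* Kˣ :=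
  ψ.comp (AddMonoidHom.toMultiplicative
    ((Matrix.traceAddMonoidHom ι F).comp
      ((AddMonoidHom.mulLeft T).comp (h4_skew hF ι).subtype)))

theorem h4_chi_apply (hF : Fintype.card F = q ^ 2) (ψ : Multiplicative F →* Kˣ)
    (T : Matrix ι ι F) (S : h4_skew hF ι) :
    h4_chi hF ψ T (Multiplicative.ofAdd S) = ψ (Multiplicative.ofAdd (Matrix.trace (T * S.1))) :=
  rfl

theorem h4_chi_apply' (hF : Fintype.card F = q ^ 2) (ψ : Multiplicative F →* Kˣ)
    (T : Matrix ι ι F) (S : Multiplicative (h4_skew hF ι)) :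
    h4_chi hF ψ T S = ψ (Multiplicative.ofAdd (Matrix.trace (T * (Multiplicative.toAdd S).1))) :=
  rfl

theorem h4_chi_zero (hF : Fintype.card F = q ^ 2) (ψ : Multiplicative F →* Kˣ) :
    h4_chi hF ψ (0 : Matrix ι ι F) = 1 := by
  refine MonoidHom.ext (fun S => ?_)
  rw [h4_chi_apply', Matrix.zero_mul, Matrix.trace_zero, ofAdd_zero, map_one]
  rfl

theorem h4_chi_add (hF : Fintype.card F = q ^ 2) (ψ : Multiplicative F →* Kˣ)
    (T T' : Matrix ι ι F) :
    h4_chi hF ψ (T + T') = h4_chi hF ψ T * h4_chi hF ψ T' := by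
  refine MonoidHom.ext (fun S => ?_)
  rw [MonoidHom.mul_apply, h4_chi_apply', h4_chi_apply', h4_chi_apply', Matrix.add_mul,
    Matrix.trace_add, ofAdd_add, map_mul]

theorem h4_chi_neg (hF : Fintype.card F = q ^ 2) (ψ : Multiplicative F →* Kˣ)
    (T : Matrix ι ι F) :
    h4_chi hF ψ (-T) = (h4_chi hF ψ T)⁻¹ := by
  refine MonoidHom.ext (fun S => ?_)
  rw [MonoidHom.inv_apply, h4_chi_apply', h4_chi_apply', Matrix.neg_mul,
    Matrix.trace_neg, ofAdd_neg, map_inv]

theorem h4_chi_sub (hF : Fintype.card F = q ^ 2) (ψ : Multiplicative F →* Kˣ)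
    (T T' : Matrix ι ι F) :
    h4_chi hF ψ (T - T') = h4_chi hF ψ T * (h4_chi hF ψ T')⁻¹ := by
  rw [sub_eq_add_neg, h4_chi_add, h4_chi_neg]

/-- **equivariance**: `χ_T (C S C*) = χ_{C* T C} (S)` for every square matrix `C`. -/
theorem h4_chi_conj (hF : Fintype.card F = q ^ 2) (ψ : Multiplicative F →* Kˣ)
    (T C : Matrix ι ι F) (S : h4_skew hF ι) :
    h4_chi hF ψ T (Multiplicative.ofAdd
        (⟨C * S.1 * h4_star q C, h4_conj_mem_skew hF C S.2⟩ : h4_skew hF ι))
      = h4_chi hF ψ (h4_star q C * T * C) (Multiplicative.ofAdd S) := by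
  rw [h4_chi_apply, h4_chi_apply]
  congr 2
  show Matrix.trace (T * (C * S.1 * h4_star q C)) = Matrix.trace (h4_star q C * T * C * S.1)
  calc Matrix.trace (T * (C * S.1 * h4_star q C))
      = Matrix.trace (C * (S.1 * h4_star q C * T)) := by
        rw [Matrix.trace_mul_comm]
        simp only [Matrix.mul_assoc]
    _ = Matrix.trace (S.1 * (h4_star q C * T * C)) := by
        rw [Matrix.trace_mul_comm]
        simp only [Matrix.mul_assoc]
    _ = Matrix.trace (h4_star q C * T * C * S.1) := Matrix.trace_mul_comm _ _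

/-- the non-degeneracy hypothesis on `ψ`: non-trivial on some `w - σ w`. -/
def h4_Good (q : ℕ) (ψ : Multiplicative F →* Kˣ) : Prop :=
  ∃ w : F, ψ (Multiplicative.ofAdd (w - w ^ q)) ≠ 1

/-- the skew-Hermitian test matrix `a E_ji - σ(a) E_ij`. -/
theorem h4_test_mem_skew (hF : Fintype.card F = q ^ 2) (i j : ι) (a : F) :
    Matrix.single j i a - Matrix.single i j (a ^ q) ∈ h4_skew hF ι := by
  show h4_star q (Matrix.single j i a - Matrix.single i j (a ^ q))
    = -(Matrix.single j i a - Matrix.single i j (a ^ q))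
  rw [h4_star_sub hF, h4_star_single hF, h4_star_single hF, pow_q_pow_q hF, neg_sub]

theorem h4_trace_test (hF : Fintype.card F = q ^ 2) {D : Matrix ι ι F}
    (hD : D ∈ h4_herm hF ι) (i j : ι) (a : F) :
    Matrix.trace (D * (Matrix.single j i a - Matrix.single i j (a ^ q)))
      = a * D i j - (a * D i j) ^ q := by
  rw [Matrix.mul_sub, Matrix.trace_sub, Matrix.trace_mul_single, Matrix.trace_mul_single,
    MulOpposite.smul_eq_mul_unop, MulOpposite.smul_eq_mul_unop, MulOpposite.unop_op,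
    MulOpposite.unop_op, mul_pow, h4_herm_entry hF hD i j, mul_comm (D i j), mul_comm (D i j ^ q)]

/-- a Hermitian `D` with `χ_D = 1` is zero. -/
theorem h4_chi_eq_one (hF : Fintype.card F = q ^ 2) {ψ : Multiplicative F →* Kˣ}
    (hψ : h4_Good q ψ) {D : Matrix ι ι F} (hD : D ∈ h4_herm hF ι)
    (h : h4_chi hF ψ D = 1) : D = 0 := by
  by_contra hne
  obtain ⟨i, j, hij⟩ : ∃ i j, D i j ≠ 0 := by
    by_contra hcon
    push Not at hcon
    exact hne (by ext i j; exact hcon i j)
  obtain ⟨w, hw⟩ := hψ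
  apply hw
  have h1 := DFunLike.congr_fun h (Multiplicative.ofAdd
    (⟨_, h4_test_mem_skew hF i j (w / D i j)⟩ : h4_skew hF ι))
  rw [h4_chi_apply, MonoidHom.one_apply] at h1
  rw [← h1]
  congr 2
  show w - w ^ q = Matrix.trace (D * (Matrix.single j i (w / D i j)
    - Matrix.single i j ((w / D i j) ^ q)))
  rw [h4_trace_test hF hD, div_mul_cancel₀ w hij]

/-- **injectivity** of `T ↦ χ_T` on Hermitian matrices. -/
theorem h4_chi_injOn (hF : Fintype.card F = q ^ 2) {ψ : Multiplicative F →* Kˣ}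
    (hψ : h4_Good q ψ) {T T' : Matrix ι ι F} (hT : T ∈ h4_herm hF ι) (hT' : T' ∈ h4_herm hF ι)
    (h : h4_chi hF ψ T = h4_chi hF ψ T') : T = T' := by
  have h1 : h4_chi hF ψ (T - T') = 1 := by
    rw [h4_chi_sub, h]
    exact mul_inv_cancel (h4_chi hF ψ T')
  exact sub_eq_zero.mp (h4_chi_eq_one hF hψ ((h4_herm hF ι).sub_mem hT hT') h1)

theorem h4_chi_eq_one_iff (hF : Fintype.card F = q ^ 2) {ψ : Multiplicative F →* Kˣ}
    (hψ : h4_Good q ψ) {T : Matrix ι ι F} (hT : T ∈ h4_herm hF ι) :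
    h4_chi hF ψ T = 1 ↔ T = 0 :=
  ⟨h4_chi_eq_one hF hψ hT, fun h => by rw [h, h4_chi_zero]⟩

/-- **surjectivity**: every character of the skew-Hermitian group is a `χ_T`, `T` Hermitian. -/
theorem h4_chi_surj (hF : Fintype.card F = q ^ 2)
    [HasEnoughRootsOfUnity K (Monoid.exponent (Multiplicative (h4_skew hF ι)))]
    {ψ : Multiplicative F →* Kˣ} (hψ : h4_Good q ψ)
    (χ : Multiplicative (h4_skew hF ι) →* Kˣ) :
    ∃ T : Matrix ι ι F, T ∈ h4_herm hF ι ∧ h4_chi hF ψ T = χ := by
  classical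
  let f : h4_herm hF ι → (Multiplicative (h4_skew hF ι) →* Kˣ) := fun T => h4_chi hF ψ T.1
  have hf : Function.Injective f := by
    intro T T' h
    exact Subtype.ext (h4_chi_injOn hF hψ T.2 T'.2 h)
  have hb : Function.Bijective f := by
    refine hf.bijective_of_nat_card_le ?_
    rw [CommGroup.card_monoidHom_of_hasEnoughRootsOfUnity, h4_card_herm_eq_skew hF ι]
    exact le_of_eq (Nat.card_congr Multiplicative.ofAdd.symm)
  obtain ⟨T, hT⟩ := hb.2 χ
  exact ⟨T.1, T.2, hT⟩

/-- a good `ψ` exists. -/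
theorem h4_exists_good (hF : Fintype.card F = q ^ 2)
    [HasEnoughRootsOfUnity K (Monoid.exponent (Multiplicative F))] :
    ∃ ψ : Multiplicative F →* Kˣ, h4_Good q ψ := by
  obtain ⟨ψ₀, hψ₀⟩ := exists_char_ne_one (F := F) (K := K)
  obtain ⟨t, ht⟩ : ∃ t : Multiplicative F, ψ₀ t ≠ 1 := by
    by_contra hcon
    push Not at hcon
    exact hψ₀ (MonoidHom.ext hcon)
  obtain ⟨j, hj0, hj⟩ := h4_exists_j hF
  obtain ⟨x, hx⟩ := h4_exists_not_fixed hF
  have hx0 : x - x ^ q ≠ 0 := sub_ne_zero.mpr (Ne.symm hx)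
  -- rescale `ψ₀` by `θ = t / (x - x ^ q)`
  let θ : F := Multiplicative.toAdd t / (x - x ^ q)
  refine ⟨ψ₀.comp (AddMonoidHom.toMultiplicative (AddMonoidHom.mulLeft θ)), x, ?_⟩
  show ψ₀ (Multiplicative.ofAdd (θ * (x - x ^ q))) ≠ 1
  have : θ * (x - x ^ q) = Multiplicative.toAdd t := div_mul_cancel₀ _ hx0
  rw [this]
  exact ht

end chars

/-! ### The package over `ℂ` -/

/-- `ℂ` has enough roots of unity for every finite commutative group. -/
theorem h4_hasEnough_complex (A : Type*) [CommGroup A] [Finite A] :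
    HasEnoughRootsOfUnity ℂ (Monoid.exponent A) := by
  have : NeZero (Monoid.exponent A) := ⟨Monoid.exponent_ne_zero_of_finite⟩
  infer_instance

/-- the order of a finite group is non-zero in `ℂ` (the hypothesis `hA` of the LS library). -/
theorem h4_card_ne_zero_complex (A : Type*) [Fintype A] [Nonempty A] :
    (Fintype.card A : ℂ) ≠ 0 :=
  Nat.cast_ne_zero.mpr Fintype.card_ne_zero

/-- a good additive character `ψ : F → ℂˣ` exists. -/
theorem h4_exists_good_complex (hF : Fintype.card F = q ^ 2) :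
    ∃ ψ : Multiplicative F →* ℂˣ, h4_Good q ψ := by
  have := h4_hasEnough_complex (Multiplicative F)
  exact h4_exists_good hF

/-- every complex character of the skew-Hermitian group is `χ_T` for a Hermitian `T`. -/
theorem h4_chi_surj_complex (hF : Fintype.card F = q ^ 2) {ι : Type*} [Fintype ι] [DecidableEq ι]
    {ψ : Multiplicative F →* ℂˣ} (hψ : h4_Good q ψ)
    (χ : Multiplicative (h4_skew hF ι) →* ℂˣ) :
    ∃ T : Matrix ι ι F, T ∈ h4_herm hF ι ∧ h4_chi hF ψ T = χ := by
  have := h4_hasEnough_complex (Multiplicative (h4_skew hF ι))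
  exact h4_chi_surj hF hψ χ

/-- a character which is non-trivial somewhere is `χ_T` with `T ≠ 0` Hermitian. -/
theorem h4_chi_surj_ne_zero (hF : Fintype.card F = q ^ 2) {ι : Type*} [Fintype ι] [DecidableEq ι]
    {ψ : Multiplicative F →* ℂˣ} (hψ : h4_Good q ψ)
    (χ : Multiplicative (h4_skew hF ι) →* ℂˣ) {z : Multiplicative (h4_skew hF ι)}
    (hz : χ z ≠ 1) :
    ∃ T : Matrix ι ι F, T ∈ h4_herm hF ι ∧ T ≠ 0 ∧ h4_chi hF ψ T = χ := by
  obtain ⟨T, hT, hχ⟩ := h4_chi_surj_complex hF hψ χ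
  refine ⟨T, hT, ?_, hχ⟩
  intro h0
  apply hz
  rw [← hχ, h0, h4_chi_zero, MonoidHom.one_apply]

end Cfsg.Agent.LS3
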