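import Mathlib
import Cfsg.Agent.LS3.H4_HermChar

set_option autoImplicit false
set_option linter.unusedSectionVars false

/-!
# LS3 swarm (helper4): the character side of the Heisenberg step

For "columns" `a a' : Matrix ι κ F` put `R(a,a') := a' a* - a a'*` (`h4_R q a a'`), the
skew-Hermitian matrix of the commutator `[v(a,·), v(a',·)] = u(a' a* - a a'*)`.  For a Hermitian
`T`, `tr (T R(a,a')) = z - σ z` with `z = tr (a* T a')` (`h4_zz q T a a'`).  If `T ≠ 0` there are
single columns with `z - σ z ≠ 0`, and then the characters `s ↦ χ_T (s c R)` (`c` in the fixed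
field) are non-trivial for `c ≠ 0`.
-/

namespace Cfsg.Agent.LS3

open Matrix Cfsg.Agent.Helper7.Herm Cfsg.Agent.Helper8.LS

variable {F : Type*} [Field F] [Fintype F] {q : ℕ}

theorem h4_trace_star (hF : Fintype.card F = q ^ 2) {κ : Type*} [Fintype κ]
    (M : Matrix κ κ F) : Matrix.trace (h4_star q M) = Matrix.trace M ^ q := by
  unfold Matrix.trace
  rw [sum_pow_q hF]
  rfl

/-- scalar form of the separation: for `y ≠ 0` purely imaginary and `c ≠ 0` in the fixed field
some `s` in the fixed field has `ψ (s c y) ≠ 1`. -/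
theorem h4_psi_sep {K : Type*} [Field K] (hF : Fintype.card F = q ^ 2)
    {ψ : Multiplicative F →* Kˣ} (hψ : h4_Good q ψ) {y : F} (hyq : y ^ q = -y) (hy0 : y ≠ 0)
    {c : F} (hc : c ^ q = c) (hc0 : c ≠ 0) :
    ∃ s : F, s ^ q = s ∧ ψ (Multiplicative.ofAdd (s * c * y)) ≠ 1 := by
  obtain ⟨w, hw⟩ := hψ
  have hwq : (w - w ^ q) ^ q = -(w - w ^ q) := h4_imag_pow_q hF w
  refine ⟨(w - w ^ q) / (c * y), ?_, ?_⟩
  · rw [div_pow, mul_pow, hwq, hc, hyq, mul_neg, neg_div_neg_eq]
  · have e : (w - w ^ q) / (c * y) * c * y = w - w ^ q := by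
      field_simp
    rw [e]
    exact hw

section rank2

variable {ι κ : Type*} [Fintype ι] [DecidableEq ι] [Fintype κ] [DecidableEq κ]

/-- `R(a,a') = a' a* - a a'*`. -/
def h4_R (q : ℕ) (a a' : Matrix ι κ F) : Matrix ι ι F :=
  a' * h4_star q a - a * h4_star q a'

theorem h4_R_apply (q : ℕ) (a a' : Matrix ι κ F) (i k : ι) :
    h4_R q a a' i k = ∑ u, (a' i u * a k u ^ q) - ∑ u, (a i u * a' k u ^ q) := by
  simp only [h4_R, Matrix.sub_apply, Matrix.mul_apply, h4_star_apply]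

theorem h4_R_mem_skew (hF : Fintype.card F = q ^ 2) (a a' : Matrix ι κ F) :
    h4_R q a a' ∈ h4_skew hF ι := by
  show h4_star q (h4_R q a a') = -(h4_R q a a')
  unfold h4_R
  rw [h4_star_sub hF, h4_star_mul hF, h4_star_mul hF, h4_star_star hF, h4_star_star hF, neg_sub]

theorem h4_R_swap (a a' : Matrix ι κ F) : h4_R q a' a = -h4_R q a a' := by
  unfold h4_R
  rw [neg_sub]

theorem h4_R_self (a : Matrix ι κ F) : h4_R q a a = 0 := by
  unfold h4_R
  rw [sub_self]

theorem h4_R_add_left (hF : Fintype.card F = q ^ 2) (a b a' : Matrix ι κ F) :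
    h4_R q (a + b) a' = h4_R q a a' + h4_R q b a' := by
  unfold h4_R
  rw [h4_star_add hF, Matrix.mul_add, Matrix.add_mul]
  abel

theorem h4_R_add_right (hF : Fintype.card F = q ^ 2) (a a' b' : Matrix ι κ F) :
    h4_R q a (a' + b') = h4_R q a a' + h4_R q a b' := by
  unfold h4_R
  rw [h4_star_add hF, Matrix.mul_add, Matrix.add_mul]
  abel

/-- fixed-field scalars come out: `R(t a, s a') = (s t) R(a,a')`. -/
theorem h4_R_smul {s t : F} (hs : s ^ q = s) (ht : t ^ q = t) (a a' : Matrix ι κ F) :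
    h4_R q (t • a) (s • a') = (s * t) • h4_R q a a' := by
  unfold h4_R
  rw [h4_star_smul, h4_star_smul, hs, ht, Matrix.smul_mul, Matrix.mul_smul, Matrix.smul_mul,
    Matrix.mul_smul, smul_smul, smul_smul, smul_sub, mul_comm t s]

/-- `z = tr (a* T a')`. -/
def h4_zz (q : ℕ) (T : Matrix ι ι F) (a a' : Matrix ι κ F) : F :=
  Matrix.trace (h4_star q a * T * a')

theorem h4_zz_pow_q (hF : Fintype.card F = q ^ 2) {T : Matrix ι ι F} (hT : T ∈ h4_herm hF ι)
    (a a' : Matrix ι κ F) : h4_zz q T a a' ^ q = h4_zz q T a' a := by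
  have hT' : h4_star q T = T := hT
  unfold h4_zz
  rw [← h4_trace_star hF, h4_star_mul hF, h4_star_mul hF, h4_star_star hF, hT', Matrix.mul_assoc]

/-- `tr (T R(a,a')) = z - σ z`. -/
theorem h4_trace_R (hF : Fintype.card F = q ^ 2) {T : Matrix ι ι F} (hT : T ∈ h4_herm hF ι)
    (a a' : Matrix ι κ F) :
    Matrix.trace (T * h4_R q a a') = h4_zz q T a a' - h4_zz q T a a' ^ q := by
  rw [h4_zz_pow_q hF hT]
  unfold h4_R h4_zz
  rw [Matrix.mul_sub, Matrix.trace_sub]
  congr 1
  · rw [← Matrix.mul_assoc, Matrix.trace_mul_comm, ← Matrix.mul_assoc]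
  · rw [← Matrix.mul_assoc, Matrix.trace_mul_comm, ← Matrix.mul_assoc]

/-- the value of `χ_T` on `(s c) R(a,a')`. -/
theorem h4_chi_R {K : Type*} [Field K] (hF : Fintype.card F = q ^ 2)
    (ψ : Multiplicative F →* Kˣ) {T : Matrix ι ι F} (hT : T ∈ h4_herm hF ι)
    (a a' : Matrix ι κ F) (r : F) (hr : r ^ q = r) :
    h4_chi hF ψ T (Multiplicative.ofAdd
        (⟨r • h4_R q a a', h4_smul_mem_skew hF hr (h4_R_mem_skew hF a a')⟩ : h4_skew hF ι))
      = ψ (Multiplicative.ofAdd (r * (h4_zz q T a a' - h4_zz q T a a' ^ q))) := by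
  rw [h4_chi_apply]
  congr 2
  show Matrix.trace (T * (r • h4_R q a a')) = _
  rw [Matrix.mul_smul, Matrix.trace_smul, h4_trace_R hF hT, smul_eq_mul]

/-- **separation**: if `z - σ z ≠ 0` and `c ≠ 0` lies in the fixed field, some `s` in the fixed
field has `χ_T ((s c) R(a,a')) ≠ 1`. -/
theorem h4_chi_R_sep {K : Type*} [Field K] (hF : Fintype.card F = q ^ 2)
    {ψ : Multiplicative F →* Kˣ} (hψ : h4_Good q ψ) {T : Matrix ι ι F}
    (hT : T ∈ h4_herm hF ι) (a a' : Matrix ι κ F)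
    (hz : h4_zz q T a a' - h4_zz q T a a' ^ q ≠ 0) {c : F} (hc : c ^ q = c) (hc0 : c ≠ 0) :
    ∃ (s : F) (hs : s ^ q = s),
      h4_chi hF ψ T (Multiplicative.ofAdd
        (⟨(s * c) • h4_R q a a', h4_smul_mem_skew hF (by rw [mul_pow, hs, hc])
          (h4_R_mem_skew hF a a')⟩ : h4_skew hF ι)) ≠ 1 := by
  obtain ⟨w, hw⟩ := hψ
  set y := h4_zz q T a a' - h4_zz q T a a' ^ q with hy
  have hyq : y ^ q = -y := h4_imag_pow_q hF _
  have hwq : (w - w ^ q) ^ q = -(w - w ^ q) := h4_imag_pow_q hF w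
  have hs : ((w - w ^ q) / (c * y)) ^ q = (w - w ^ q) / (c * y) := by
    rw [div_pow, mul_pow, hwq, hc, hyq, mul_neg, neg_div_neg_eq]
  refine ⟨(w - w ^ q) / (c * y), hs, ?_⟩
  rw [h4_chi_R hF ψ hT a a' _ (by rw [mul_pow, hs, hc])]
  have e : (w - w ^ q) / (c * y) * c * y = w - w ^ q := by
    field_simp
  rw [← hy, e]
  exact hw

end rank2

section single

variable {ι : Type*} [Fintype ι] [DecidableEq ι]

/-- a vector as a column. -/
def h4_col (a : ι → F) : Matrix ι Unit F := Matrix.replicateCol Unit a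

@[simp] theorem h4_col_apply (a : ι → F) (i : ι) (u : Unit) : h4_col a i u = a i := rfl

theorem h4_zz_col (T : Matrix ι ι F) (a a' : ι → F) :
    h4_zz q T (h4_col a) (h4_col a') = ∑ i, ∑ k, a i ^ q * T i k * a' k := by
  unfold h4_zz Matrix.trace
  simp only [Finset.univ_unique, Finset.sum_singleton, Matrix.diag_apply, Matrix.mul_apply,
    h4_star_apply, h4_col_apply, Finset.sum_mul]
  rw [Finset.sum_comm]

theorem h4_R_col_apply (a a' : ι → F) (i k : ι) :
    h4_R q (h4_col a) (h4_col a') i k = a' i * a k ^ q - a i * a' k ^ q := by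
  rw [h4_R_apply]
  simp

/-- for `T ≠ 0` there are columns with `z - σ z ≠ 0` (no Hermitian hypothesis needed). -/
theorem h4_exists_zz (hF : Fintype.card F = q ^ 2) {T : Matrix ι ι F} (hT0 : T ≠ 0) :
    ∃ a a' : ι → F, h4_zz q T (h4_col a) (h4_col a')
      - h4_zz q T (h4_col a) (h4_col a') ^ q ≠ 0 := by
  obtain ⟨i, k, hik⟩ : ∃ i k, T i k ≠ 0 := by
    by_contra hcon
    push Not at hcon
    exact hT0 (by ext i k; exact hcon i k)
  obtain ⟨w, hw⟩ := h4_exists_not_fixed hF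
  refine ⟨Pi.single i 1, Pi.single k (w / T i k), ?_⟩
  have e : h4_zz q T (h4_col (Pi.single i (1 : F))) (h4_col (Pi.single k (w / T i k))) = w := by
    rw [h4_zz_col]
    rw [Finset.sum_eq_single i, Finset.sum_eq_single k]
    · rw [Pi.single_eq_same, Pi.single_eq_same, one_pow, one_mul, mul_div_cancel₀ w hik]
    · intro b _ hb
      rw [Pi.single_eq_of_ne hb, mul_zero]
    · intro h; exact absurd (Finset.mem_univ _) h
    · intro b _ hb
      refine Finset.sum_eq_zero (fun k' _ => ?_)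
      rw [Pi.single_eq_of_ne hb, zero_pow (h3_q_ne_zero' hF), zero_mul, zero_mul]
    · intro h; exact absurd (Finset.mem_univ _) h
  rw [e]
  exact sub_ne_zero.mpr (Ne.symm hw)

/-- the same with columns `Matrix ι Unit F`. -/
theorem h4_exists_zz' (hF : Fintype.card F = q ^ 2) {T : Matrix ι ι F} (hT0 : T ≠ 0) :
    ∃ a a' : Matrix ι Unit F, h4_zz q T a a' - h4_zz q T a a' ^ q ≠ 0 := by
  obtain ⟨a, a', h⟩ := h4_exists_zz hF hT0
  exact ⟨h4_col a, h4_col a', h⟩

end single

end Cfsg.Agent.LS3
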