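import Mathlib
import Cfsg.Agent.LS3.H2_BlockOdd
import Cfsg.Agent.LS3.H4_HermRank2
import Cfsg.Agent.SU3G.H1_NTIface

set_option autoImplicit false
set_option linter.unusedSectionVars false
set_option linter.unusedVariables false

/-!
# LS3 (helper2): the odd block model in the vocabulary of the S2334 assembly

`h2_uO : Multiplicative (h4_skew hF (Fin m)) →* h3_BU hF (h2_J F m)`, `h2_dO` for every invertible
`A`, the Levi relation, non-scalarity, the commutator relation with `h4_R`, lifts.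
-/

namespace Cfsg.Agent.LS3

open Matrix Cfsg Cfsg.Agent.Helper7.Herm

variable {F : Type*} [Field F] [Fintype F] {q m : ℕ}

/-- the hom `S ↦ u(S) = v(0,S)` on skew-Hermitian matrices. -/
noncomputable def h2_uO (hF : Fintype.card F = q ^ 2) (m : ℕ) :
    Multiplicative (h4_skew hF (Fin m)) →* h3_BU hF (h2_J F m) where
  toFun S := h2_u hF (Multiplicative.toAdd S).1 (Multiplicative.toAdd S).2
  map_one' := (h2_u_eq_one_iff hF _ _).2 rfl
  map_mul' S S' :=
    (h2_u_mul hF (Multiplicative.toAdd S).1 (Multiplicative.toAdd S').1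
      (Multiplicative.toAdd S).2 (Multiplicative.toAdd S').2).symm

theorem h2_uO_apply (hF : Fintype.card F = q ^ 2) (S : h4_skew hF (Fin m)) :
    h2_uO hF m (Multiplicative.ofAdd S) = h2_u hF S.1 S.2 := rfl

theorem h2_uO_coe (hF : Fintype.card F = q ^ 2) (S : h4_skew hF (Fin m)) :
    ((h2_uO hF m (Multiplicative.ofAdd S)).1).1 = h2_vM q 0 S.1 := rfl

theorem h2_uO_injective (hF : Fintype.card F = q ^ 2) :
    Function.Injective (h2_uO hF m) := by
  intro S S' h
  have h1 : ((h2_uO hF m S).1).1 = ((h2_uO hF m S').1).1 := by rw [h]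
  have h2 := (h2_vM_inj (q := q) (a := 0) (a' := 0) (S := (Multiplicative.toAdd S).1)
    (S' := (Multiplicative.toAdd S').1) h1).2
  exact Subtype.ext h2

/-- `d(A)` for an arbitrary invertible `A` (`λ := det A ^ q * det A'`). -/
noncomputable def h2_dO (hF : Fintype.card F = q ^ 2) (A A' : Matrix (Fin m) (Fin m) F)
    (hAA' : A * A' = 1) : h3_BU hF (h2_J F m) :=
  have h1 : A.det * A'.det = 1 := by rw [← Matrix.det_mul, hAA', Matrix.det_one]
  h2_d hF A A' hAA' (A.det ^ q * A'.det)
    (by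
      rw [mul_pow, pow_q_pow_q hF]
      have : A.det ^ q * A'.det * (A.det * A'.det ^ q) = (A.det * A'.det) * (A.det * A'.det) ^ q := by
        rw [mul_pow]; ring
      rw [this, h1, one_pow, one_mul])
    (by
      have : A.det * A'.det ^ q * (A.det ^ q * A'.det) = (A.det * A'.det) * (A.det * A'.det) ^ q := by
        rw [mul_pow]; ring
      rw [this, h1, one_pow, one_mul])

/-- **Levi relation** `d(A) u(S) = u(A S A*) d(A)`. -/
theorem h2_dO_mul_uO (hF : Fintype.card F = q ^ 2) (A A' : Matrix (Fin m) (Fin m) F)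
    (hAA' : A * A' = 1) (S : h4_skew hF (Fin m)) :
    h2_dO hF A A' hAA' * h2_uO hF m (Multiplicative.ofAdd S)
      = h2_uO hF m (Multiplicative.ofAdd
          ⟨A * S.1 * h4_star q A, h4_conj_mem_skew hF A S.2⟩) * h2_dO hF A A' hAA' := by
  unfold h2_dO
  rw [h2_uO_apply, h2_uO_apply]
  exact h2_d_mul_u hF A A' hAA' _ _ _ S.1 S.2

/-- `u(S)`, `S ≠ 0`, is not a scalar matrix. -/
theorem h2_uO_not_scalar (hF : Fintype.card F = q ^ 2) (S : h4_skew hF (Fin m)) (hS : S ≠ 0)
    (c : F) : ((h2_uO hF m (Multiplicative.ofAdd S)).1).1 ≠ c • (1 : Matrix (h2_I m) (h2_I m) F) := by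
  intro h
  rw [h2_uO_coe] at h
  -- the `(d,d)` entry gives `c = 1`
  have hc : c = 1 := by
    have := congrFun (congrFun h (Sum.inr ())) (Sum.inr ())
    simpa [h2_vM] using this.symm
  rw [hc, one_smul, ← h2_vM_zero hF] at h
  have h2 := (h2_vM_inj h).2
  exact hS (Subtype.ext h2)

/-- **commutator relation** with helper4's `h4_R`. -/
theorem h2_v_comm_uO (hF : Fintype.card F = q ^ 2) (a a' : Matrix (Fin m) Unit F)
    (S S' : Matrix (Fin m) (Fin m) F) (h : S + h4_star q S = -(a * h4_star q a))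
    (h' : S' + h4_star q S' = -(a' * h4_star q a')) :
    h2_v hF a S h * h2_v hF a' S' h'
      = h2_uO hF m (Multiplicative.ofAdd ⟨h4_R q a a', h4_R_mem_skew hF a a'⟩)
        * (h2_v hF a' S' h' * h2_v hF a S h) := by
  rw [h2_uO_apply]
  have e := h2_v_comm hF a a' S S' h h'
  rw [e]
  have hc := h2_u_comm_v hF (a' * h3_ct q a - a * h3_ct q a') (h2_comm_skew hF a a')
  -- `u` is central in `Q'`
  have e2 : h2_u hF (a' * h3_ct q a - a * h3_ct q a') (h2_comm_skew hF a a')
      * (h2_v hF a' S' h' * h2_v hF a S h)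
      = h2_v hF a' S' h' * h2_v hF a S h
        * h2_u hF (a' * h3_ct q a - a * h3_ct q a') (h2_comm_skew hF a a') := by
    rw [← mul_assoc, hc a' S' h', mul_assoc, hc a S h, ← mul_assoc]
  exact e2.symm

theorem h2_uO_comm_v (hF : Fintype.card F = q ^ 2) (x : Multiplicative (h4_skew hF (Fin m)))
    (a : Matrix (Fin m) Unit F) (S : Matrix (Fin m) (Fin m) F)
    (h : S + h4_star q S = -(a * h4_star q a)) :
    h2_uO hF m x * h2_v hF a S h = h2_v hF a S h * h2_uO hF m x :=
  h2_u_comm_v hF (Multiplicative.toAdd x).1 (Multiplicative.toAdd x).2 a S h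

/-- every column `a` has a lift `v(a,S)`. -/
theorem h2_exists_lift (hF : Fintype.card F = q ^ 2) (a : Matrix (Fin m) Unit F) :
    ∃ S : Matrix (Fin m) (Fin m) F, S + h4_star q S = -(a * h4_star q a) := by
  obtain ⟨c, hc⟩ := Cfsg.Agent.SU3G.nt_trace hF
  refine ⟨c • (a * h4_star q a), ?_⟩
  have e : h4_star q (c • (a * h4_star q a)) = c ^ q • (a * h4_star q a) := by
    rw [h4_star_smul, h4_star_mul hF, h4_star_star hF]
  rw [e, ← add_smul, add_comm, hc, neg_one_smul]

end Cfsg.Agent.LS3
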