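import Mathlib
import Cfsg.Agent.LS3.H4_HermRank2

set_option autoImplicit false
set_option linter.unusedSectionVars false

/-!
# LS3 swarm (helper4): pieces (α), (β), (γ) for the Heisenberg step of S2334 (helper7's cut)

* `h4_exists_aniso` : a non-zero Hermitian `T` has a column `a` with `a* T a ≠ 0`;
* `h4_eps`          : the pairwise distinct characters `ε_c : y ↦ ψ (N (c σ(y) - y σ(c)))` of `(F,+)`;
* `h4_chi_rank1`    : `χ_T` on `(c σ(y) - y σ(c)) • a a*`;
* `h4_R_smul_self`  : `R(y • a, c • a) = (c σ(y) - y σ(c)) • a a*`.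
-/

namespace Cfsg.Agent.LS3

open Matrix Cfsg.Agent.Helper7.Herm Cfsg.Agent.Helper8.LS

variable {F : Type*} [Field F] [Fintype F] {q : ℕ}

/-- the trace `w + σ w` is not identically zero. -/
theorem h4_exists_trace_ne (hF : Fintype.card F = q ^ 2) : ∃ w : F, w + w ^ q ≠ 0 := by
  by_contra hcon
  push Not at hcon
  obtain ⟨x, hx⟩ := h4_exists_not_fixed hF
  apply hx
  have h1 : (1 : F) + 1 = 0 := by
    have := hcon 1
    rwa [one_pow] at this
  have h2 : ∀ w : F, w + w = 0 := by
    intro w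
    have : w + w = w * (1 + 1) := by ring
    rw [this, h1, mul_zero]
  have h3 := hcon x
  have h4 : x ^ q = x := by
    have h5 : x ^ q = x ^ q + (x + x) := by rw [h2 x, add_zero]
    rw [h5, ← add_assoc, add_comm (x ^ q) x, h3, zero_add]
  exact h4

section sesq

variable {ι κ : Type*} [Fintype ι] [DecidableEq ι] [Fintype κ] [DecidableEq κ]

theorem h4_zz_add_left (hF : Fintype.card F = q ^ 2) (T : Matrix ι ι F) (a b a' : Matrix ι κ F) :
    h4_zz q T (a + b) a' = h4_zz q T a a' + h4_zz q T b a' := by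
  unfold h4_zz
  rw [h4_star_add hF, Matrix.add_mul, Matrix.add_mul, Matrix.trace_add]

theorem h4_zz_add_right (T : Matrix ι ι F) (a a' b' : Matrix ι κ F) :
    h4_zz q T a (a' + b') = h4_zz q T a a' + h4_zz q T a b' := by
  unfold h4_zz
  rw [Matrix.mul_add, Matrix.trace_add]

theorem h4_zz_smul_left (T : Matrix ι ι F) (c : F) (a a' : Matrix ι κ F) :
    h4_zz q T (c • a) a' = c ^ q * h4_zz q T a a' := by
  unfold h4_zz
  rw [h4_star_smul, Matrix.smul_mul, Matrix.smul_mul, Matrix.trace_smul, smul_eq_mul]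

theorem h4_zz_smul_right (T : Matrix ι ι F) (c : F) (a a' : Matrix ι κ F) :
    h4_zz q T a (c • a') = c * h4_zz q T a a' := by
  unfold h4_zz
  rw [Matrix.mul_smul, Matrix.trace_smul, smul_eq_mul]

end sesq

section aniso

variable {ι : Type*} [Fintype ι] [DecidableEq ι]

/-- `e_i* T e_k = T i k`. -/
theorem h4_zz_single (hF : Fintype.card F = q ^ 2) (T : Matrix ι ι F) (i k : ι) :
    h4_zz q T (h4_col (Pi.single i (1 : F))) (h4_col (Pi.single k (1 : F))) = T i k := by
  rw [h4_zz_col]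
  rw [Finset.sum_eq_single i, Finset.sum_eq_single k]
  · rw [Pi.single_eq_same, Pi.single_eq_same, one_pow, one_mul, mul_one]
  · intro b _ hb
    rw [Pi.single_eq_of_ne hb, mul_zero]
  · intro h; exact absurd (Finset.mem_univ _) h
  · intro b _ hb
    refine Finset.sum_eq_zero (fun k' _ => ?_)
    rw [Pi.single_eq_of_ne hb, zero_pow (h3_q_ne_zero' hF), zero_mul, zero_mul]
  · intro h; exact absurd (Finset.mem_univ _) h

/-- **(α)** a non-zero Hermitian matrix is not totally isotropic. -/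
theorem h4_exists_aniso (hF : Fintype.card F = q ^ 2) {T : Matrix ι ι F}
    (hT : T ∈ h4_herm hF ι) (hT0 : T ≠ 0) : ∃ a : Matrix ι Unit F, h4_zz q T a a ≠ 0 := by
  by_cases hdiag : ∃ i, T i i ≠ 0
  · obtain ⟨i, hi⟩ := hdiag
    exact ⟨h4_col (Pi.single i 1), by rw [h4_zz_single hF]; exact hi⟩
  · push Not at hdiag
    obtain ⟨i, k, hik⟩ : ∃ i k, T i k ≠ 0 := by
      by_contra hcon
      push Not at hcon
      exact hT0 (by ext i k; exact hcon i k)
    obtain ⟨w, hw⟩ := h4_exists_trace_ne hF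
    set μ : F := w / T i k with hμ
    set ei : Matrix ι Unit F := h4_col (Pi.single i (1 : F)) with hei
    set ek : Matrix ι Unit F := h4_col (Pi.single k (1 : F)) with hek
    refine ⟨ei + μ • ek, ?_⟩
    have hki : T k i = T i k ^ q := h4_herm_entry hF hT i k
    have e : h4_zz q T (ei + μ • ek) (ei + μ • ek) = w + w ^ q := by
      rw [h4_zz_add_left hF, h4_zz_add_right, h4_zz_add_right, h4_zz_smul_left, h4_zz_smul_left,
        h4_zz_smul_right, h4_zz_smul_right, h4_zz_single hF, h4_zz_single hF, h4_zz_single hF,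
        h4_zz_single hF, hdiag i, hdiag k, hki]
      have h1 : μ * T i k = w := div_mul_cancel₀ w hik
      have h2 : μ ^ q * T i k ^ q = w ^ q := by rw [← mul_pow, h1]
      rw [h1, h2]
      ring
    rw [e]
    exact hw

end aniso

section eps

variable {K : Type*} [Field K]

/-- `t = c σ(y) - y σ(c)` is purely imaginary. -/
theorem h4_cy_pow_q (hF : Fintype.card F = q ^ 2) (c y : F) :
    (c * y ^ q - y * c ^ q) ^ q = -(c * y ^ q - y * c ^ q) := by
  rw [h4_sub_pow_q hF, mul_pow, mul_pow, pow_q_pow_q hF, pow_q_pow_q hF]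
  ring

/-- the additive map `y ↦ N (c σ(y) - y σ(c))`. -/
def h4_epsAdd (hF : Fintype.card F = q ^ 2) (N c : F) : F →+ F where
  toFun y := N * (c * y ^ q - y * c ^ q)
  map_zero' := by
    rw [zero_pow (h3_q_ne_zero' hF), mul_zero, zero_mul, sub_zero, mul_zero]
  map_add' y y' := by
    rw [add_pow_q hF]
    ring

/-- **(β)** general target field. -/
theorem h4_eps' (hF : Fintype.card F = q ^ 2) (ψ : Multiplicative F →* Kˣ)
    (hψ : h4_Good q ψ) (N : F) (hN : N ^ q = N) (hN0 : N ≠ 0) :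
    ∃ ε : F → (Multiplicative F →* Kˣ), Function.Injective ε ∧
      ∀ c y : F, ε c (Multiplicative.ofAdd y)
        = ψ (Multiplicative.ofAdd (N * (c * y ^ q - y * c ^ q))) := by
  refine ⟨fun c => ψ.comp (AddMonoidHom.toMultiplicative (h4_epsAdd hF N c)), ?_, ?_⟩
  · intro c c' hcc
    by_contra hne
    have hd : c - c' ≠ 0 := sub_ne_zero.mpr hne
    obtain ⟨w, hw⟩ := hψ
    apply hw
    set d := c - c' with hdd
    have hdq : d ^ q ≠ 0 := pow_ne_zero _ hd
    -- evaluate at `y = -w / (N d^q)`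
    set y : F := -w / (N * d ^ q) with hy
    have h1 := DFunLike.congr_fun hcc (Multiplicative.ofAdd y)
    have h2 : ψ (Multiplicative.ofAdd (N * (c * y ^ q - y * c ^ q)))
        = ψ (Multiplicative.ofAdd (N * (c' * y ^ q - y * c' ^ q))) := h1
    have h3 : w - w ^ q = N * (c * y ^ q - y * c ^ q) - N * (c' * y ^ q - y * c' ^ q) := by
      have e1 : N * (c * y ^ q - y * c ^ q) - N * (c' * y ^ q - y * c' ^ q)
          = N * (d * y ^ q - y * d ^ q) := by
        rw [hdd, h4_sub_pow_q hF]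
        ring
      have e2 : y ^ q = -(w ^ q) / (N * d) := by
        rw [hy, div_pow, h4_neg_pow_q hF, mul_pow, hN, pow_q_pow_q hF]
      rw [e1, e2, hy]
      field_simp
      ring
    rw [h3, sub_eq_add_neg, ofAdd_add, ofAdd_neg, map_mul, map_inv, h2]
    exact mul_inv_cancel _
  · intro c y
    rfl

/-- **(β)** `ε_c : y ↦ ψ (N (c σ(y) - y σ(c)))`, pairwise distinct characters of `(F, +)`. -/
theorem h4_eps (hF : Fintype.card F = q ^ 2) (ψ : Multiplicative F →* ℂˣ)
    (hψ : h4_Good q ψ) (N : F) (hN : N ^ q = N) (hN0 : N ≠ 0) :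
    ∃ ε : F → (Multiplicative F →* ℂˣ), Function.Injective ε ∧
      ∀ c y : F, ε c (Multiplicative.ofAdd y)
        = ψ (Multiplicative.ofAdd (N * (c * y ^ q - y * c ^ q))) :=
  h4_eps' hF ψ hψ N hN hN0

end eps

section rank1

variable {ι : Type*} [Fintype ι] [DecidableEq ι] {κ : Type*} [Fintype κ] [DecidableEq κ]

/-- `a a*` is Hermitian. -/
theorem h4_self_mem_herm (hF : Fintype.card F = q ^ 2) (a : Matrix ι κ F) :
    a * h4_star q a ∈ h4_herm hF ι := by
  show h4_star q (a * h4_star q a) = a * h4_star q a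
  rw [h4_star_mul hF, h4_star_star hF]

/-- membership for **(γ)**. -/
theorem h4_rank1_mem_skew (hF : Fintype.card F = q ^ 2) (a : Matrix ι κ F) (c y : F) :
    (c * y ^ q - y * c ^ q) • (a * h4_star q a) ∈ h4_skew hF ι :=
  h4_smul_mem_skew_of_herm hF (h4_cy_pow_q hF c y) (h4_self_mem_herm hF a)

/-- the identity produced by the block relation:
`R(y • a, c • a) = (c σ(y) - y σ(c)) • a a*`. -/
theorem h4_R_smul_self (a : Matrix ι κ F) (c y : F) :
    h4_R q (y • a) (c • a) = (c * y ^ q - y * c ^ q) • (a * h4_star q a) := by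
  unfold h4_R
  rw [h4_star_smul, h4_star_smul, Matrix.smul_mul, Matrix.mul_smul, Matrix.smul_mul,
    Matrix.mul_smul, smul_smul, smul_smul, sub_smul]

/-- `tr (T (t • a a*)) = (a* T a) t`. -/
theorem h4_trace_rank1 (T : Matrix ι ι F) (a : Matrix ι κ F) (t : F) :
    Matrix.trace (T * (t • (a * h4_star q a))) = h4_zz q T a a * t := by
  unfold h4_zz
  rw [Matrix.mul_smul, Matrix.trace_smul, smul_eq_mul, mul_comm, ← Matrix.mul_assoc,
    Matrix.trace_mul_comm, ← Matrix.mul_assoc]

/-- **(γ)** the value of `χ_T` on `(c σ(y) - y σ(c)) • a a*`. -/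
theorem h4_chi_rank1 {K : Type*} [Field K] (hF : Fintype.card F = q ^ 2)
    (ψ : Multiplicative F →* Kˣ) {T : Matrix ι ι F} (_hT : T ∈ h4_herm hF ι)
    (a : Matrix ι κ F) (c y : F)
    (h : (c * y ^ q - y * c ^ q) • (a * h4_star q a) ∈ h4_skew hF ι) :
    h4_chi hF ψ T (Multiplicative.ofAdd
        (⟨(c * y ^ q - y * c ^ q) • (a * h4_star q a), h⟩ : h4_skew hF ι))
      = ψ (Multiplicative.ofAdd (h4_zz q T a a * (c * y ^ q - y * c ^ q))) := by
  rw [h4_chi_apply]
  congr 2
  exact h4_trace_rank1 T a _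

/-- `N = a* T a` lies in the fixed field. -/
theorem h4_zz_self_pow_q (hF : Fintype.card F = q ^ 2) {T : Matrix ι ι F}
    (hT : T ∈ h4_herm hF ι) (a : Matrix ι κ F) : h4_zz q T a a ^ q = h4_zz q T a a :=
  h4_zz_pow_q hF hT a a

end rank1

end Cfsg.Agent.LS3
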