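import Mathlib
import Cfsg.Agent.Helper8.LSA

set_option autoImplicit false
set_option linter.unusedSectionVars false

/-!
# LS3 (S2334): the abstract Heisenberg step via `card_le_finrank_sq` (helper7)

`T : A →* End V` an abelian group acting, `χ` a weight, `W = wt T χ`.  Two families `v i`, `w y`
of elements of a group `G` acting through `R`, commuting with `T`, with
`R (w y) R (v i) = T (z y i) R (v i) R (w y)` and `χ (z y i) = ε i y` for pairwise distinct characters
`ε i` of `Y`: then `|I| ≤ (dim W)²`.
-/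

namespace Cfsg.Agent.LS3

open Cfsg.Agent.Helper8.LS

theorem h7_heis_sq {K V : Type*} [Field K] [AddCommGroup V] [Module K V] [Module.Finite K V]
    {A : Type*} [CommGroup A] [Fintype A] (T : A →* Module.End K V) (χ : A →* Kˣ)
    (hW : wt T χ ≠ ⊥) {G : Type*} [Group G] (R : G →* Module.End K V)
    {Y : Type*} [Group Y] [Fintype Y] (hY : (Fintype.card Y : K) ≠ 0)
    {I : Type*} [Fintype I] (v : I → G) (w : Y → G)
    (hv : ∀ i a, R (v i) * T a = T a * R (v i)) (hw : ∀ y a, R (w y) * T a = T a * R (w y))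
    (z : Y → I → A) (hrel : ∀ y i, R (w y) * R (v i) = T (z y i) * (R (v i) * R (w y)))
    (ε : I → (Y →* Kˣ)) (hε : Function.Injective ε) (hεz : ∀ y i, χ (z y i) = ε i y) :
    Fintype.card I ≤ Module.finrank K (wt T χ) * Module.finrank K (wt T χ) := by
  classical
  -- operators commuting with `T` preserve the weight space
  have hpres : ∀ f : Module.End K V, (∀ a, f * T a = T a * f) → ∀ x ∈ wt T χ, f x ∈ wt T χ := by
    intro f hf x hx a
    have h1 := congrArg (fun g : Module.End K V => g x) (hf a)
    simp only [Module.End.mul_apply] at h1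
    rw [← h1, hx a, map_smul]
  -- inverses commute as well
  have hwinv : ∀ y a, R ((w y)⁻¹) * T a = T a * R ((w y)⁻¹) := by
    intro y a
    have h1 : R ((w y)⁻¹) * R (w y) = 1 := by rw [← map_mul, inv_mul_cancel, map_one]
    have h2 : R (w y) * R ((w y)⁻¹) = 1 := by rw [← map_mul, mul_inv_cancel, map_one]
    calc R ((w y)⁻¹) * T a = R ((w y)⁻¹) * T a * (R (w y) * R ((w y)⁻¹)) := by rw [h2, mul_one]
      _ = R ((w y)⁻¹) * (T a * R (w y)) * R ((w y)⁻¹) := by simp only [mul_assoc]
      _ = R ((w y)⁻¹) * (R (w y) * T a) * R ((w y)⁻¹) := by rw [hw y a]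
      _ = (R ((w y)⁻¹) * R (w y)) * T a * R ((w y)⁻¹) := by simp only [mul_assoc]
      _ = T a * R ((w y)⁻¹) := by rw [h1, one_mul]
  let S : I → Module.End K (wt T χ) := fun i =>
    (R (v i)).restrict (hpres _ (hv i))
  let P : Y → Module.End K (wt T χ) := fun y =>
    (R (w y)).restrict (hpres _ (hw y))
  let P' : Y → Module.End K (wt T χ) := fun y =>
    (R ((w y)⁻¹)).restrict (hpres _ (hwinv y))
  have hS : ∀ i, S i ≠ 0 := by
    intro i h0
    obtain ⟨x, hx, hx0⟩ := (Submodule.ne_bot_iff _).mp hW
    have h1 : S i ⟨x, hx⟩ = 0 := by rw [h0]; rfl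
    have h2 : R (v i) x = 0 := by
      have := congrArg Subtype.val h1
      simpa [S, LinearMap.restrict_apply] using this
    have h3 : R ((v i)⁻¹) * R (v i) = 1 := by rw [← map_mul, inv_mul_cancel, map_one]
    have h4 := congrArg (fun g : Module.End K V => g x) h3
    simp only [Module.End.mul_apply, Module.End.one_apply] at h4
    rw [h2, map_zero] at h4
    exact hx0 h4.symm
  have hrel' : ∀ y i, P y * S i * P' y = ((ε i y : Kˣ) : K) • S i := by
    intro y i
    apply LinearMap.ext
    intro x
    apply Subtype.ext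
    have hx := x.2
    have e1 : ((P y * S i * P' y) x : V) = R (w y) (R (v i) (R ((w y)⁻¹) (x : V))) := rfl
    have e2 : ((((ε i y : Kˣ) : K) • S i) x : V) = ((ε i y : Kˣ) : K) • R (v i) (x : V) := rfl
    rw [e1, e2]
    have h1 := congrArg (fun g : Module.End K V => g (R ((w y)⁻¹) (x : V))) (hrel y i)
    simp only [Module.End.mul_apply] at h1
    rw [h1]
    have h2 : R (w y) (R ((w y)⁻¹) (x : V)) = (x : V) := by
      have h3 : R (w y) * R ((w y)⁻¹) = 1 := by rw [← map_mul, mul_inv_cancel, map_one]
      have := congrArg (fun g : Module.End K V => g (x : V)) h3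
      simpa using this
    rw [h2]
    have h4 : R (v i) (x : V) ∈ wt T χ := hpres _ (hv i) _ hx
    rw [h4 (z y i), hεz]
  exact card_le_finrank_sq hY S hS P P' ε hε hrel'

end Cfsg.Agent.LS3
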