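import Mathlib
import Cfsg.Agent.LS3.H2_OddApi
import Cfsg.Agent.LS3.H4_HermAniso
import Cfsg.Agent.LS3.H7_HeisSq

set_option autoImplicit false

/-! The concrete Heisenberg step for the odd-dimensional unitary groups: every weight space of the
central subgroup `Z' = {u(S)}` for a non-zero Hermitian `T` has dimension at least `q`. -/

namespace Cfsg.Agent.LS3

open Matrix Cfsg.Agent.Helper7.Herm Cfsg.Agent.Helper8.LS

variable {F : Type*} [Field F] [Fintype F] {q m : ℕ}

/-- `z(y a, c a) = y^q c z(a,a)`. -/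
theorem h1_zz_smul (T : Matrix (Fin m) (Fin m) F) (a : Matrix (Fin m) Unit F) (y c : F) :
    h4_zz q T (y • a) (c • a) = y ^ q * c * h4_zz q T a a := by
  unfold h4_zz
  rw [h4_star_smul, Matrix.smul_mul, Matrix.smul_mul, Matrix.mul_smul, Matrix.trace_smul,
    Matrix.trace_smul, smul_eq_mul, smul_eq_mul]
  ring

/-- the value of `χ_T` on the commutator matrix of `v(y a, ·)` and `v(c a, ·)`. -/
theorem h1_chi_R_smul (hF : Fintype.card F = q ^ 2) (ψ : Multiplicative F →* ℂˣ)
    {T : Matrix (Fin m) (Fin m) F} (hT : T ∈ h4_herm hF (Fin m)) (a : Matrix (Fin m) Unit F)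
    (y c : F) :
    h4_chi hF ψ T (Multiplicative.ofAdd
        (⟨h4_R q (y • a) (c • a), h4_R_mem_skew hF (y • a) (c • a)⟩ : h4_skew hF (Fin m)))
      = ψ (Multiplicative.ofAdd (h4_zz q T a a * (c * y ^ q - y * c ^ q))) := by
  rw [h4_chi_apply]
  congr 2
  show Matrix.trace (T * h4_R q (y • a) (c • a)) = _
  rw [h4_trace_R hF hT, h1_zz_smul, mul_pow, mul_pow, pow_q_pow_q hF, h4_zz_pow_q hF hT]
  ring

/-- **the Heisenberg step, odd case.** -/
theorem h1_heis_odd (hF : Fintype.card F = q ^ 2) [Fintype (Multiplicative (h4_skew hF (Fin m)))]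
    {V : Type*} [AddCommGroup V] [Module ℂ V] [Module.Finite ℂ V]
    (R : h3_BU hF (h2_J F m) →* Module.End ℂ V)
    (ψ : Multiplicative F →* ℂˣ) (hψ : h4_Good q ψ)
    (T : Matrix (Fin m) (Fin m) F) (hT : T ∈ h4_herm hF (Fin m)) (hT0 : T ≠ 0)
    (hne : wt (R.comp (h2_uO hF m)) (h4_chi hF ψ T) ≠ ⊥) :
    q ≤ Module.finrank ℂ (wt (R.comp (h2_uO hF m)) (h4_chi hF ψ T)) := by
  classical
  obtain ⟨a, ha⟩ := h4_exists_aniso hF hT hT0
  have hNq : h4_zz q T a a ^ q = h4_zz q T a a := h4_zz_pow_q hF hT a a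
  obtain ⟨ε, hεinj, hε⟩ := h4_eps hF ψ hψ (h4_zz q T a a) hNq ha
  choose S hS using fun c : F => h2_exists_lift hF (c • a)
  let v : F → h3_BU hF (h2_J F m) := fun c => h2_v hF (c • a) (S c) (hS c)
  have hY : (Fintype.card (Multiplicative F) : ℂ) ≠ 0 :=
    Nat.cast_ne_zero.mpr Fintype.card_ne_zero
  have key := h7_heis_sq (R.comp (h2_uO hF m)) (h4_chi hF ψ T) hne R (Y := Multiplicative F) hY
    (I := F) v (fun y => v (Multiplicative.toAdd y))
    (fun i x => by
      show R (v i) * R (h2_uO hF m x) = R (h2_uO hF m x) * R (v i)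
      rw [← map_mul, ← map_mul, h2_uO_comm_v])
    (fun y x => by
      show R (v (Multiplicative.toAdd y)) * R (h2_uO hF m x)
        = R (h2_uO hF m x) * R (v (Multiplicative.toAdd y))
      rw [← map_mul, ← map_mul, h2_uO_comm_v])
    (fun y i => Multiplicative.ofAdd
      (⟨h4_R q (Multiplicative.toAdd y • a) (i • a),
        h4_R_mem_skew hF (Multiplicative.toAdd y • a) (i • a)⟩ : h4_skew hF (Fin m)))
    (fun y i => by
      show R (v (Multiplicative.toAdd y)) * R (v i)
        = R (h2_uO hF m _) * (R (v i) * R (v (Multiplicative.toAdd y)))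
      rw [← map_mul, ← map_mul, ← map_mul]
      exact congrArg R (h2_v_comm_uO hF _ _ _ _ _ _))
    ε hεinj
    (fun y i => by
      rw [h1_chi_R_smul hF ψ hT a (Multiplicative.toAdd y) i]
      exact (hε i (Multiplicative.toAdd y)).symm)
  rw [hF, sq] at key
  exact Nat.mul_self_le_mul_self_iff.mp key

end Cfsg.Agent.LS3
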