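import Mathlib

set_option autoImplicit false

/-! Level sets of a quadratic form with a non-degenerate pair, over a finite field of
characteristic two: `q² · #{Q = α} ≤ (q + 1) · |V|` for `α ≠ 0`. -/

namespace Cfsg.Agent.LS3

open QuadraticMap

section level

variable {F : Type*} [Field F] [Fintype F] [DecidableEq F]
variable {V : Type*} [AddCommGroup V] [Module F V]

theorem h1_two_mul (h2 : (2 : F) = 0) (a : F) : a + a = 0 := by
  rw [← two_mul, h2, zero_mul]

theorem h1_polar_self (h2 : (2 : F) = 0) (Q : QuadraticForm F V) (x : V) : polar Q x x = 0 := by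
  rw [QuadraticMap.polar_self, two_nsmul]
  exact h1_two_mul h2 _

theorem h1_exists_sq (h2 : (2 : F) = 0) (a : F) : ∃ s : F, s * s = a := by
  have : CharP F 2 := CharTwo.of_one_ne_zero_of_two_eq_zero one_ne_zero h2
  obtain ⟨s, hs⟩ := FiniteField.isSquare_of_char_two (ringChar.eq F 2) a
  exact ⟨s, hs.symm⟩

/-- value of `Q` on `a u + b v`. -/
theorem h1_Q_comb (Q : QuadraticForm F V) (u v : V) (a b : F) :
    Q (a • u + b • v) = a * a * Q u + b * b * Q v + a * b * polar Q u v := by
  rw [QuadraticMap.map_add (⇑Q), QuadraticMap.map_smul, QuadraticMap.map_smul, polar_smul_left,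
    polar_smul_right]
  simp only [smul_eq_mul]
  ring

/-- `Q (w + y) = 0` when `y ∈ span(u,v)`, `w ⊥ u, v` and `Q y = Q w`. -/
theorem h1_Q_shift (h2 : (2 : F) = 0) (Q : QuadraticForm F V) (u v w : V)
    (hwu : polar Q w u = 0) (hwv : polar Q w v = 0) (a b : F) (h : Q (a • u + b • v) = Q w) :
    Q (w + (a • u + b • v)) = 0 := by
  rw [QuadraticMap.map_add (⇑Q), h, polar_add_right, polar_smul_right, polar_smul_right, hwu, hwv]
  simp only [smul_eq_mul, mul_zero, add_zero]
  exact h1_two_mul h2 _

/-- `W ∩ span(u,v) = 0` in the form of an injectivity statement. -/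
theorem h1_shift_inj (h2 : (2 : F) = 0) (Q : QuadraticForm F V) (u v : V) (huv : polar Q u v = 1)
    (w w' : V) (hwu : polar Q w u = 0) (hwv : polar Q w v = 0)
    (hwu' : polar Q w' u = 0) (hwv' : polar Q w' v = 0) (a b a' b' : F)
    (h : w + (a • u + b • v) = w' + (a' • u + b' • v)) : w = w' := by
  have hvu : polar Q v u = 1 := by rw [polar_comm]; exact huv
  have hu := congrArg (fun y => polar Q y u) h
  have hv := congrArg (fun y => polar Q y v) h
  simp only [polar_add_left, polar_smul_left, hwu, hwu', hwv, hwv', h1_polar_self h2, hvu, huv,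
    smul_eq_mul, mul_zero, mul_one, zero_add, add_zero] at hu hv
  rw [hu, hv] at h
  exact add_right_cancel h

variable [Fintype V] [DecidableEq V]

/-- `|V| ≤ q² · #W`, `W = {u,v}^⊥`. -/
theorem h1_card_le_W (h2 : (2 : F) = 0) (Q : QuadraticForm F V) (u v : V)
    (huv : polar Q u v = 1) :
    Fintype.card V ≤ Fintype.card F ^ 2 *
      (Finset.univ.filter fun w : V => polar Q w u = 0 ∧ polar Q w v = 0).card := by
  have hvu : polar Q v u = 1 := by rw [polar_comm]; exact huv
  set W := Finset.univ.filter fun w : V => polar Q w u = 0 ∧ polar Q w v = 0 with hW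
  have h1 : (Finset.univ : Finset V).card ≤ (W ×ˢ (Finset.univ : Finset (F × F))).card := by
    refine Finset.card_le_card_of_injOn
      (fun x => (x + (polar Q x v • u + polar Q x u • v), (polar Q x u, polar Q x v))) ?_ ?_
    · intro x _
      simp only [Finset.coe_product, Finset.coe_univ, Set.mem_prod, Set.mem_univ, and_true,
        Finset.mem_coe, hW, Finset.mem_filter, Finset.mem_univ, true_and]
      constructor
      · simp only [polar_add_left, polar_smul_left, h1_polar_self h2, hvu, smul_eq_mul, mul_zero,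
          mul_one, zero_add]
        exact h1_two_mul h2 _
      · simp only [polar_add_left, polar_smul_left, h1_polar_self h2, huv, smul_eq_mul, mul_zero,
          mul_one, add_zero]
        exact h1_two_mul h2 _
    · intro x _ y _ hxy
      simp only [Prod.mk.injEq] at hxy
      obtain ⟨h3, h4, h5⟩ := hxy
      rw [h4, h5] at h3
      exact add_right_cancel h3
  rw [Finset.card_univ, Finset.card_product, Finset.card_univ, Fintype.card_prod] at h1
  calc Fintype.card V ≤ W.card * (Fintype.card F * Fintype.card F) := h1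
    _ = Fintype.card F ^ 2 * W.card := by ring

/-- `#W ≤ #{Q = 0}`. -/
theorem h1_W_le_zero (h2 : (2 : F) = 0) (Q : QuadraticForm F V) (u v : V)
    (huv : polar Q u v = 1) :
    (Finset.univ.filter fun w : V => polar Q w u = 0 ∧ polar Q w v = 0).card ≤
      (Finset.univ.filter fun x : V => Q x = 0).card := by
  classical
  by_cases hu : Q u = 0
  · -- `p w = (Q w + Q v) u + v`
    refine Finset.card_le_card_of_injOn (fun w => w + ((Q w + Q v) • u + (1 : F) • v)) ?_ ?_
    · intro w hw
      simp only [Finset.coe_filter, Finset.mem_univ, true_and, Set.mem_ofPred_eq] at hw ⊢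
      refine h1_Q_shift h2 Q u v w hw.1 hw.2 _ _ ?_
      rw [h1_Q_comb, hu, huv]
      have := h1_two_mul h2 (Q v)
      linear_combination this
    · intro w hw w' hw' h
      simp only [Finset.coe_filter, Finset.mem_univ, true_and, Set.mem_ofPred_eq] at hw hw'
      exact h1_shift_inj h2 Q u v huv w w' hw.1 hw.2 hw'.1 hw'.2 _ _ _ _ h
  · -- `p w = s u`, `s² = Q w / Q u`
    choose sq hsq using h1_exists_sq (F := F) h2
    refine Finset.card_le_card_of_injOn (fun w => w + (sq (Q w / Q u) • u + (0 : F) • v)) ?_ ?_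
    · intro w hw
      simp only [Finset.coe_filter, Finset.mem_univ, true_and, Set.mem_ofPred_eq] at hw ⊢
      refine h1_Q_shift h2 Q u v w hw.1 hw.2 _ _ ?_
      rw [h1_Q_comb, hsq]
      field_simp
      ring
    · intro w hw w' hw' h
      simp only [Finset.coe_filter, Finset.mem_univ, true_and, Set.mem_ofPred_eq] at hw hw'
      exact h1_shift_inj h2 Q u v huv w w' hw.1 hw.2 hw'.1 hw'.2 _ _ _ _ h

/-- the non-zero level sets all have the same size. -/
theorem h1_level_le (h2 : (2 : F) = 0) (Q : QuadraticForm F V) (a a' : F) (ha : a ≠ 0)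
    (ha' : a' ≠ 0) :
    (Finset.univ.filter fun x : V => Q x = a).card ≤
      (Finset.univ.filter fun x : V => Q x = a').card := by
  obtain ⟨s, hs⟩ := h1_exists_sq h2 (a' / a)
  have hs0 : s ≠ 0 := by
    rintro rfl
    rw [mul_zero] at hs
    exact div_ne_zero ha' ha hs.symm
  refine Finset.card_le_card_of_injOn (fun x => s • x) ?_ ?_
  · intro x hx
    simp only [Finset.coe_filter, Finset.mem_univ, true_and, Set.mem_ofPred_eq] at hx ⊢
    rw [QuadraticMap.map_smul, hs, hx, smul_eq_mul]
    field_simp
  · intro x _ y _ h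
    exact smul_right_injective V hs0 h

theorem h1_level_eq (h2 : (2 : F) = 0) (Q : QuadraticForm F V) (a a' : F) (ha : a ≠ 0)
    (ha' : a' ≠ 0) :
    (Finset.univ.filter fun x : V => Q x = a).card =
      (Finset.univ.filter fun x : V => Q x = a').card :=
  le_antisymm (h1_level_le h2 Q a a' ha ha') (h1_level_le h2 Q a' a ha' ha)

/-- `|V| = z + (q - 1) · cnt`. -/
theorem h1_card_split (h2 : (2 : F) = 0) (Q : QuadraticForm F V) (α : F) (hα : α ≠ 0) :
    Fintype.card V = (Finset.univ.filter fun x : V => Q x = 0).card +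
      (Fintype.card F - 1) * (Finset.univ.filter fun x : V => Q x = α).card := by
  have h1 := Finset.card_eq_sum_card_fiberwise (f := fun x : V => Q x) (s := Finset.univ)
    (t := Finset.univ) (fun x _ => Finset.mem_coe.mpr (Finset.mem_univ _))
  rw [Finset.card_univ, ← Finset.add_sum_erase _ _ (Finset.mem_univ (0 : F))] at h1
  rw [h1]
  congr 1
  rw [Finset.sum_congr rfl (fun b hb => h1_level_eq h2 Q b α (Finset.ne_of_mem_erase hb) hα),
    Finset.sum_const, Finset.card_erase_of_mem (Finset.mem_univ _), Finset.card_univ, smul_eq_mul]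

/-- **the level count.** -/
theorem h1_level_count (h2 : (2 : F) = 0) (Q : QuadraticForm F V) (u v : V)
    (huv : polar Q u v = 1) (α : F) (hα : α ≠ 0) :
    Fintype.card F ^ 2 * (Finset.univ.filter fun x : V => Q x = α).card ≤
      (Fintype.card F + 1) * Fintype.card V := by
  have hz : Fintype.card V ≤ Fintype.card F ^ 2 * (Finset.univ.filter fun x : V => Q x = 0).card :=
    (h1_card_le_W h2 Q u v huv).trans (Nat.mul_le_mul_left _ (h1_W_le_zero h2 Q u v huv))
  have hsplit := h1_card_split h2 Q α hα
  have hq : 2 ≤ Fintype.card F := Fintype.one_lt_card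
  obtain ⟨r, hr⟩ : ∃ r, Fintype.card F = r + 2 := ⟨Fintype.card F - 2, by omega⟩
  set z := (Finset.univ.filter fun x : V => Q x = 0).card
  set cnt := (Finset.univ.filter fun x : V => Q x = α).card
  set N := Fintype.card V
  rw [hr] at hz hsplit ⊢
  have h3 : r + 2 - 1 = r + 1 := by omega
  rw [h3] at hsplit
  refine le_of_mul_le_mul_left (a := r + 1) ?_ (Nat.succ_pos r)
  nlinarith [hz, hsplit]

end level

end Cfsg.Agent.LS3
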