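import Mathlib
import Cfsg.Agent.Helper8.LSB

set_option autoImplicit false

/-!
LS3 / S2333: characters of the additive group of symmetric `n × n` matrices over a finite field,
parametrised by coefficient matrices `c` (`χ_c (S) = ψ (tr (cᵀ S))`), with the equivariance under
`S ↦ B S Bᵀ` and the link with the quadratic form `x ↦ x ⬝ᵥ c *ᵥ x`.
Symmetric matrices are coordinatised by their upper triangle `h1_UT n → F`.
-/

namespace Cfsg.Agent.LS3

open Matrix Cfsg.Agent.Helper8.LS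

set_option linter.unusedSectionVars false

variable {F : Type*} [Field F] {n : ℕ}

/-- the index set of the upper triangle (diagonal included). -/
abbrev h1_UT (n : ℕ) := {p : Fin n × Fin n // p.1 ≤ p.2}

/-- the symmetric matrix with given upper triangle. -/
def h1_symOf (a : h1_UT n → F) : Matrix (Fin n) (Fin n) F :=
  Matrix.of fun i j => if h : i ≤ j then a ⟨(i, j), h⟩ else a ⟨(j, i), le_of_lt (not_le.mp h)⟩

theorem h1_symOf_apply_le (a : h1_UT n → F) {i j : Fin n} (h : i ≤ j) :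
    h1_symOf a i j = a ⟨(i, j), h⟩ := by
  simp [h1_symOf, h]

theorem h1_symOf_apply_ge (a : h1_UT n → F) {i j : Fin n} (h : j ≤ i) :
    h1_symOf a i j = a ⟨(j, i), h⟩ := by
  rcases lt_or_eq_of_le h with h1 | h1
  · simp [h1_symOf, not_le.mpr h1]
  · subst h1
    simp [h1_symOf]

theorem h1_symOf_transpose (a : h1_UT n → F) : (h1_symOf a)ᵀ = h1_symOf a := by
  ext i j
  rw [Matrix.transpose_apply]
  rcases le_total i j with h | h
  · rw [h1_symOf_apply_ge a h, h1_symOf_apply_le a h]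
  · rw [h1_symOf_apply_le a h, h1_symOf_apply_ge a h]

theorem h1_symOf_add (a b : h1_UT n → F) : h1_symOf (a + b) = h1_symOf a + h1_symOf b := by
  ext i j
  rcases le_total i j with h | h
  · rw [Matrix.add_apply, h1_symOf_apply_le _ h, h1_symOf_apply_le _ h, h1_symOf_apply_le _ h,
      Pi.add_apply]
  · rw [Matrix.add_apply, h1_symOf_apply_ge _ h, h1_symOf_apply_ge _ h, h1_symOf_apply_ge _ h,
      Pi.add_apply]

theorem h1_symOf_zero : h1_symOf (0 : h1_UT n → F) = 0 := by
  ext i j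
  rcases le_total i j with h | h
  · rw [h1_symOf_apply_le _ h]; rfl
  · rw [h1_symOf_apply_ge _ h]; rfl

/-- the upper triangle of a matrix. -/
def h1_toSym (M : Matrix (Fin n) (Fin n) F) : h1_UT n → F := fun p => M p.1.1 p.1.2

theorem h1_toSym_symOf (a : h1_UT n → F) : h1_toSym (h1_symOf a) = a := by
  funext p
  obtain ⟨⟨i, j⟩, h⟩ := p
  exact h1_symOf_apply_le a h

theorem h1_symOf_toSym (M : Matrix (Fin n) (Fin n) F) (hM : Mᵀ = M) : h1_symOf (h1_toSym M) = M := by
  ext i j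
  rcases le_total i j with h | h
  · rw [h1_symOf_apply_le _ h]; rfl
  · rw [h1_symOf_apply_ge _ h]
    show M j i = M i j
    rw [← Matrix.transpose_apply M, hM]

theorem h1_symOf_injective : Function.Injective (h1_symOf : (h1_UT n → F) → _) := by
  intro a b h
  rw [← h1_toSym_symOf a, ← h1_toSym_symOf b, h]

/-- the coefficient vector of the functional `S ↦ tr (cᵀ S)` on symmetric matrices. -/
def h1_coef (c : Matrix (Fin n) (Fin n) F) : h1_UT n → F :=
  fun p => if p.1.1 = p.1.2 then c p.1.1 p.1.1 else c p.1.1 p.1.2 + c p.1.2 p.1.1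

/-- a double sum over the square as a sum over the upper triangle. -/
theorem h1_sum_upper (m : Fin n → Fin n → F) :
    ∑ i, ∑ j, m i j = ∑ p : h1_UT n,
      (if p.1.1 = p.1.2 then m p.1.1 p.1.1 else m p.1.1 p.1.2 + m p.1.2 p.1.1) := by
  classical
  rw [← Fintype.sum_prod_type']
  have h1 : ∀ p : Fin n × Fin n, m p.1 p.2 =
      (if p.1 ≤ p.2 then m p.1 p.2 else 0) + (if p.1 ≤ p.2 then 0 else m p.1 p.2) := by
    intro p
    split_ifs <;> simp
  rw [Finset.sum_congr rfl (fun p _ => h1 p), Finset.sum_add_distrib]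
  have h2 : ∑ p : Fin n × Fin n, (if p.1 ≤ p.2 then 0 else m p.1 p.2)
      = ∑ p : Fin n × Fin n, (if p.1 < p.2 then m p.2 p.1 else 0) := by
    rw [← (Equiv.prodComm (Fin n) (Fin n)).sum_comp]
    refine Finset.sum_congr rfl (fun p _ => ?_)
    show (if p.2 ≤ p.1 then 0 else m p.2 p.1) = if p.1 < p.2 then m p.2 p.1 else 0
    split_ifs with h h' h'
    · exact absurd h' (not_lt.mpr h)
    · rfl
    · rfl
    · exact absurd (not_le.mp h) h'
  rw [h2, ← Finset.sum_add_distrib]
  have h3 : ∀ p : Fin n × Fin n,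
      (if p.1 ≤ p.2 then m p.1 p.2 else 0) + (if p.1 < p.2 then m p.2 p.1 else 0)
      = if p.1 ≤ p.2 then (if p.1 = p.2 then m p.1 p.1 else m p.1 p.2 + m p.2 p.1) else 0 := by
    intro p
    by_cases h : p.1 ≤ p.2
    · rw [if_pos h, if_pos h]
      by_cases h' : p.1 = p.2
      · rw [if_pos h', if_neg (by rw [h']; exact lt_irrefl _), add_zero, ← h']
      · rw [if_neg h', if_pos (lt_of_le_of_ne h h')]
    · rw [if_neg h, if_neg h, if_neg (fun h' => h (le_of_lt h')), add_zero]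
  rw [Finset.sum_congr rfl (fun p _ => h3 p), ← Finset.sum_filter]
  rw [← Finset.sum_subtype (Finset.univ.filter fun p : Fin n × Fin n => p.1 ≤ p.2)
    (fun p => by simp) (fun p => if p.1 = p.2 then m p.1 p.1 else m p.1 p.2 + m p.2 p.1)]

theorem h1_pair (c : Matrix (Fin n) (Fin n) F) (a : h1_UT n → F) :
    a ⬝ᵥ h1_coef c = ∑ i, ∑ j, c i j * h1_symOf a i j := by
  rw [h1_sum_upper (fun i j => c i j * h1_symOf a i j)]
  unfold dotProduct
  refine Finset.sum_congr rfl (fun p _ => ?_)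
  obtain ⟨⟨i, j⟩, h⟩ := p
  simp only [h1_coef]
  by_cases hij : i = j
  · subst hij
    rw [if_pos rfl, if_pos rfl, h1_symOf_apply_le a h, mul_comm]
  · rw [if_neg hij, if_neg hij, h1_symOf_apply_le a h, h1_symOf_apply_ge a h]
    ring

theorem h1_pair_trace (c : Matrix (Fin n) (Fin n) F) (a : h1_UT n → F) :
    a ⬝ᵥ h1_coef c = Matrix.trace (cᵀ * h1_symOf a) := by
  rw [h1_pair, Matrix.trace]
  simp only [Matrix.diag_apply, Matrix.mul_apply, Matrix.transpose_apply]
  rw [Finset.sum_comm]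

/-! ### characters -/

section chars

variable {K : Type*} [Field K]

/-- the character `χ_c : S ↦ ψ (tr (cᵀ S))` of the symmetric matrices (in upper-triangle
coordinates). -/
noncomputable def h1_symChar (ψ : Multiplicative F →* Kˣ) (c : Matrix (Fin n) (Fin n) F) :
    Multiplicative (h1_UT n → F) →* Kˣ := dotChar ψ (h1_coef c)

theorem h1_symChar_apply (ψ : Multiplicative F →* Kˣ) (c : Matrix (Fin n) (Fin n) F)
    (a : h1_UT n → F) :
    h1_symChar ψ c (Multiplicative.ofAdd a)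
      = ψ (Multiplicative.ofAdd (Matrix.trace (cᵀ * h1_symOf a))) := by
  rw [h1_symChar, dotChar_apply, h1_pair_trace]

/-- the upper-triangular matrix with given coefficients. -/
def h1_upper (b : h1_UT n → F) : Matrix (Fin n) (Fin n) F :=
  Matrix.of fun i j => if h : i ≤ j then b ⟨(i, j), h⟩ else 0

theorem h1_coef_upper (b : h1_UT n → F) : h1_coef (h1_upper b) = b := by
  funext p
  obtain ⟨⟨i, j⟩, h⟩ := p
  simp only [h1_coef, h1_upper, Matrix.of_apply]
  by_cases hij : i = j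
  · subst hij
    simp
  · have h' : ¬ j ≤ i := fun h' => hij (le_antisymm h h')
    simp [hij, h, h']

/-- every character of the symmetric matrices is some `χ_c`. -/
theorem h1_symChar_surjective [Fintype F]
    [HasEnoughRootsOfUnity K (Monoid.exponent (Multiplicative (h1_UT n → F)))]
    {ψ : Multiplicative F →* Kˣ} (hψ : ψ ≠ 1) (χ : Multiplicative (h1_UT n → F) →* Kˣ) :
    ∃ c : Matrix (Fin n) (Fin n) F, χ = h1_symChar ψ c := by
  obtain ⟨b, hb⟩ := (dotChar_bijective hψ).2 χ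
  exact ⟨h1_upper b, by rw [h1_symChar, h1_coef_upper, hb]⟩

/-- the quadratic form of `c` as a pairing. -/
theorem h1_qf_eq_pair (c : Matrix (Fin n) (Fin n) F) (x : Fin n → F) :
    x ⬝ᵥ (c *ᵥ x) = h1_toSym (vecMulVec x x) ⬝ᵥ h1_coef c := by
  have hs : (vecMulVec x x)ᵀ = vecMulVec x x := by
    ext i j
    simp [vecMulVec_apply, mul_comm]
  rw [h1_pair, h1_symOf_toSym _ hs]
  simp only [dotProduct, Matrix.mulVec, vecMulVec_apply]
  refine Finset.sum_congr rfl (fun i _ => ?_)
  rw [Finset.mul_sum]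
  refine Finset.sum_congr rfl (fun j _ => ?_)
  ring

/-- `χ_c` determines the quadratic form `x ↦ x ⬝ᵥ c *ᵥ x`. -/
theorem h1_qf_eq_of_symChar_eq {ψ : Multiplicative F →* Kˣ} (hψ : ψ ≠ 1)
    {c c' : Matrix (Fin n) (Fin n) F} (h : h1_symChar ψ c = h1_symChar ψ c') (x : Fin n → F) :
    x ⬝ᵥ (c *ᵥ x) = x ⬝ᵥ (c' *ᵥ x) := by
  classical
  have h1 : h1_coef c = h1_coef c' := dotChar_injective hψ h
  rw [h1_qf_eq_pair, h1_qf_eq_pair, h1]

/-- equivariance: `χ_{Bᵀ c B} (S) = χ_c (B S Bᵀ)`. -/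
theorem h1_symChar_conj (ψ : Multiplicative F →* Kˣ) (c B : Matrix (Fin n) (Fin n) F)
    (a : h1_UT n → F) :
    h1_symChar ψ (Bᵀ * c * B) (Multiplicative.ofAdd a)
      = h1_symChar ψ c (Multiplicative.ofAdd (h1_toSym (B * h1_symOf a * Bᵀ))) := by
  have hs : (B * h1_symOf a * Bᵀ)ᵀ = B * h1_symOf a * Bᵀ := by
    rw [Matrix.transpose_mul, Matrix.transpose_mul, Matrix.transpose_transpose, h1_symOf_transpose,
      Matrix.mul_assoc]
  rw [h1_symChar_apply, h1_symChar_apply, h1_symOf_toSym _ hs]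
  congr 2
  rw [Matrix.transpose_mul, Matrix.transpose_mul, Matrix.transpose_transpose]
  simp only [Matrix.mul_assoc]
  rw [Matrix.trace_mul_comm]
  simp only [Matrix.mul_assoc]

/-- the quadratic form of `Bᵀ c B`. -/
theorem h1_qf_conj (c B : Matrix (Fin n) (Fin n) F) (x : Fin n → F) :
    x ⬝ᵥ ((Bᵀ * c * B) *ᵥ x) = (B *ᵥ x) ⬝ᵥ (c *ᵥ (B *ᵥ x)) := by
  rw [← Matrix.mulVec_mulVec, ← Matrix.mulVec_mulVec, Matrix.dotProduct_mulVec,
    Matrix.vecMul_transpose]

/-- a character `χ_c` with `c + cᵀ = 0` is trivial on the symmetric matrices with zero diagonal. -/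
theorem h1_symChar_eq_one_of_alt (ψ : Multiplicative F →* Kˣ) (c : Matrix (Fin n) (Fin n) F)
    (hc : c + cᵀ = 0) (a : h1_UT n → F) (ha : ∀ i, h1_symOf a i i = 0) :
    h1_symChar ψ c (Multiplicative.ofAdd a) = 1 := by
  rw [h1_symChar, dotChar_apply]
  have h0 : a ⬝ᵥ h1_coef c = 0 := by
    unfold dotProduct
    refine Finset.sum_eq_zero (fun p _ => ?_)
    obtain ⟨⟨i, j⟩, h⟩ := p
    simp only [h1_coef]
    by_cases hij : i = j
    · subst hij
      have := ha i
      rw [h1_symOf_apply_le a h] at this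
      rw [this, zero_mul]
    · rw [if_neg hij]
      have := congrFun (congrFun hc i) j
      rw [Matrix.add_apply, Matrix.transpose_apply, Matrix.zero_apply] at this
      rw [this, mul_zero]
  rw [h0, ofAdd_zero, map_one]

/-- **the counting bridge**: if all the characters `χ_{Bᵀ c0 B}` are weights of `T`, then the number
of distinct quadratic forms `x ↦ (B x) ⬝ᵥ c0 *ᵥ (B x)` is at most the dimension. -/
theorem h1_card_forms_le [Fintype F] {V : Type*} [AddCommGroup V] [Module K V] [Module.Finite K V]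
    [HasEnoughRootsOfUnity K (Monoid.exponent (Multiplicative (h1_UT n → F)))]
    (T : Multiplicative (h1_UT n → F) →* Module.End K V)
    (hA : (Fintype.card (Multiplicative (h1_UT n → F)) : K) ≠ 0)
    {ψ : Multiplicative F →* Kˣ} (hψ : ψ ≠ 1) (c0 : Matrix (Fin n) (Fin n) F)
    (hW : ∀ B : GL (Fin n) F,
      wt T (h1_symChar ψ ((B : Matrix (Fin n) (Fin n) F)ᵀ * c0 * (B : Matrix (Fin n) (Fin n) F))) ≠ ⊥) :
    Nat.card {g : (Fin n → F) → F // ∃ B : GL (Fin n) F, g = fun x =>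
        ((B : Matrix (Fin n) (Fin n) F) *ᵥ x) ⬝ᵥ (c0 *ᵥ ((B : Matrix (Fin n) (Fin n) F) *ᵥ x))}
      ≤ Module.finrank K V := by
  classical
  set I := {g : (Fin n → F) → F // ∃ B : GL (Fin n) F, g = fun x =>
        ((B : Matrix (Fin n) (Fin n) F) *ᵥ x) ⬝ᵥ (c0 *ᵥ ((B : Matrix (Fin n) (Fin n) F) *ᵥ x))} with hI
  have : Fintype I := Fintype.ofFinite I
  rw [Nat.card_eq_fintype_card]
  let Bof : I → GL (Fin n) F := fun g => Classical.choose g.2
  have hBof : ∀ g : I, g.1 = fun x =>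
      ((Bof g : Matrix (Fin n) (Fin n) F) *ᵥ x) ⬝ᵥ (c0 *ᵥ ((Bof g : Matrix (Fin n) (Fin n) F) *ᵥ x)) :=
    fun g => Classical.choose_spec g.2
  refine card_le_finrank T hA
    (fun g : I => h1_symChar ψ ((Bof g : Matrix (Fin n) (Fin n) F)ᵀ * c0 *
      (Bof g : Matrix (Fin n) (Fin n) F))) ?_ (fun g => hW (Bof g))
  intro g g' hgg
  apply Subtype.ext
  rw [hBof g, hBof g']
  funext x
  have := h1_qf_eq_of_symChar_eq hψ hgg x
  rwa [h1_qf_conj, h1_qf_conj] at this

end chars

end Cfsg.Agent.LS3
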