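import Mathlib

set_option autoImplicit false

/-!
# LS3 swarm, piece NT (helper4): non-central elements act non-trivially

Let `G` be a group with `G ⧸ Z(G)` simple and `ρ` an irreducible complex representation of `G` of
degree at least two.  Then no non-central element of `G` acts trivially.
-/

namespace Cfsg.Agent.LS3

/-- an endomorphism commuting with an irreducible complex representation is a scalar. -/
theorem h4_schur {G : Type*} [Group G] {k : ℕ} (ρ : Representation ℂ G (Fin k → ℂ))
    (hirr : ρ.IsIrreducible) (hk : 1 ≤ k) (T : (Fin k → ℂ) →ₗ[ℂ] (Fin k → ℂ))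
    (hT : ∀ x : G, T ∘ₗ ρ x = ρ x ∘ₗ T) : ∃ c : ℂ, T = c • 1 := by
  classical
  have : Nontrivial (Fin k → ℂ) := by
    have : Nonempty (Fin k) := ⟨⟨0, by omega⟩⟩
    infer_instance
  obtain ⟨c, hc⟩ := Module.End.exists_eigenvalue T
  refine ⟨c, ?_⟩
  let W : Subrepresentation ρ :=
    ⟨Module.End.eigenspace T c, fun x v hv => by
      rw [Module.End.mem_eigenspace_iff] at hv ⊢
      have h1 := LinearMap.congr_fun (hT x) v
      simp only [LinearMap.comp_apply] at h1
      rw [h1, hv, map_smul]⟩
  have := hirr
  rcases eq_bot_or_eq_top W with hW | hW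
  · exfalso
    have h1 : W.toSubmodule = ⊥ := by rw [hW]; rfl
    exact hc h1
  · have h1 : W.toSubmodule = ⊤ := by rw [hW]; rfl
    apply LinearMap.ext
    intro v
    have hv : v ∈ Module.End.eigenspace T c := by
      show v ∈ W.toSubmodule
      rw [h1]
      exact Submodule.mem_top
    rw [Module.End.mem_eigenspace_iff] at hv
    rw [hv]
    rfl

/-- **Lemma NT.** -/
theorem h4_nt {G : Type*} [Group G] (hs : IsSimpleGroup (G ⧸ Subgroup.center G)) {k : ℕ}
    (ρ : Representation ℂ G (Fin k → ℂ)) (hirr : ρ.IsIrreducible) (hk : 2 ≤ k) {g : G}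
    (hg : g ∉ Subgroup.center G) : ρ g ≠ 1 := by
  classical
  intro hρg
  -- the kernel of `ρ`
  let N : Subgroup G := MonoidHom.ker ρ
  have hgN : g ∈ N := by
    show ρ g = 1
    exact hρg
  have hNn : (N.map (QuotientGroup.mk' (Subgroup.center G))).Normal :=
    Subgroup.Normal.map (MonoidHom.normal_ker ρ) _ (QuotientGroup.mk'_surjective _)
  rcases hNn.eq_bot_or_eq_top with hbot | htop
  · -- `N ≤ Z(G)`
    apply hg
    have h1 : (QuotientGroup.mk' (Subgroup.center G)) g ∈
        N.map (QuotientGroup.mk' (Subgroup.center G)) := Subgroup.mem_map_of_mem _ hgN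
    rw [hbot, Subgroup.mem_bot] at h1
    exact (QuotientGroup.eq_one_iff g).mp h1
  · -- every element acts as a scalar
    have hscal : ∀ x : G, ∃ c : ℂ, ρ x = c • 1 := by
      intro x
      have h1 : (QuotientGroup.mk' (Subgroup.center G)) x ∈
          N.map (QuotientGroup.mk' (Subgroup.center G)) := by
        rw [htop]
        exact Subgroup.mem_top _
      obtain ⟨n, hn, hnx⟩ := Subgroup.mem_map.mp h1
      have hz : n⁻¹ * x ∈ Subgroup.center G := by
        have := QuotientGroup.eq.mp hnx
        exact this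
      have hρn : ρ n = 1 := hn
      have hx : ρ x = ρ (n⁻¹ * x) := by
        have : x = n * (n⁻¹ * x) := by group
        conv_lhs => rw [this, map_mul, hρn, one_mul]
      rw [hx]
      apply h4_schur ρ hirr (by omega)
      intro y
      have hcomm : (n⁻¹ * x) * y = y * (n⁻¹ * x) := (Subgroup.mem_center_iff.mp hz y).symm
      have h3 : ρ ((n⁻¹ * x) * y) = ρ (y * (n⁻¹ * x)) := congrArg ρ hcomm
      rw [map_mul ρ (n⁻¹ * x) y, map_mul ρ y (n⁻¹ * x)] at h3
      exact h3
    -- so a coordinate line is invariant
    let i0 : Fin k := ⟨0, by omega⟩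
    let i1 : Fin k := ⟨1, by omega⟩
    let W : Subrepresentation ρ :=
      ⟨Submodule.span ℂ {(Pi.single i0 1 : Fin k → ℂ)}, fun x v hv => by
        obtain ⟨c, hc⟩ := hscal x
        rw [hc]
        exact Submodule.smul_mem _ c hv⟩
    have := hirr
    rcases eq_bot_or_eq_top W with hW | hW
    · have h1 : W.toSubmodule = ⊥ := by rw [hW]; rfl
      have h2 : (Pi.single i0 1 : Fin k → ℂ) ∈ W.toSubmodule :=
        Submodule.subset_span (Set.mem_singleton _)
      rw [h1, Submodule.mem_bot] at h2
      have := congrFun h2 i0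
      simp at this
    · have h1 : W.toSubmodule = ⊤ := by rw [hW]; rfl
      have h2 : (Pi.single i1 1 : Fin k → ℂ) ∈ W.toSubmodule := by
        rw [h1]; exact Submodule.mem_top
      obtain ⟨a, ha⟩ := Submodule.mem_span_singleton.mp h2
      have := congrFun ha i1
      have hne : i1 ≠ i0 := by
        intro h
        have := congrArg Fin.val h
        simp [i0, i1] at this
      simp [hne] at this

end Cfsg.Agent.LS3
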