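import Mathlib
import Cfsg.Agent.LS3.H1_SymChar
import Cfsg.Agent.LS3.H4_NT

set_option autoImplicit false

/-! The abstract assembly of the Landazuri–Seitz type bound for `Sp_{2n}(q)`, `q` even: a group `G`
with `G / Z(G)` simple, containing a copy `u` of the symmetric matrices normalised by elements `d B`
(`B ∈ GL_n`) acting by `S ↦ B S Bᵀ`, has no small irreducible complex representations, given the
orbit lemma for quadratic forms as a hypothesis. -/

namespace Cfsg.Agent.LS3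

open Matrix Cfsg.Agent.Helper8.LS

theorem h1_rep_apply_injective {G : Type*} [Group G] {V : Type*} [AddCommGroup V] [Module ℂ V]
    (ρ : G →* Module.End ℂ V) (g : G) : Function.Injective (ρ g) := by
  intro v w hvw
  have h1 : ρ g⁻¹ (ρ g v) = ρ g⁻¹ (ρ g w) := by rw [hvw]
  rw [← Module.End.mul_apply, ← Module.End.mul_apply, ← map_mul, inv_mul_cancel, map_one] at h1
  exact h1

theorem h1_charP_two_of_even {F : Type*} [Field F] [Fintype F] (heven : Even (Fintype.card F)) :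
    CharP F 2 := by
  apply ringChar.of_eq
  rw [FiniteField.even_card_iff_char_two]
  exact Nat.even_iff.mp heven

theorem h1_sp_asm {F : Type*} [Field F] [Fintype F] [DecidableEq F] {n : ℕ}
    (heven : Even (Fintype.card F))
    {G : Type*} [Group G] (hs : IsSimpleGroup (G ⧸ Subgroup.center G))
    (u : Multiplicative (h1_UT n → F) →* G) (d : GL (Fin n) F → G)
    (hdu : ∀ (B : GL (Fin n) F) (a : h1_UT n → F),
      d B * u (Multiplicative.ofAdd a)
        = u (Multiplicative.ofAdd (h1_toSym ((B : Matrix (Fin n) (Fin n) F) * h1_symOf a *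
            (B : Matrix (Fin n) (Fin n) F)ᵀ))) * d B)
    (a0 : h1_UT n → F) (ha0 : ∀ i, h1_symOf a0 i i = 0)
    (hz : u (Multiplicative.ofAdd a0) ∉ Subgroup.center G)
    (M D : ℕ)
    (hQ : ∀ c : Matrix (Fin n) (Fin n) F, c + cᵀ ≠ 0 →
      M ≤ D * Nat.card {g : (Fin n → F) → F // ∃ B : GL (Fin n) F, g = fun x =>
        ((B : Matrix (Fin n) (Fin n) F) *ᵥ x) ⬝ᵥ (c *ᵥ ((B : Matrix (Fin n) (Fin n) F) *ᵥ x))})
    (k : ℕ) (ρ : Representation ℂ G (Fin k → ℂ)) (hirr : ρ.IsIrreducible) (hk : 2 ≤ k) :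
    M / D ≤ k := by
  classical
  have hcp : CharP F 2 := h1_charP_two_of_even heven
  have : NeZero ((2 : ℕ) : ℂ) := ⟨by norm_num⟩
  have : HasEnoughRootsOfUnity ℂ 2 := inferInstance
  have hE : HasEnoughRootsOfUnity ℂ (Monoid.exponent (Multiplicative F)) := hasEnough_exponent' 2
  have hE' : HasEnoughRootsOfUnity ℂ (Monoid.exponent (Multiplicative (h1_UT n → F))) :=
    hasEnough_exponent 2
  obtain ⟨ψ, hψ⟩ := exists_char_ne_one (F := F) (K := ℂ)
  let ρ' : G →* Module.End ℂ (Fin k → ℂ) := ρ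
  set T : Multiplicative (h1_UT n → F) →* Module.End ℂ (Fin k → ℂ) := ρ'.comp u with hT
  have hA : (Fintype.card (Multiplicative (h1_UT n → F)) : ℂ) ≠ 0 :=
    Nat.cast_ne_zero.mpr Fintype.card_ne_zero
  have hz' : T (Multiplicative.ofAdd a0) ≠ 1 := h4_nt hs ρ hirr hk hz
  obtain ⟨χ, hχne, hχ1⟩ := exists_wt_ne_bot T hA _ hz'
  obtain ⟨c0, rfl⟩ := h1_symChar_surjective hψ χ
  have hc0 : c0 + c0ᵀ ≠ 0 := fun h => hχ1 (h1_symChar_eq_one_of_alt ψ c0 h a0 ha0)
  have hW : ∀ B : GL (Fin n) F,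
      wt T (h1_symChar ψ ((B : Matrix (Fin n) (Fin n) F)ᵀ * c0 * (B : Matrix (Fin n) (Fin n) F)))
        ≠ ⊥ := by
    intro B
    refine wt_ne_bot_of_conj' T (ρ' (d B)⁻¹) (h1_rep_apply_injective ρ' _) _ (h1_symChar ψ c0) ?_
      hχne
    intro a'
    refine ⟨Multiplicative.ofAdd (h1_toSym ((B : Matrix (Fin n) (Fin n) F) *
      h1_symOf (Multiplicative.toAdd a') * (B : Matrix (Fin n) (Fin n) F)ᵀ)), ?_, ?_⟩
    · show ρ' (d B)⁻¹ * ρ' (u _) = ρ' (u a') * ρ' (d B)⁻¹
      rw [← map_mul, ← map_mul]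
      congr 1
      have h := hdu B (Multiplicative.toAdd a')
      rw [inv_mul_eq_iff_eq_mul, ← mul_assoc, eq_mul_inv_iff_mul_eq]
      exact h.symm
    · have : a' = Multiplicative.ofAdd (Multiplicative.toAdd a') := rfl
      conv_rhs => rw [this]
      rw [h1_symChar_conj]
  have h1 := h1_card_forms_le T hA hψ c0 hW
  rw [Module.finrank_fin_fun] at h1
  exact Nat.div_le_of_le_mul ((hQ c0 hc0).trans (Nat.mul_le_mul_left D h1))

end Cfsg.Agent.LS3
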