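import Mathlib
import Cfsg.Agent.Helper8.LSA

set_option autoImplicit false

/-! LS3 (helper2): the Heisenberg step of the Landazuri–Seitz argument as an abstract lemma
about weight spaces. -/

namespace Cfsg.Agent.LS3

open Cfsg.Agent.Helper8.LS

section

variable {K V : Type*} [Field K] [AddCommGroup V] [Module K V]
variable {A : Type*} [CommGroup A]

/-- restriction of an action to an invariant subspace. -/
def h2_res (T : A →* Module.End K V) (W : Submodule K V) (hWA : ∀ a, ∀ w ∈ W, T a w ∈ W) :
    A →* Module.End K W where
  toFun a := (T a).restrict (hWA a)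
  map_one' := by
    ext w
    simp [LinearMap.restrict_apply]
  map_mul' a b := by
    ext w
    simp [LinearMap.restrict_apply, map_mul]

theorem h2_res_apply (T : A →* Module.End K V) (W : Submodule K V)
    (hWA : ∀ a, ∀ w ∈ W, T a w ∈ W) (a : A) (w : W) :
    ((h2_res T W hWA a) w : V) = T a (w : V) := rfl

end

/-- **Heisenberg step.** An abelian group `A` acts on `V` stabilising `W ≠ 0`; operators `g i`
stabilise `W`, are injective and twist the action of `A` on `W` by pairwise distinct characters
`κ i`.  Then `W` has dimension at least the number of the `g i`. -/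
theorem h2_heis {K V : Type*} [Field K] [AddCommGroup V] [Module K V] [Module.Finite K V]
    {A : Type*} [CommGroup A] [Fintype A] [HasEnoughRootsOfUnity K (Monoid.exponent A)]
    (hA : (Fintype.card A : K) ≠ 0) (T : A →* Module.End K V) (W : Submodule K V) (hW : W ≠ ⊥)
    (hWA : ∀ a, ∀ w ∈ W, T a w ∈ W) {I : Type*} [Fintype I] (g : I → Module.End K V)
    (hg : ∀ i, Function.Injective (g i)) (hgW : ∀ i, ∀ w ∈ W, g i w ∈ W)
    (κ : I → (A →* Kˣ)) (hκ : Function.Injective κ)
    (h : ∀ i a, ∀ w ∈ W, T a (g i w) = ((κ i a : Kˣ) : K) • g i (T a w)) :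
    Fintype.card I ≤ Module.finrank K W := by
  classical
  have : Fintype (A →* Kˣ) := Fintype.ofFinite _
  set TW : A →* Module.End K W := h2_res T W hWA with hTW
  -- a weight of `A` on `W`
  have hfr : Module.finrank K W ≠ 0 := by
    intro h0
    exact hW (Submodule.finrank_eq_zero.mp h0)
  obtain ⟨η, hη⟩ : ∃ η : A →* Kˣ, wt TW η ≠ ⊥ := by
    by_contra hcon
    push Not at hcon
    apply hfr
    rw [finrank_eq_sum TW hA]
    apply Finset.sum_eq_zero
    intro χ _
    rw [hcon χ]
    exact finrank_bot K W
  obtain ⟨w, hw, hw0⟩ := (Submodule.ne_bot_iff _).mp hη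
  -- the twisted weights
  refine card_le_finrank TW hA (fun i => η * κ i) ?_ ?_
  · intro i j hij
    apply hκ
    exact mul_left_cancel hij
  · intro i
    rw [Submodule.ne_bot_iff]
    refine ⟨⟨g i (w : V), hgW i _ w.2⟩, ?_, ?_⟩
    · intro a
      apply Subtype.ext
      rw [h2_res_apply]
      simp only [Submodule.coe_smul]
      rw [h i a _ w.2]
      have hwa := congrArg (Subtype.val : W → V) (hw a)
      rw [h2_res_apply] at hwa
      simp only [Submodule.coe_smul] at hwa
      rw [hwa, map_smul, smul_smul, MonoidHom.mul_apply, Units.val_mul, mul_comm]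
    · intro h0
      apply hw0
      have h1 := congrArg (Subtype.val : W → V) h0
      simp only [Submodule.coe_zero] at h1
      have h2 : (w : V) = 0 := hg i (by rw [h1, map_zero])
      exact Subtype.ext h2

end Cfsg.Agent.LS3
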