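import Mathlib
import Cfsg.Agent.LS3.H3_BlockEven
import Cfsg.Agent.Helper8.SUCenter

set_option autoImplicit false
set_option linter.unusedSectionVars false

/-!
# LS3 (helper3): images of non-scalar block elements are not central in `SU n F q`
-/

namespace Cfsg.Agent.LS3

open Matrix Cfsg Cfsg.Agent.Helper7.Herm

variable {F : Type*} [Field F] [Fintype F] {q : ℕ} {n : ℕ} {ι : Type} [Fintype ι] [DecidableEq ι]

/-- a block element whose matrix is not scalar is mapped outside the centre of `SU n F q`. -/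
theorem h3_phi_not_mem_center (hF : Fintype.card F = q ^ 2) (hn : 1 ≤ n)
    (B : Matrix (Fin n) ι F) (B' : Matrix ι (Fin n) F) (h1 : B * B' = 1) (h2 : B' * B = 1)
    (J : Matrix ι ι F) (hJ : h3_gram q B = J) (M : h3_BU hF J)
    (hM : ∀ c : F, (M.1).1 ≠ c • (1 : Matrix ι ι F)) :
    h3_phi hF B B' h1 h2 J hJ M ∉ Subgroup.center (SU n F q) := by
  intro hz
  obtain ⟨ζ, hζ, hζn, hz'⟩ := Cfsg.Agent.Helper8.SUCenter.center_eq_scal hF hn _ hz
  apply hM ζ
  have hmat : B * (M.1).1 * B' = ζ • (1 : Matrix (Fin n) (Fin n) F) := by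
    have := congrArg (fun x : SU n F q => ((x.1 : Matrix.SpecialLinearGroup (Fin n) F) :
      Matrix (Fin n) (Fin n) F)) hz'
    exact this
  have e : B' * (B * (M.1).1 * B') * B = (M.1).1 := by
    have : B' * (B * (M.1).1 * B') * B = (B' * B) * (M.1).1 * (B' * B) := by
      simp only [Matrix.mul_assoc]
    rw [this, h2, Matrix.one_mul, Matrix.mul_one]
  rw [← e, hmat, Matrix.mul_smul, Matrix.mul_one, Matrix.smul_mul, h2]

/-- `u(S)` is not scalar for `S ≠ 0`. -/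
theorem h3_uS_not_scalar (hF : Fintype.card F = q ^ 2) {m : ℕ} (S : Matrix (Fin m) (Fin m) F)
    (hS : h3_ct q S = -S) (hS0 : S ≠ 0) (c : F) :
    ((h3_uS hF S hS).1).1 ≠ c • (1 : Matrix (Fin m ⊕ Fin m) (Fin m ⊕ Fin m) F) := by
  intro h
  apply hS0
  rw [h3_uS_coe, ← Matrix.fromBlocks_one, Matrix.fromBlocks_smul] at h
  have := (Matrix.fromBlocks_inj.1 h).2.1
  rw [this, smul_zero]

/-- **non-centrality** of `φ(u(S))`, `S ≠ 0`. -/
theorem h3_phi_uS_not_mem_center (hF : Fintype.card F = q ^ 2) (hn : 1 ≤ n) {m : ℕ}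
    (B : Matrix (Fin n) (Fin m ⊕ Fin m) F) (B' : Matrix (Fin m ⊕ Fin m) (Fin n) F)
    (h1 : B * B' = 1) (h2 : B' * B = 1)
    (hJ : h3_gram q B = (Matrix.fromBlocks 0 1 1 0 : Matrix (Fin m ⊕ Fin m) (Fin m ⊕ Fin m) F))
    (S : Matrix (Fin m) (Fin m) F) (hS : h3_ct q S = -S) (hS0 : S ≠ 0) :
    h3_phi hF B B' h1 h2 _ hJ (h3_uS hF S hS) ∉ Subgroup.center (SU n F q) :=
  h3_phi_not_mem_center hF hn B B' h1 h2 _ hJ _ (h3_uS_not_scalar hF S hS hS0)

end Cfsg.Agent.LS3
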