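import Mathlib
import Cfsg.Agent.S0283
import Cfsg.Agent.Helper8.LSA
import Cfsg.Agent.LS3.H4_NT
import Cfsg.Agent.LS3.H4_HermChar
import Cfsg.Agent.LS3.H3_Frames
import Cfsg.Agent.LS3.H3_NonCentral

set_option autoImplicit false
set_option linter.unusedSectionVars false

/-!
# LS3 (helper3): assembly of S2335 (`SU_{2m}(q)`, Landazuri–Seitz bound `(q^n - 1)/(q + 1)`)

Reduction of the bound to the Hermitian orbit inequality (lead's `l_herm_orbit_det`).
-/

namespace Cfsg.Agent.LS3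

open Matrix Cfsg Cfsg.Agent.Helper7.Herm Cfsg.Agent.Helper8.LS

variable {F : Type*} [Field F] [Fintype F] {q : ℕ}

theorem h3_uS_congr (hF : Fintype.card F = q ^ 2) {m : ℕ} {S S' : Matrix (Fin m) (Fin m) F}
    (h : S = S') (hS : h3_ct q S = -S) (hS' : h3_ct q S' = -S') :
    h3_uS hF S hS = h3_uS hF S' hS' := by
  subst h
  rfl

theorem h3_skew_of_mem (hF : Fintype.card F = q ^ 2) {ι : Type*} {S : Matrix ι ι F}
    (hS : S ∈ h4_skew hF ι) : h3_ct q S = -S := hS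

/-- the unipotent radical `Z'` of the Siegel parabolic, as a homomorphism into `SU n F q`. -/
noncomputable def h3_uHom (hF : Fintype.card F = q ^ 2) {n m : ℕ}
    (B : Matrix (Fin n) (Fin m ⊕ Fin m) F) (B' : Matrix (Fin m ⊕ Fin m) (Fin n) F)
    (h1 : B * B' = 1) (h2 : B' * B = 1)
    (hJ : h3_gram q B = (Matrix.fromBlocks 0 1 1 0 : Matrix (Fin m ⊕ Fin m) (Fin m ⊕ Fin m) F)) :
    Multiplicative (h4_skew hF (Fin m)) →* SU n F q where
  toFun S := h3_phi hF B B' h1 h2 _ hJ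
    (h3_uS hF (Multiplicative.toAdd S).1 (h3_skew_of_mem hF (Multiplicative.toAdd S).2))
  map_one' := by
    have h0 : h3_uS hF ((Multiplicative.toAdd (1 : Multiplicative (h4_skew hF (Fin m)))).1)
        (h3_skew_of_mem hF (Multiplicative.toAdd (1 : Multiplicative (h4_skew hF (Fin m)))).2)
          = 1 :=
      (h3_uS_eq_one_iff hF _ _).2 rfl
    rw [h0, map_one]
  map_mul' S S' := by
    rw [← map_mul]
    congr 1
    rw [h3_uS_mul hF _ _ _ _ (h3_skew_add hF (h3_skew_of_mem hF (Multiplicative.toAdd S).2)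
      (h3_skew_of_mem hF (Multiplicative.toAdd S').2))]
    exact h3_uS_congr hF rfl _ _

theorem h3_uHom_apply (hF : Fintype.card F = q ^ 2) {n m : ℕ}
    (B : Matrix (Fin n) (Fin m ⊕ Fin m) F) (B' : Matrix (Fin m ⊕ Fin m) (Fin n) F)
    (h1 : B * B' = 1) (h2 : B' * B = 1)
    (hJ : h3_gram q B = (Matrix.fromBlocks 0 1 1 0 : Matrix (Fin m ⊕ Fin m) (Fin m ⊕ Fin m) F))
    (S : h4_skew hF (Fin m)) :
    h3_uHom hF B B' h1 h2 hJ (Multiplicative.ofAdd S)
      = h3_phi hF B B' h1 h2 _ hJ (h3_uS hF S.1 (h3_skew_of_mem hF S.2)) := rfl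

/-- the conjugating Levi element attached to `C ∈ GL_m` with `det C ∈ F_q`:
`d((C⁻¹)*)`, with matrix `diag((C⁻¹)*, C)`. -/
noncomputable def h3_lev (hF : Fintype.card F = q ^ 2) {m : ℕ} (C : GL (Fin m) F)
    (hC : C.1.det ^ q = C.1.det) :
    h3_BU hF (Matrix.fromBlocks 0 1 1 0 : Matrix (Fin m ⊕ Fin m) (Fin m ⊕ Fin m) F) :=
  h3_dA hF (h3_ct q (C⁻¹).1) (h3_ct q C.1)
    (by
      rw [← h3_ct_mul hF]
      have : C.1 * (C⁻¹).1 = 1 := by
        rw [← Units.val_mul, mul_inv_cancel, Units.val_one]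
      rw [this, h3_ct_one hF])
    (by
      rw [h3_det_ct hF, pow_q_pow_q hF]
      have h1 : (C⁻¹).1.det * C.1.det = 1 := by
        rw [← Matrix.det_mul, ← Units.val_mul, inv_mul_cancel, Units.val_one, Matrix.det_one]
      have hC0 : C.1.det ≠ 0 := fun h0 => by rw [h0, mul_zero] at h1; exact zero_ne_one h1
      have h2 : ((C⁻¹).1.det * C.1.det) ^ q = 1 := by rw [h1, one_pow]
      rw [mul_pow, hC] at h2
      apply mul_right_cancel₀ hC0
      rw [h1, h2])

/-- the key relation: `lev(C) * u(C* S' C) = u(S') * lev(C)`. -/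
theorem h3_lev_mul_uS (hF : Fintype.card F = q ^ 2) {m : ℕ} (C : GL (Fin m) F)
    (hC : C.1.det ^ q = C.1.det) (S' : Matrix (Fin m) (Fin m) F) (hS' : h3_ct q S' = -S')
    (hS : h3_ct q (h3_ct q C.1 * S' * h3_ct q (h3_ct q C.1))
      = -(h3_ct q C.1 * S' * h3_ct q (h3_ct q C.1))) :
    h3_lev hF C hC * h3_uS hF (h3_ct q C.1 * S' * h3_ct q (h3_ct q C.1)) hS
      = h3_uS hF S' hS' * h3_lev hF C hC := by
  unfold h3_lev
  rw [h3_dA_mul_uS]
  congr 1
  apply h3_uS_congr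
  have e1 : C.1 * (C⁻¹).1 = 1 := by
    rw [← Units.val_mul, mul_inv_cancel, Units.val_one]
  rw [h3_ct_ct hF, h3_ct_ct hF]
  calc h3_ct q (C⁻¹).1 * (h3_ct q C.1 * S' * C.1) * (C⁻¹).1
      = (h3_ct q (C⁻¹).1 * h3_ct q C.1) * S' * (C.1 * (C⁻¹).1) := by
        simp only [Matrix.mul_assoc]
    _ = S' := by
        rw [← h3_ct_mul hF, e1, h3_ct_one hF, Matrix.one_mul, Matrix.mul_one]

section asm

variable {m : ℕ}

/-- **S2335 modulo the orbit inequality.** -/
theorem h3_su_even_of_orbit (hF : Fintype.card F = q ^ 2) (hm : 2 ≤ m)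
    (horb : ∀ T : Matrix (Fin m) (Fin m) F, (T.map (· ^ q))ᵀ = T → T ≠ 0 →
      q ^ (2 * m) - 1 ≤ (q + 1) * Nat.card {T' : Matrix (Fin m) (Fin m) F //
        ∃ C : GL (Fin m) F, C.1.det ^ q = C.1.det ∧ T' = C.1 * T * (C.1.map (· ^ q))ᵀ})
    (k : ℕ) (ρ : Representation ℂ (SU (m + m) F q) (Fin k → ℂ)) (hirr : ρ.IsIrreducible)
    (hk : 2 ≤ k) : (q ^ (m + m) - 1) / (q + 1) ≤ k := by
  classical
  -- the frame and the group layer
  obtain ⟨B, B', h1, h2, hG⟩ := h3_frame_even hF m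
  have hJ : h3_gram q B
      = (Matrix.fromBlocks 0 1 1 0 : Matrix (Fin m ⊕ Fin m) (Fin m ⊕ Fin m) F) := hG
  let Z := Multiplicative (h4_skew hF (Fin m))
  haveI : Fintype Z := Fintype.ofFinite Z
  let u : Z →* SU (m + m) F q := h3_uHom hF B B' h1 h2 hJ
  let TZ : Z →* Module.End ℂ (Fin k → ℂ) := ρ.comp u
  have hA : (Fintype.card Z : ℂ) ≠ 0 := h4_card_ne_zero_complex Z
  -- simplicity and NT
  have hs : IsSimpleGroup (SU (m + m) F q ⧸ Subgroup.center (SU (m + m) F q)) :=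
    Cfsg.Agent.S0283.result hF (m + m) (by omega) (by omega)
  -- a non-zero skew-Hermitian matrix
  obtain ⟨j, hj0, hj⟩ := h4_exists_j hF
  have hS0mem : Matrix.single (⟨0, by omega⟩ : Fin m) (⟨0, by omega⟩ : Fin m) j
      ∈ h4_skew hF (Fin m) := by
    rw [h4_mem_skew_iff]
    intro a b
    by_cases hab : a = ⟨0, by omega⟩ ∧ b = ⟨0, by omega⟩
    · obtain ⟨rfl, rfl⟩ := hab
      simp [hj]
    · have h1' : Matrix.single (⟨0, by omega⟩ : Fin m) (⟨0, by omega⟩ : Fin m) j b a = 0 := by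
        rw [Matrix.single_apply, if_neg]
        intro h
        exact hab ⟨h.2.symm, h.1.symm⟩
      have h2' : Matrix.single (⟨0, by omega⟩ : Fin m) (⟨0, by omega⟩ : Fin m) j a b = 0 := by
        rw [Matrix.single_apply, if_neg]
        intro h
        exact hab ⟨h.1.symm, h.2.symm⟩
      rw [h1', h2', zero_pow (h3_q_ne_zero' hF), neg_zero]
  have hS0ne : Matrix.single (⟨0, by omega⟩ : Fin m) (⟨0, by omega⟩ : Fin m) j ≠ 0 := by
    intro h
    have := congrFun (congrFun h ⟨0, by omega⟩) ⟨0, by omega⟩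
    simp at this
    exact hj0 this
  let S0 : h4_skew hF (Fin m) := ⟨_, hS0mem⟩
  have hz : u (Multiplicative.ofAdd S0) ∉ Subgroup.center (SU (m + m) F q) :=
    h3_phi_uS_not_mem_center hF (by omega) B B' h1 h2 hJ _ (h3_skew_of_mem hF S0.2) hS0ne
  have hρz : TZ (Multiplicative.ofAdd S0) ≠ 1 := h4_nt hs ρ hirr hk hz
  obtain ⟨χ, hχne, hχz⟩ := exists_wt_ne_bot TZ hA (Multiplicative.ofAdd S0) hρz
  obtain ⟨ψ, hψ⟩ := h4_exists_good_complex hF
  obtain ⟨T, hT, hT0, hTχ⟩ := h4_chi_surj_ne_zero hF hψ χ hχz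
  -- the orbit
  let O := {T' : Matrix (Fin m) (Fin m) F //
    ∃ C : GL (Fin m) F, C.1.det ^ q = C.1.det ∧ T' = C.1 * T * (C.1.map (· ^ q))ᵀ}
  haveI : Fintype O := Fintype.ofFinite O
  let f : O → (Z →* ℂˣ) := fun T' => h4_chi hF ψ T'.1
  have hfinj : Function.Injective f := by
    intro T1 T2 h12
    obtain ⟨C1, -, e1⟩ := T1.2
    obtain ⟨C2, -, e2⟩ := T2.2
    apply Subtype.ext
    refine h4_chi_injOn hF hψ ?_ ?_ h12
    · rw [e1]; exact h4_conj_mem_herm hF C1.1 hT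
    · rw [e2]; exact h4_conj_mem_herm hF C2.1 hT
  have hfne : ∀ T' : O, wt TZ (f T') ≠ ⊥ := by
    intro T'
    obtain ⟨C, hC, e⟩ := T'.2
    let γ : SU (m + m) F q := h3_phi hF B B' h1 h2 _ hJ (h3_lev hF C hC)
    have hginj : Function.Injective (ρ γ) := by
      intro x y hxy
      have h := congrArg (ρ γ⁻¹) hxy
      have e1 : ∀ w, ρ γ⁻¹ (ρ γ w) = w := by
        intro w
        rw [← Module.End.mul_apply, ← map_mul, inv_mul_cancel, map_one, Module.End.one_apply]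
      rwa [e1, e1] at h
    refine wt_ne_bot_of_conj' TZ (ρ γ) hginj (f T') χ ?_ hχne
    intro a'
    have hmem := h4_conj_mem_skew hF (h4_star q C.1) (Multiplicative.toAdd a').2
    refine ⟨Multiplicative.ofAdd ⟨_, hmem⟩, ?_, ?_⟩
    · -- operator relation
      show ρ γ * ρ (u (Multiplicative.ofAdd ⟨_, hmem⟩)) = ρ (u a') * ρ γ
      rw [← map_mul, ← map_mul]
      congr 1
      show h3_phi hF B B' h1 h2 _ hJ (h3_lev hF C hC)
          * h3_phi hF B B' h1 h2 _ hJ (h3_uS hF _ (h3_skew_of_mem hF hmem))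
        = h3_phi hF B B' h1 h2 _ hJ (h3_uS hF (Multiplicative.toAdd a').1
            (h3_skew_of_mem hF (Multiplicative.toAdd a').2))
          * h3_phi hF B B' h1 h2 _ hJ (h3_lev hF C hC)
      rw [← map_mul, ← map_mul]
      congr 1
      exact h3_lev_mul_uS hF C hC _ (h3_skew_of_mem hF (Multiplicative.toAdd a').2)
        (h3_skew_of_mem hF hmem)
    · -- character relation
      rw [← hTχ]
      show h4_chi hF ψ T (Multiplicative.ofAdd ⟨_, hmem⟩) = h4_chi hF ψ T'.1 a'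
      have := h4_chi_conj hF ψ T (h4_star q C.1) (Multiplicative.toAdd a')
      rw [this, h4_star_star hF, e]
      rfl
  have hcard := card_le_finrank TZ hA f hfinj hfne
  rw [Module.finrank_fin_fun] at hcard
  have hT' : (T.map (· ^ q))ᵀ = T := hT
  have hmain := horb T hT' hT0
  have hOcard : Nat.card O = Fintype.card O := Nat.card_eq_fintype_card
  apply Nat.div_le_of_le_mul
  have e2 : m + m = 2 * m := (two_mul m).symm
  rw [e2]
  calc q ^ (2 * m) - 1 ≤ (q + 1) * Nat.card O := hmain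
    _ ≤ (q + 1) * k := by
        rw [hOcard]
        exact Nat.mul_le_mul_left _ hcard

end asm

end Cfsg.Agent.LS3
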