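import Mathlib
import Cfsg.Agent.Helper8.LSA
import Cfsg.Agent.LS3.H4_HermChar

set_option autoImplicit false
set_option linter.unusedSectionVars false

/-!
# LS3 swarm (helper4): counting bridge from weights `χ_{C T C*}` to the orbit subtypes of the
Hermitian orbit lemmas (`l_herm_orbit`, `l_herm_orbit_det`).
-/

namespace Cfsg.Agent.LS3

open Matrix Cfsg.Agent.Helper7.Herm Cfsg.Agent.Helper8.LS

variable {F : Type*} [Field F] [Fintype F] {q : ℕ}
variable {ι : Type*} [Fintype ι] [DecidableEq ι]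
variable {K : Type*} [Field K] {V : Type*} [AddCommGroup V] [Module K V] [Module.Finite K V]

/-- weighted bridge: if every `χ_{C T C*}`, `C ∈ GL` with `P C`, has a weight space of dimension
`≥ r`, then `r * #{C T C* : P C} ≤ dim V`. -/
theorem h4_mul_card_orbit_le (hF : Fintype.card F = q ^ 2)
    [Fintype (Multiplicative (h4_skew hF ι))]
    [HasEnoughRootsOfUnity K (Monoid.exponent (Multiplicative (h4_skew hF ι)))]
    (Tz : Multiplicative (h4_skew hF ι) →* Module.End K V)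
    (hA : (Fintype.card (Multiplicative (h4_skew hF ι)) : K) ≠ 0)
    {ψ : Multiplicative F →* Kˣ} (hψ : h4_Good q ψ)
    (T : Matrix ι ι F) (hT : T ∈ h4_herm hF ι) (P : GL ι F → Prop) (r : ℕ)
    (hW : ∀ C : GL ι F, P C →
      r ≤ Module.finrank K (wt Tz (h4_chi hF ψ (C.1 * T * h4_star q C.1)))) :
    r * Nat.card {T' : Matrix ι ι F // ∃ C : GL ι F, P C ∧ T' = C.1 * T * (C.1.map (· ^ q))ᵀ}
      ≤ Module.finrank K V := by
  classical
  let I := {T' : Matrix ι ι F // ∃ C : GL ι F, P C ∧ T' = C.1 * T * (C.1.map (· ^ q))ᵀ}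
  have : Fintype I := Fintype.ofFinite I
  let f : I → (Multiplicative (h4_skew hF ι) →* Kˣ) := fun T' => h4_chi hF ψ T'.1
  have hmem : ∀ T' : I, T'.1 ∈ h4_herm hF ι := by
    intro T'
    obtain ⟨C, _, hC⟩ := T'.2
    rw [hC]
    exact h4_conj_mem_herm hF C.1 hT
  have hf : Function.Injective f := by
    intro T' T'' h
    exact Subtype.ext (h4_chi_injOn hF hψ (hmem T') (hmem T'') h)
  have h1 := sum_finrank_le Tz hA f hf
  refine le_trans ?_ h1
  have h2 : ∀ i : I, r ≤ Module.finrank K (wt Tz (f i)) := by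
    intro i
    obtain ⟨C, hP, hC⟩ := i.2
    have := hW C hP
    show r ≤ Module.finrank K (wt Tz (h4_chi hF ψ i.1))
    rw [hC]
    exact this
  calc r * Nat.card I = ∑ _i : I, r := by
        rw [Nat.card_eq_fintype_card, Finset.sum_const, Finset.card_univ, smul_eq_mul, mul_comm]
    _ ≤ ∑ i : I, Module.finrank K (wt Tz (f i)) := Finset.sum_le_sum (fun i _ => h2 i)

/-- bridge: if every `χ_{C T C*}`, `C ∈ GL` with `P C`, is a weight, then
`#{C T C* : P C} ≤ dim V`. -/
theorem h4_card_orbit_le (hF : Fintype.card F = q ^ 2)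
    [Fintype (Multiplicative (h4_skew hF ι))]
    [HasEnoughRootsOfUnity K (Monoid.exponent (Multiplicative (h4_skew hF ι)))]
    (Tz : Multiplicative (h4_skew hF ι) →* Module.End K V)
    (hA : (Fintype.card (Multiplicative (h4_skew hF ι)) : K) ≠ 0)
    {ψ : Multiplicative F →* Kˣ} (hψ : h4_Good q ψ)
    (T : Matrix ι ι F) (hT : T ∈ h4_herm hF ι) (P : GL ι F → Prop)
    (hW : ∀ C : GL ι F, P C → wt Tz (h4_chi hF ψ (C.1 * T * h4_star q C.1)) ≠ ⊥) :
    Nat.card {T' : Matrix ι ι F // ∃ C : GL ι F, P C ∧ T' = C.1 * T * (C.1.map (· ^ q))ᵀ}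
      ≤ Module.finrank K V := by
  have h := h4_mul_card_orbit_le hF Tz hA hψ T hT P 1 (by
    intro C hP
    rw [Nat.one_le_iff_ne_zero]
    intro h0
    exact hW C hP (Submodule.finrank_eq_zero.mp h0))
  rwa [one_mul] at h

/-- the subtype without a side condition (shape of `l_herm_orbit`). -/
theorem h4_mul_card_orbit_le' (hF : Fintype.card F = q ^ 2)
    [Fintype (Multiplicative (h4_skew hF ι))]
    [HasEnoughRootsOfUnity K (Monoid.exponent (Multiplicative (h4_skew hF ι)))]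
    (Tz : Multiplicative (h4_skew hF ι) →* Module.End K V)
    (hA : (Fintype.card (Multiplicative (h4_skew hF ι)) : K) ≠ 0)
    {ψ : Multiplicative F →* Kˣ} (hψ : h4_Good q ψ)
    (T : Matrix ι ι F) (hT : T ∈ h4_herm hF ι) (r : ℕ)
    (hW : ∀ C : GL ι F,
      r ≤ Module.finrank K (wt Tz (h4_chi hF ψ (C.1 * T * h4_star q C.1)))) :
    r * Nat.card {T' : Matrix ι ι F // ∃ C : GL ι F, T' = C.1 * T * (C.1.map (· ^ q))ᵀ}
      ≤ Module.finrank K V := by
  have h := h4_mul_card_orbit_le hF Tz hA hψ T hT (fun _ => True) r (fun C _ => hW C)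
  have e : Nat.card {T' : Matrix ι ι F // ∃ C : GL ι F, T' = C.1 * T * (C.1.map (· ^ q))ᵀ}
      = Nat.card {T' : Matrix ι ι F // ∃ C : GL ι F, True ∧ T' = C.1 * T * (C.1.map (· ^ q))ᵀ} := by
    refine Nat.card_congr (Equiv.subtypeEquivRight (fun T' => ?_))
    simp only [true_and]
  rw [e]
  exact h

theorem h4_card_orbit_le' (hF : Fintype.card F = q ^ 2)
    [Fintype (Multiplicative (h4_skew hF ι))]
    [HasEnoughRootsOfUnity K (Monoid.exponent (Multiplicative (h4_skew hF ι)))]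
    (Tz : Multiplicative (h4_skew hF ι) →* Module.End K V)
    (hA : (Fintype.card (Multiplicative (h4_skew hF ι)) : K) ≠ 0)
    {ψ : Multiplicative F →* Kˣ} (hψ : h4_Good q ψ)
    (T : Matrix ι ι F) (hT : T ∈ h4_herm hF ι)
    (hW : ∀ C : GL ι F, wt Tz (h4_chi hF ψ (C.1 * T * h4_star q C.1)) ≠ ⊥) :
    Nat.card {T' : Matrix ι ι F // ∃ C : GL ι F, T' = C.1 * T * (C.1.map (· ^ q))ᵀ}
      ≤ Module.finrank K V := by
  have h := h4_mul_card_orbit_le' hF Tz hA hψ T hT 1 (by
    intro C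
    rw [Nat.one_le_iff_ne_zero]
    intro h0
    exact hW C (Submodule.finrank_eq_zero.mp h0))
  rwa [one_mul] at h

/-! ### `K = ℂ`: no instance or cardinality hypotheses -/

section complex

variable {W : Type*} [AddCommGroup W] [Module ℂ W] [Module.Finite ℂ W]

theorem h4_mul_card_orbit_le_complex (hF : Fintype.card F = q ^ 2)
    [Fintype (Multiplicative (h4_skew hF ι))]
    (Tz : Multiplicative (h4_skew hF ι) →* Module.End ℂ W)
    {ψ : Multiplicative F →* ℂˣ} (hψ : h4_Good q ψ)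
    (T : Matrix ι ι F) (hT : T ∈ h4_herm hF ι) (P : GL ι F → Prop) (r : ℕ)
    (hW : ∀ C : GL ι F, P C →
      r ≤ Module.finrank ℂ (wt Tz (h4_chi hF ψ (C.1 * T * h4_star q C.1)))) :
    r * Nat.card {T' : Matrix ι ι F // ∃ C : GL ι F, P C ∧ T' = C.1 * T * (C.1.map (· ^ q))ᵀ}
      ≤ Module.finrank ℂ W := by
  have := h4_hasEnough_complex (Multiplicative (h4_skew hF ι))
  exact h4_mul_card_orbit_le hF Tz (h4_card_ne_zero_complex _) hψ T hT P r hW

theorem h4_card_orbit_le_complex (hF : Fintype.card F = q ^ 2)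
    [Fintype (Multiplicative (h4_skew hF ι))]
    (Tz : Multiplicative (h4_skew hF ι) →* Module.End ℂ W)
    {ψ : Multiplicative F →* ℂˣ} (hψ : h4_Good q ψ)
    (T : Matrix ι ι F) (hT : T ∈ h4_herm hF ι) (P : GL ι F → Prop)
    (hW : ∀ C : GL ι F, P C → wt Tz (h4_chi hF ψ (C.1 * T * h4_star q C.1)) ≠ ⊥) :
    Nat.card {T' : Matrix ι ι F // ∃ C : GL ι F, P C ∧ T' = C.1 * T * (C.1.map (· ^ q))ᵀ}
      ≤ Module.finrank ℂ W := by
  have := h4_hasEnough_complex (Multiplicative (h4_skew hF ι))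
  exact h4_card_orbit_le hF Tz (h4_card_ne_zero_complex _) hψ T hT P hW

theorem h4_mul_card_orbit_le_complex' (hF : Fintype.card F = q ^ 2)
    [Fintype (Multiplicative (h4_skew hF ι))]
    (Tz : Multiplicative (h4_skew hF ι) →* Module.End ℂ W)
    {ψ : Multiplicative F →* ℂˣ} (hψ : h4_Good q ψ)
    (T : Matrix ι ι F) (hT : T ∈ h4_herm hF ι) (r : ℕ)
    (hW : ∀ C : GL ι F,
      r ≤ Module.finrank ℂ (wt Tz (h4_chi hF ψ (C.1 * T * h4_star q C.1)))) :
    r * Nat.card {T' : Matrix ι ι F // ∃ C : GL ι F, T' = C.1 * T * (C.1.map (· ^ q))ᵀ}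
      ≤ Module.finrank ℂ W := by
  have := h4_hasEnough_complex (Multiplicative (h4_skew hF ι))
  exact h4_mul_card_orbit_le' hF Tz (h4_card_ne_zero_complex _) hψ T hT r hW

theorem h4_card_orbit_le_complex' (hF : Fintype.card F = q ^ 2)
    [Fintype (Multiplicative (h4_skew hF ι))]
    (Tz : Multiplicative (h4_skew hF ι) →* Module.End ℂ W)
    {ψ : Multiplicative F →* ℂˣ} (hψ : h4_Good q ψ)
    (T : Matrix ι ι F) (hT : T ∈ h4_herm hF ι)
    (hW : ∀ C : GL ι F, wt Tz (h4_chi hF ψ (C.1 * T * h4_star q C.1)) ≠ ⊥) :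
    Nat.card {T' : Matrix ι ι F // ∃ C : GL ι F, T' = C.1 * T * (C.1.map (· ^ q))ᵀ}
      ≤ Module.finrank ℂ W := by
  have := h4_hasEnough_complex (Multiplicative (h4_skew hF ι))
  exact h4_card_orbit_le' hF Tz (h4_card_ne_zero_complex _) hψ T hT hW

end complex

end Cfsg.Agent.LS3
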