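import Mathlib
import Cfsg.Agent.Helper8.LSA
import Cfsg.Agent.LS3.H4_NT
import Cfsg.Agent.LS3.H4_HermChar
import Cfsg.Agent.LS3.H4_HermBridge

set_option autoImplicit false
set_option linter.unusedSectionVars false

/-!
# LS3 swarm (helper4): the abstract Landazuri–Seitz assembly for the unitary groups

`G` a group with `G ⧸ Z(G)` simple, `u : (skew-Hermitian m × m, +) → G` a homomorphism with a
non-central value, and for every `C ∈ GL_m` with `P C` an element `g` of `G` with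
`u(S) g = g u(C* S C)`.  If every non-zero Hermitian `T` has `M ≤ (q+1) · #{C T C* : P C}` and every
weight space of `u` on a non-zero Hermitian character has dimension `≥ r`, then every irreducible
complex representation of `G` of degree `k ≥ 2` satisfies `r * M ≤ (q + 1) * k`.
-/

namespace Cfsg.Agent.LS3

open Matrix Cfsg.Agent.Helper7.Herm Cfsg.Agent.Helper8.LS

variable {F : Type*} [Field F] [Fintype F] {q : ℕ}

/-- `C* S C` is skew-Hermitian if `S` is. -/
theorem h4_conj_mem_skew' (hF : Fintype.card F = q ^ 2) {ι κ : Type*} [Fintype ι]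
    (C : Matrix ι κ F) {S : Matrix ι ι F} (hS : S ∈ h4_skew hF ι) :
    h4_star q C * S * C ∈ h4_skew hF κ := by
  have := h4_conj_mem_skew hF (h4_star q C) hS
  rwa [h4_star_star hF] at this

/-- `χ_{C T C*} (S) = χ_T (C* S C)`. -/
theorem h4_chi_conj' {K : Type*} [Field K] {ι : Type*} [Fintype ι] [DecidableEq ι]
    (hF : Fintype.card F = q ^ 2) (ψ : Multiplicative F →* Kˣ)
    (T C : Matrix ι ι F) (S : h4_skew hF ι) :
    h4_chi hF ψ (C * T * h4_star q C) (Multiplicative.ofAdd S)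
      = h4_chi hF ψ T (Multiplicative.ofAdd
        (⟨h4_star q C * S.1 * C, h4_conj_mem_skew' hF C S.2⟩ : h4_skew hF ι)) := by
  rw [h4_chi_apply, h4_chi_apply]
  congr 2
  show Matrix.trace (C * T * h4_star q C * S.1) = Matrix.trace (T * (h4_star q C * S.1 * C))
  calc Matrix.trace (C * T * h4_star q C * S.1)
      = Matrix.trace (C * (T * h4_star q C * S.1)) := by simp only [Matrix.mul_assoc]
    _ = Matrix.trace (T * h4_star q C * S.1 * C) := Matrix.trace_mul_comm _ _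
    _ = Matrix.trace (T * (h4_star q C * S.1 * C)) := by simp only [Matrix.mul_assoc]

/-- `C T C* ≠ 0` for invertible `C` and `T ≠ 0`. -/
theorem h4_conj_ne_zero (hF : Fintype.card F = q ^ 2) {ι : Type*} [Fintype ι] [DecidableEq ι]
    (C : GL ι F) {T : Matrix ι ι F} (hT0 : T ≠ 0) : C.1 * T * h4_star q C.1 ≠ 0 := by
  intro h
  apply hT0
  have h1 : (C⁻¹ : GL ι F).1 * C.1 = 1 := Units.inv_mul C
  have h2 : h4_star q C.1 * h4_star q (C⁻¹ : GL ι F).1 = 1 := by
    rw [← h4_star_mul hF, h1, h4_star_one hF]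
  calc T = ((C⁻¹ : GL ι F).1 * C.1) * T * (h4_star q C.1 * h4_star q (C⁻¹ : GL ι F).1) := by
        rw [h1, h2, Matrix.one_mul, Matrix.mul_one]
    _ = (C⁻¹ : GL ι F).1 * (C.1 * T * h4_star q C.1) * h4_star q (C⁻¹ : GL ι F).1 := by
        simp only [Matrix.mul_assoc]
    _ = 0 := by rw [h, Matrix.mul_zero, Matrix.zero_mul]

/-- **the abstract assembly** (`r` = lower bound for the dimension of the weight spaces). -/
theorem h4_su_asm (hF : Fintype.card F = q ^ 2) {m : ℕ}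
    [Fintype (Multiplicative (h4_skew hF (Fin m)))]
    {G : Type*} [Group G] (hs : IsSimpleGroup (G ⧸ Subgroup.center G))
    (u : Multiplicative (h4_skew hF (Fin m)) →* G)
    (S0 : h4_skew hF (Fin m)) (hS0 : u (Multiplicative.ofAdd S0) ∉ Subgroup.center G)
    (P : GL (Fin m) F → Prop)
    (hd : ∀ C : GL (Fin m) F, P C → ∃ g : G, ∀ S : h4_skew hF (Fin m),
      u (Multiplicative.ofAdd S) * g = g * u (Multiplicative.ofAdd
        (⟨h4_star q C.1 * S.1 * C.1, h4_conj_mem_skew' hF C.1 S.2⟩ : h4_skew hF (Fin m))))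
    (M : ℕ)
    (hM : ∀ T : Matrix (Fin m) (Fin m) F, (T.map (· ^ q))ᵀ = T → T ≠ 0 →
      M ≤ (q + 1) * Nat.card {T' : Matrix (Fin m) (Fin m) F //
        ∃ C : GL (Fin m) F, P C ∧ T' = C.1 * T * (C.1.map (· ^ q))ᵀ})
    {k : ℕ} (ρ : Representation ℂ G (Fin k → ℂ)) (hirr : ρ.IsIrreducible) (hk : 2 ≤ k)
    (r : ℕ)
    (hr : ∀ (ψ : Multiplicative F →* ℂˣ), h4_Good q ψ → ∀ T : Matrix (Fin m) (Fin m) F,
      T ∈ h4_herm hF (Fin m) → T ≠ 0 →
      wt ((ρ : G →* Module.End ℂ (Fin k → ℂ)).comp u) (h4_chi hF ψ T) ≠ ⊥ →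
      r ≤ Module.finrank ℂ (wt ((ρ : G →* Module.End ℂ (Fin k → ℂ)).comp u) (h4_chi hF ψ T))) :
    r * M ≤ (q + 1) * k := by
  classical
  set Tz : Multiplicative (h4_skew hF (Fin m)) →* Module.End ℂ (Fin k → ℂ) :=
    (ρ : G →* Module.End ℂ (Fin k → ℂ)).comp u with hTz
  have hEn := h4_hasEnough_complex (Multiplicative (h4_skew hF (Fin m)))
  have hA : (Fintype.card (Multiplicative (h4_skew hF (Fin m))) : ℂ) ≠ 0 :=
    h4_card_ne_zero_complex _
  -- a non-trivial weight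
  have hz : Tz (Multiplicative.ofAdd S0) ≠ 1 := h4_nt hs ρ hirr hk hS0
  obtain ⟨ψ, hψ⟩ := h4_exists_good_complex (F := F) hF
  obtain ⟨χ, hχne, hχ1⟩ := exists_wt_ne_bot Tz hA _ hz
  obtain ⟨T, hT, hT0, rfl⟩ := h4_chi_surj_ne_zero hF hψ χ hχ1
  -- the orbit consists of weights
  have hall : ∀ C : GL (Fin m) F, P C →
      wt Tz (h4_chi hF ψ (C.1 * T * h4_star q C.1)) ≠ ⊥ := by
    intro C hC
    obtain ⟨g, hg⟩ := hd C hC
    have hginj : Function.Injective (ρ g) := by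
      intro v w hvw
      have h1 : ρ g⁻¹ (ρ g v) = ρ g⁻¹ (ρ g w) := by rw [hvw]
      have h2 : ∀ x, ρ g⁻¹ (ρ g x) = x := by
        intro x
        rw [← Module.End.mul_apply, ← map_mul, inv_mul_cancel, map_one, Module.End.one_apply]
      rwa [h2, h2] at h1
    refine wt_ne_bot_of_conj' Tz (ρ g) hginj _ (h4_chi hF ψ T) ?_ hχne
    intro a'
    refine ⟨Multiplicative.ofAdd (⟨h4_star q C.1 * (Multiplicative.toAdd a').1 * C.1,
      h4_conj_mem_skew' hF C.1 (Multiplicative.toAdd a').2⟩ : h4_skew hF (Fin m)), ?_, ?_⟩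
    · show ρ g * ρ (u _) = ρ (u a') * ρ g
      rw [← map_mul, ← map_mul]
      congr 1
      exact (hg (Multiplicative.toAdd a')).symm
    · exact (h4_chi_conj' hF ψ T C.1 (Multiplicative.toAdd a')).symm
  -- each of them has dimension at least `r`
  have hdim : ∀ C : GL (Fin m) F, P C →
      r ≤ Module.finrank ℂ (wt Tz (h4_chi hF ψ (C.1 * T * h4_star q C.1))) := by
    intro C hC
    exact hr ψ hψ _ (h4_conj_mem_herm hF C.1 hT) (h4_conj_ne_zero hF C hT0) (hall C hC)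
  have h1 := h4_mul_card_orbit_le_complex hF Tz hψ T hT P r hdim
  have h2 : Module.finrank ℂ (Fin k → ℂ) = k := by simp
  rw [h2] at h1
  have h3 := hM T hT hT0
  calc r * M ≤ r * ((q + 1) * Nat.card {T' : Matrix (Fin m) (Fin m) F //
        ∃ C : GL (Fin m) F, P C ∧ T' = C.1 * T * (C.1.map (· ^ q))ᵀ}) :=
        Nat.mul_le_mul_left r h3
    _ = (q + 1) * (r * Nat.card {T' : Matrix (Fin m) (Fin m) F //
        ∃ C : GL (Fin m) F, P C ∧ T' = C.1 * T * (C.1.map (· ^ q))ᵀ}) := by ring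
    _ ≤ (q + 1) * k := Nat.mul_le_mul_left _ h1

/-- the case `r = 1` (no information on the weight spaces needed). -/
theorem h4_su_asm_one (hF : Fintype.card F = q ^ 2) {m : ℕ}
    [Fintype (Multiplicative (h4_skew hF (Fin m)))]
    {G : Type*} [Group G] (hs : IsSimpleGroup (G ⧸ Subgroup.center G))
    (u : Multiplicative (h4_skew hF (Fin m)) →* G)
    (S0 : h4_skew hF (Fin m)) (hS0 : u (Multiplicative.ofAdd S0) ∉ Subgroup.center G)
    (P : GL (Fin m) F → Prop)
    (hd : ∀ C : GL (Fin m) F, P C → ∃ g : G, ∀ S : h4_skew hF (Fin m),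
      u (Multiplicative.ofAdd S) * g = g * u (Multiplicative.ofAdd
        (⟨h4_star q C.1 * S.1 * C.1, h4_conj_mem_skew' hF C.1 S.2⟩ : h4_skew hF (Fin m))))
    (M : ℕ)
    (hM : ∀ T : Matrix (Fin m) (Fin m) F, (T.map (· ^ q))ᵀ = T → T ≠ 0 →
      M ≤ (q + 1) * Nat.card {T' : Matrix (Fin m) (Fin m) F //
        ∃ C : GL (Fin m) F, P C ∧ T' = C.1 * T * (C.1.map (· ^ q))ᵀ})
    {k : ℕ} (ρ : Representation ℂ G (Fin k → ℂ)) (hirr : ρ.IsIrreducible) (hk : 2 ≤ k) :
    M ≤ (q + 1) * k := by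
  have h := h4_su_asm hF hs u S0 hS0 P hd M hM ρ hirr hk 1 (by
    intro ψ _ T _ _ hne
    rw [Nat.one_le_iff_ne_zero]
    intro h0
    exact hne (Submodule.finrank_eq_zero.mp h0))
  rwa [one_mul] at h

/-- final arithmetic, even dimension `n = m + m`. -/
theorem h4_su_even_final {q m k : ℕ} (h : q ^ (2 * m) - 1 ≤ (q + 1) * k) :
    (q ^ (m + m) - 1) / (q + 1) ≤ k := by
  apply Nat.div_le_of_le_mul
  rw [← two_mul]
  exact h

/-- final arithmetic, odd dimension `n = m + m + 1`. -/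
theorem h4_su_odd_final {q m k : ℕ} (h : q * (q ^ (2 * m) - 1) ≤ (q + 1) * k) :
    (q ^ (m + m + 1) - q) / (q + 1) ≤ k := by
  apply Nat.div_le_of_le_mul
  have e : q ^ (m + m + 1) - q = q * (q ^ (2 * m) - 1) := by
    rw [Nat.mul_sub, mul_one, ← two_mul, pow_succ, mul_comm]
  rw [e]
  exact h

end Cfsg.Agent.LS3
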