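import Mathlib

set_option autoImplicit false

/-!
LS3 (S2333), auxiliary counting facts for the stabiliser count (INJ):
the product `|GL_{m+2}(q)|` splits off `(q^{m+2}-1)(q^{m+2}-q) q^{2m} |GL_m(q)|`, and the
orthogonal complement (with respect to the polar form) of a pair with `polar Q x y = 1` has
codimension 2.
-/

namespace Cfsg.Agent.LS3

open QuadraticMap

/-- `∏_{i<m+2} (q^{m+2} - q^i) = (q^{m+2}-1)(q^{m+2}-q) · q^{2m} · ∏_{i<m} (q^m - q^i)`. -/
theorem h5_GL_split (q m : ℕ) :
    ∏ i : Fin (m + 2), (q ^ (m + 2) - q ^ (i : ℕ))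
      = (q ^ (m + 2) - 1) * (q ^ (m + 2) - q)
        * (q ^ (2 * m) * ∏ i : Fin m, (q ^ m - q ^ (i : ℕ))) := by
  rw [Fin.prod_univ_succ, Fin.prod_univ_succ]
  have h1 : ∀ i : Fin m, q ^ (m + 2) - q ^ (((i.succ).succ : Fin (m + 2)) : ℕ)
      = q ^ 2 * (q ^ m - q ^ (i : ℕ)) := by
    intro i
    rw [Fin.val_succ, Fin.val_succ, Nat.mul_sub, ← pow_add, ← pow_add]
    congr 1
    · ring_nf
    · ring_nf
  rw [Finset.prod_congr rfl (fun i _ => h1 i), Finset.prod_mul_distrib, Finset.prod_const,
    Finset.card_univ, Fintype.card_fin, ← pow_mul]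
  simp only [Fin.val_zero, pow_zero, Fin.val_succ, zero_add, pow_one]
  ring

/-- the cardinality of `GL_{m+2}(F)` in split form. -/
theorem h5_card_GL_split {F : Type*} [Field F] [Fintype F] (m : ℕ) :
    Nat.card (Matrix.GeneralLinearGroup (Fin (m + 2)) F)
      = (Fintype.card F ^ (m + 2) - 1) * (Fintype.card F ^ (m + 2) - Fintype.card F)
        * (Fintype.card F ^ (2 * m) * ∏ i : Fin m, (Fintype.card F ^ m - Fintype.card F ^ (i : ℕ))) := by
  rw [Matrix.card_GL_field, h5_GL_split]

section perp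

variable {F : Type*} [Field F] {V : Type*} [AddCommGroup V] [Module F V]

/-- the linear map `z ↦ (polar Q z x, polar Q z y)`. -/
def h5_pairMap (Q : QuadraticForm F V) (x y : V) : V →ₗ[F] F × F :=
  ((polarBilin Q).flip x).prod ((polarBilin Q).flip y)

theorem h5_pairMap_apply (Q : QuadraticForm F V) (x y z : V) :
    h5_pairMap Q x y z = (polar Q z x, polar Q z y) := rfl

/-- the orthogonal complement of the pair `(x, y)` with respect to the polar form. -/
def h5_perp (Q : QuadraticForm F V) (x y : V) : Submodule F V := LinearMap.ker (h5_pairMap Q x y)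

theorem h5_mem_perp (Q : QuadraticForm F V) (x y z : V) :
    z ∈ h5_perp Q x y ↔ polar Q z x = 0 ∧ polar Q z y = 0 := by
  rw [h5_perp, LinearMap.mem_ker, h5_pairMap_apply, Prod.mk_eq_zero]

theorem h5_pairMap_surjective (h2 : (2 : F) = 0) (Q : QuadraticForm F V) (x y : V)
    (hxy : polar Q x y = 1) : Function.Surjective (h5_pairMap Q x y) := by
  have h2n : ∀ a : F, (2 : ℕ) • a = 0 := by
    intro a
    rw [two_nsmul, ← two_mul, h2, zero_mul]
  rintro ⟨a, b⟩
  refine ⟨a • y + b • x, ?_⟩
  rw [h5_pairMap_apply, polar_add_left, polar_add_left, polar_smul_left, polar_smul_left,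
    polar_smul_left, polar_smul_left, polar_self, polar_self, h2n, h2n, polar_comm Q y x, hxy]
  simp

/-- `dim ⟨x, y⟩^⊥ + 2 = dim V` when `polar Q x y = 1` (characteristic 2). -/
theorem h5_finrank_perp [Module.Finite F V] (h2 : (2 : F) = 0) (Q : QuadraticForm F V) (x y : V)
    (hxy : polar Q x y = 1) :
    Module.finrank F (h5_perp Q x y) + 2 = Module.finrank F V := by
  have h := LinearMap.finrank_range_add_finrank_ker (h5_pairMap Q x y)
  rw [LinearMap.range_eq_top.mpr (h5_pairMap_surjective h2 Q x y hxy), finrank_top,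
    Module.finrank_prod, Module.finrank_self] at h
  rw [h5_perp]
  omega

/-- the pair `(x, y)` spans a complement of `⟨x, y⟩^⊥`: `z - polar(z,y) x - polar(z,x) y ∈ ⟨x,y⟩^⊥`. -/
theorem h5_proj_mem_perp (h2 : (2 : F) = 0) (Q : QuadraticForm F V) (x y : V)
    (hxy : polar Q x y = 1) (z : V) :
    z - polar Q z y • x - polar Q z x • y ∈ h5_perp Q x y := by
  have h2n : ∀ a : F, (2 : ℕ) • a = 0 := by
    intro a
    rw [two_nsmul, ← two_mul, h2, zero_mul]
  rw [h5_mem_perp]
  constructor
  · rw [polar_comm, polar_sub_right, polar_sub_right, polar_smul_right, polar_smul_right,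
      polar_self, h2n, hxy, polar_comm Q x z]
    simp
  · rw [polar_comm, polar_sub_right, polar_sub_right, polar_smul_right, polar_smul_right,
      polar_self, h2n, polar_comm Q y x, hxy, polar_comm Q y z]
    simp

end perp

end Cfsg.Agent.LS3
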