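import Mathlib

set_option autoImplicit false

/-!
LS3 (S2333), binary quadratic forms in characteristic 2: the fibres of an anisotropic binary form
`a x² + x y + b y²` over a finite field with `q` elements have `q + 1` points, and its isometry
group has at most `2 (q + 1)` elements.
-/

namespace Cfsg.Agent.LS3

variable {F : Type*} [Field F]

/-- the binary form `a x² + x y + b y²`. -/
def h5_nf (a b x y : F) : F := a * x ^ 2 + x * y + b * y ^ 2

theorem h5_sq_inj (h2 : (2 : F) = 0) {x y : F} (h : x ^ 2 = y ^ 2) : x = y := by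
  have h1 : (x - y) ^ 2 = 0 := by linear_combination h + (y ^ 2 - x * y) * h2
  exact sub_eq_zero.mp ((pow_eq_zero_iff (by norm_num)).mp h1)

theorem h5_sq_surj [Finite F] (h2 : (2 : F) = 0) (t : F) : ∃ s : F, s ^ 2 = t :=
  (Finite.injective_iff_surjective.mp (fun x y (h : x ^ 2 = y ^ 2) => h5_sq_inj h2 h)) t

theorem h5_nf_smul (a b s x y : F) : h5_nf a b (s * x) (s * y) = s ^ 2 * h5_nf a b x y := by
  unfold h5_nf; ring

/-- polar identity in characteristic 2. -/
theorem h5_nf_add (h2 : (2 : F) = 0) (a b x y x' y' : F) :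
    h5_nf a b (x + x') (y + y') = h5_nf a b x y + h5_nf a b x' y' + (x * y' + x' * y) := by
  unfold h5_nf
  linear_combination (a * x * x' + b * y * y') * h2

theorem h5_nat_aux (q c : ℕ) (hq : 2 ≤ q) (h : q * q - 1 = (q - 1) * c) : c = q + 1 := by
  obtain ⟨r, rfl⟩ : ∃ r, q = r + 2 := ⟨q - 2, by omega⟩
  have h1 : r + 2 - 1 = r + 1 := by omega
  have h3 : (r + 2) * (r + 2) - 1 = (r + 1) * (r + 2 + 1) := by
    have : (r + 2) * (r + 2) = (r + 1) * (r + 2 + 1) + 1 := by ring
    omega
  rw [h1, h3] at h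
  exact (Nat.eq_of_mul_eq_mul_left (by omega) h).symm

variable [Fintype F] [DecidableEq F]

/-- all non-zero fibres of an anisotropic binary form have `q + 1` points. -/
theorem h5_fibre_card (h2 : (2 : F) = 0) (a b : F)
    (han : ∀ x y : F, h5_nf a b x y = 0 → x = 0 ∧ y = 0) (t : F) (ht : t ≠ 0) :
    (Finset.univ.filter fun w : F × F => h5_nf a b w.1 w.2 = t).card = Fintype.card F + 1 := by
  classical
  -- all non-zero fibres have the same size
  have heq : ∀ t' : F, t' ≠ 0 →
      (Finset.univ.filter fun w : F × F => h5_nf a b w.1 w.2 = t').card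
        = (Finset.univ.filter fun w : F × F => h5_nf a b w.1 w.2 = t).card := by
    intro t' ht'
    obtain ⟨s, hs⟩ := h5_sq_surj h2 (t / t')
    have hs0 : s ≠ 0 := by
      intro h0
      rw [h0] at hs
      have : t / t' = 0 := by rw [← hs]; ring
      rcases div_eq_zero_iff.mp this with h | h
      · exact ht h
      · exact ht' h
    refine Finset.card_nbij' (fun w => (s * w.1, s * w.2)) (fun w => (s⁻¹ * w.1, s⁻¹ * w.2))
      ?_ ?_ ?_ ?_
    · intro w hw
      simp only [Finset.coe_filter, Finset.mem_univ, true_and, Set.mem_ofPred_eq] at hw ⊢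
      rw [h5_nf_smul, hw, hs]
      field_simp
    · intro w hw
      simp only [Finset.coe_filter, Finset.mem_univ, true_and, Set.mem_ofPred_eq] at hw ⊢
      rw [h5_nf_smul, hw, inv_pow, hs]
      field_simp
    · intro w _
      simp only
      ext
      · simp [hs0]
      · simp [hs0]
    · intro w _
      simp only
      ext
      · simp [hs0]
      · simp [hs0]
  -- count the non-zero vectors fibrewise
  have hfib := Finset.card_eq_sum_card_fiberwise
    (s := (Finset.univ.filter fun w : F × F => w ≠ 0))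
    (t := (Finset.univ.filter fun t' : F => t' ≠ 0))
    (f := fun w : F × F => h5_nf a b w.1 w.2)
    (by
      intro w hw
      simp only [Finset.coe_filter, Finset.mem_univ, true_and, Set.mem_ofPred_eq] at hw ⊢
      intro h0
      obtain ⟨h1, h2'⟩ := han _ _ h0
      exact hw (Prod.ext h1 h2'))
  have hX : (Finset.univ.filter fun w : F × F => w ≠ 0).card
      = Fintype.card F * Fintype.card F - 1 := by
    rw [Finset.filter_ne' Finset.univ (0 : F × F), Finset.card_erase_of_mem (Finset.mem_univ _),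
      Finset.card_univ, Fintype.card_prod]
  have hY : (Finset.univ.filter fun t' : F => t' ≠ 0).card = Fintype.card F - 1 := by
    rw [Finset.filter_ne' Finset.univ (0 : F), Finset.card_erase_of_mem (Finset.mem_univ _),
      Finset.card_univ]
  have hterm : ∀ t' ∈ (Finset.univ.filter fun t' : F => t' ≠ 0),
      ((Finset.univ.filter fun w : F × F => w ≠ 0).filter
        fun w => h5_nf a b w.1 w.2 = t').card
      = (Finset.univ.filter fun w : F × F => h5_nf a b w.1 w.2 = t).card := by
    intro t' ht'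
    simp only [Finset.mem_filter, Finset.mem_univ, true_and] at ht'
    rw [← heq t' ht']
    congr 1
    ext w
    simp only [Finset.mem_filter, Finset.mem_univ, true_and]
    constructor
    · exact fun h => h.2
    · intro h
      refine ⟨?_, h⟩
      intro hw0
      rw [hw0] at h
      apply ht'
      rw [← h]
      simp [h5_nf]
  rw [Finset.sum_congr rfl hterm, Finset.sum_const, smul_eq_mul, hX, hY] at hfib
  have hq : 2 ≤ Fintype.card F := Fintype.one_lt_card
  exact h5_nat_aux _ _ hq hfib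

omit [Fintype F] [DecidableEq F] in
/-- in characteristic 2, `-x = x`. -/
theorem h5_neg_eq (h2 : (2 : F) = 0) (x : F) : -x = x := by
  linear_combination (-x) * h2

omit [Fintype F] [DecidableEq F] in
/-- a vector `w` with `u₀ w₁ + w₀ u₁ = 0` is a multiple of `u ≠ 0` (characteristic 2). -/
theorem h5_prop (h2 : (2 : F) = 0) (u0 u1 w0 w1 : F) (hu : ¬ (u0 = 0 ∧ u1 = 0))
    (h : u0 * w1 + w0 * u1 = 0) : ∃ t : F, w0 = t * u0 ∧ w1 = t * u1 := by
  by_cases h0 : u0 = 0
  · have h1 : u1 ≠ 0 := fun h1 => hu ⟨h0, h1⟩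
    refine ⟨w1 / u1, ?_, by field_simp⟩
    rw [h0, zero_mul, zero_add] at h
    rcases mul_eq_zero.mp h with h3 | h3
    · rw [h3, h0, mul_zero]
    · exact absurd h3 h1
  · refine ⟨w0 / u0, by field_simp, ?_⟩
    have h3 : u0 * w1 = w0 * u1 := by
      have := h5_neg_eq h2 (w0 * u1)
      linear_combination h + this
    field_simp
    linear_combination h3

/-- **the isometry group of an anisotropic binary form has at most `2 (q + 1)` elements.** -/
theorem h5_aniso_fibre (h2 : (2 : F) = 0) (a b : F)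
    (han : ∀ x y : F, h5_nf a b x y = 0 → x = 0 ∧ y = 0) :
    (Finset.univ.filter fun g : Matrix (Fin 2) (Fin 2) F =>
      ∀ x y : F, h5_nf a b (g 0 0 * x + g 0 1 * y) (g 1 0 * x + g 1 1 * y)
        = h5_nf a b x y).card ≤ 2 * (Fintype.card F + 1) := by
  classical
  set G := (Finset.univ.filter fun g : Matrix (Fin 2) (Fin 2) F =>
      ∀ x y : F, h5_nf a b (g 0 0 * x + g 0 1 * y) (g 1 0 * x + g 1 1 * y)
        = h5_nf a b x y) with hG
  have ha : a ≠ 0 := by
    intro h0
    have := (han 1 0 (by simp [h5_nf, h0])).1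
    exact one_ne_zero this
  -- facts about a member
  have hmem : ∀ g ∈ G, h5_nf a b (g 0 0) (g 1 0) = a ∧ h5_nf a b (g 0 1) (g 1 1) = b ∧
      g 0 0 * g 1 1 + g 0 1 * g 1 0 = 1 := by
    intro g hg
    rw [hG, Finset.mem_filter] at hg
    have h10 := hg.2 1 0
    have h01 := hg.2 0 1
    have h11 := hg.2 1 1
    simp only [mul_one, mul_zero, add_zero, zero_add] at h10 h01 h11
    refine ⟨by rw [h10]; simp [h5_nf], by rw [h01]; simp [h5_nf], ?_⟩
    rw [h5_nf_add h2, h10, h01] at h11
    simp only [h5_nf] at h11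
    linear_combination h11
  have hcard := Finset.card_le_mul_card_image (f := fun g : Matrix (Fin 2) (Fin 2) F =>
    ((g 0 0, g 1 0) : F × F)) G 2 (by
    intro u hu
    rw [Finset.mem_image] at hu
    obtain ⟨g0, hg0, hg0u⟩ := hu
    obtain ⟨h0a, h0b, h0p⟩ := hmem g0 hg0
    -- the second candidate
    set g1 : Matrix (Fin 2) (Fin 2) F :=
      !![g0 0 0, g0 0 1 + a⁻¹ * g0 0 0; g0 1 0, g0 1 1 + a⁻¹ * g0 1 0] with hg1
    refine le_trans (Finset.card_le_card (t := {g0, g1}) ?_) Finset.card_le_two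
    intro g hg
    rw [Finset.mem_filter] at hg
    obtain ⟨hgG, hgu⟩ := hg
    obtain ⟨hga, hgb, hgp⟩ := hmem g hgG
    have e00 : g 0 0 = g0 0 0 := by
      have := congrArg Prod.fst (hgu.trans hg0u.symm); exact this
    have e10 : g 1 0 = g0 1 0 := by
      have := congrArg Prod.snd (hgu.trans hg0u.symm); exact this
    have hu0 : ¬ (g0 0 0 = 0 ∧ g0 1 0 = 0) := by
      rintro ⟨h1, h2'⟩
      rw [h1, h2'] at h0a
      apply ha
      rw [← h0a]; simp [h5_nf]
    obtain ⟨t, ht0, ht1⟩ := h5_prop h2 (g0 0 0) (g0 1 0) (g 0 1 - g0 0 1) (g 1 1 - g0 1 1) hu0 (by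
      rw [e00, e10] at hgp
      linear_combination hgp - h0p)
    have hv0 : g 0 1 = g0 0 1 + t * g0 0 0 := by linear_combination ht0
    have hv1 : g 1 1 = g0 1 1 + t * g0 1 0 := by linear_combination ht1
    -- the quadratic equation for `t`
    have hquad : t * (a * t + 1) = 0 := by
      have h3 := hgb
      rw [hv0, hv1, h5_nf_add h2, h0b, h5_nf_smul, h0a] at h3
      linear_combination h3 - t * h0p
    rw [Finset.mem_insert, Finset.mem_singleton]
    rcases mul_eq_zero.mp hquad with h5 | h5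
    · left
      ext i j
      fin_cases i <;> fin_cases j
      · exact e00
      · show g 0 1 = g0 0 1
        rw [hv0, h5, zero_mul, add_zero]
      · exact e10
      · show g 1 1 = g0 1 1
        rw [hv1, h5, zero_mul, add_zero]
    · right
      have ht : t = a⁻¹ := by
        have h6 : a * t = 1 := by
          have := h5_neg_eq h2 (1 : F)
          linear_combination h5 + this
        field_simp
        linear_combination h6
      ext i j
      fin_cases i <;> fin_cases j
      · exact e00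
      · show g 0 1 = g0 0 1 + a⁻¹ * g0 0 0
        rw [hv0, ht]
      · exact e10
      · show g 1 1 = g0 1 1 + a⁻¹ * g0 1 0
        rw [hv1, ht])
  refine le_trans hcard (Nat.mul_le_mul_left 2 ?_)
  rw [← h5_fibre_card h2 a b han a ha]
  apply Finset.card_le_card
  intro u hu
  rw [Finset.mem_image] at hu
  obtain ⟨g, hg, rfl⟩ := hu
  rw [Finset.mem_filter]
  exact ⟨Finset.mem_univ _, (hmem g hg).1⟩

/-- **(P-A)** pair form: the pairs `(u, v)` with `N u = a`, `N v = b`, `B(u, v) = 1` for an
anisotropic binary form `N = a x² + x y + b y²`. -/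
theorem h5_aniso_pairs (h2 : (2 : F) = 0) (a b : F)
    (han : ∀ x y : F, a * x ^ 2 + x * y + b * y ^ 2 = 0 → x = 0 ∧ y = 0) :
    (Finset.univ.filter fun p : (F × F) × (F × F) =>
      a * p.1.1 ^ 2 + p.1.1 * p.1.2 + b * p.1.2 ^ 2 = a ∧
      a * p.2.1 ^ 2 + p.2.1 * p.2.2 + b * p.2.2 ^ 2 = b ∧
      p.1.1 * p.2.2 + p.1.2 * p.2.1 = 1).card ≤ 2 * (Fintype.card F + 1) := by
  classical
  have han' : ∀ x y : F, h5_nf a b x y = 0 → x = 0 ∧ y = 0 := han
  set G := (Finset.univ.filter fun p : (F × F) × (F × F) =>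
      a * p.1.1 ^ 2 + p.1.1 * p.1.2 + b * p.1.2 ^ 2 = a ∧
      a * p.2.1 ^ 2 + p.2.1 * p.2.2 + b * p.2.2 ^ 2 = b ∧
      p.1.1 * p.2.2 + p.1.2 * p.2.1 = 1) with hG
  have ha : a ≠ 0 := by
    intro h0
    have := (han 1 0 (by simp [h0])).1
    exact one_ne_zero this
  have hmem : ∀ p ∈ G, h5_nf a b p.1.1 p.1.2 = a ∧ h5_nf a b p.2.1 p.2.2 = b ∧
      p.1.1 * p.2.2 + p.1.2 * p.2.1 = 1 := by
    intro p hp
    rw [hG, Finset.mem_filter] at hp
    exact hp.2
  have hcard := Finset.card_le_mul_card_image (f := fun p : (F × F) × (F × F) => p.1) G 2 (by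
    intro u hu
    rw [Finset.mem_image] at hu
    obtain ⟨p0, hp0, hp0u⟩ := hu
    obtain ⟨h0a, h0b, h0p⟩ := hmem p0 hp0
    refine le_trans (Finset.card_le_card
      (t := {p0, (p0.1, (p0.2.1 + a⁻¹ * p0.1.1, p0.2.2 + a⁻¹ * p0.1.2))}) ?_) Finset.card_le_two
    intro p hp
    rw [Finset.mem_filter] at hp
    obtain ⟨hpG, hpu⟩ := hp
    obtain ⟨hpa, hpb, hpp⟩ := hmem p hpG
    have e1 : p.1 = p0.1 := hpu.trans hp0u.symm
    have hu0 : ¬ (p0.1.1 = 0 ∧ p0.1.2 = 0) := by
      rintro ⟨h1, h2'⟩
      rw [h1, h2'] at h0a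
      apply ha
      rw [← h0a]; simp [h5_nf]
    obtain ⟨t, ht0, ht1⟩ := h5_prop h2 p0.1.1 p0.1.2 (p.2.1 - p0.2.1) (p.2.2 - p0.2.2) hu0 (by
      rw [e1] at hpp
      linear_combination hpp - h0p)
    have hv0 : p.2.1 = p0.2.1 + t * p0.1.1 := by linear_combination ht0
    have hv1 : p.2.2 = p0.2.2 + t * p0.1.2 := by linear_combination ht1
    have hquad : t * (a * t + 1) = 0 := by
      have h3 := hpb
      rw [hv0, hv1, h5_nf_add h2, h0b, h5_nf_smul, h0a] at h3
      linear_combination h3 - t * h0p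
    rw [Finset.mem_insert, Finset.mem_singleton]
    rcases mul_eq_zero.mp hquad with h5 | h5
    · left
      refine Prod.ext e1 (Prod.ext ?_ ?_)
      · rw [hv0, h5, zero_mul, add_zero]
      · rw [hv1, h5, zero_mul, add_zero]
    · right
      have ht : t = a⁻¹ := by
        have h6 : a * t = 1 := by
          have := h5_neg_eq h2 (1 : F)
          linear_combination h5 + this
        field_simp
        linear_combination h6
      refine Prod.ext e1 (Prod.ext ?_ ?_)
      · show p.2.1 = p0.2.1 + a⁻¹ * p0.1.1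
        rw [hv0, ht]
      · show p.2.2 = p0.2.2 + a⁻¹ * p0.1.2
        rw [hv1, ht])
  refine le_trans hcard (Nat.mul_le_mul_left 2 ?_)
  rw [← h5_fibre_card h2 a b han' a ha]
  apply Finset.card_le_card
  intro u hu
  rw [Finset.mem_image] at hu
  obtain ⟨p, hp, rfl⟩ := hu
  rw [Finset.mem_filter]
  exact ⟨Finset.mem_univ _, (hmem p hp).1⟩

end Cfsg.Agent.LS3

/-! ### hyperbolic pairs of a quadratic form in characteristic 2 -/

namespace Cfsg.Agent.LS3

open QuadraticMap

section hyp

variable {F : Type*} [Field F] [Fintype F] [DecidableEq F]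

/-- a polynomial `r s² + s = c` has at most two roots. -/
theorem h5_quad_roots (r c : F) :
    (Finset.univ.filter fun s : F => r * s ^ 2 + s = c).card ≤ 2 := by
  classical
  by_cases hne : (Finset.univ.filter fun s : F => r * s ^ 2 + s = c).Nonempty
  · obtain ⟨s0, hs0⟩ := hne
    rw [Finset.mem_filter] at hs0
    refine le_trans (Finset.card_le_card (t := {s0, -s0 - r⁻¹}) ?_) Finset.card_le_two
    intro s hs
    rw [Finset.mem_filter] at hs
    rw [Finset.mem_insert, Finset.mem_singleton]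
    have h1 : (s - s0) * (r * (s + s0) + 1) = 0 := by linear_combination hs.2 - hs0.2
    rcases mul_eq_zero.mp h1 with h | h
    · left; exact sub_eq_zero.mp h
    · right
      have hr : r ≠ 0 := by
        intro h0
        rw [h0, zero_mul, zero_add] at h
        exact one_ne_zero h
      field_simp
      linear_combination h
  · rw [Finset.not_nonempty_iff_eq_empty] at hne
    rw [hne]; simp

variable {V : Type*} [AddCommGroup V] [Module F V] [Fintype V] [DecidableEq V]

omit [DecidableEq V] in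
/-- the kernel of `polar Q x` has at least `|V| / q` elements. -/
theorem h5_ker_bound (Q : QuadraticForm F V) (x : V) :
    Fintype.card V ≤ Fintype.card F * (Finset.univ.filter fun y : V => polar Q x y = 0).card := by
  classical
  have h := Finset.card_le_mul_card_image (f := fun y : V => polar Q x y) (Finset.univ : Finset V)
    (Finset.univ.filter fun y : V => polar Q x y = 0).card (by
      intro c hc
      rw [Finset.mem_image] at hc
      obtain ⟨y0, -, hy0⟩ := hc
      refine Finset.card_le_card_of_injOn (fun y => y - y0) ?_ ?_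
      · intro y hy
        simp only [Finset.coe_filter, Finset.mem_univ, true_and, Set.mem_ofPred_eq] at hy ⊢
        rw [polar_sub_right, hy, hy0, sub_self]
      · intro y _ y' _ h
        exact sub_left_injective h)
  rw [Finset.card_univ] at h
  refine le_trans h ?_
  rw [mul_comm]
  exact Nat.mul_le_mul_right _ (Finset.card_le_univ _)

omit [DecidableEq V] in
/-- `q · #{(x, y) : polar Q x y ≠ 0} ≤ (q - 1) |V|²`. -/
theorem h5_nonzero_pairs (Q : QuadraticForm F V) :
    Fintype.card F * (Finset.univ.filter fun p : V × V => polar Q p.1 p.2 ≠ 0).card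
      ≤ (Fintype.card F - 1) * Fintype.card V ^ 2 := by
  classical
  -- the zero pairs
  have h0 : Fintype.card V ^ 2
      ≤ Fintype.card F * (Finset.univ.filter fun p : V × V => polar Q p.1 p.2 = 0).card := by
    have e1 : (Finset.univ.filter fun p : V × V => polar Q p.1 p.2 = 0).card
        = ∑ x : V, (Finset.univ.filter fun y : V => polar Q x y = 0).card := by
      rw [Finset.card_filter, Fintype.sum_prod_type]
      refine Finset.sum_congr rfl (fun x _ => ?_)
      rw [Finset.card_filter]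
    rw [e1, Finset.mul_sum]
    calc Fintype.card V ^ 2 = ∑ _x : V, Fintype.card V := by
          rw [Finset.sum_const, Finset.card_univ, smul_eq_mul, _root_.sq]
      _ ≤ _ := Finset.sum_le_sum (fun x _ => h5_ker_bound Q x)
  have hsplit : (Finset.univ.filter fun p : V × V => polar Q p.1 p.2 ≠ 0).card
      + (Finset.univ.filter fun p : V × V => polar Q p.1 p.2 = 0).card = Fintype.card V ^ 2 := by
    have := Finset.card_filter_add_card_filter_not (s := (Finset.univ : Finset (V × V)))
      (fun p : V × V => polar Q p.1 p.2 ≠ 0)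
    simp only [ne_eq, not_not] at this
    rw [this, Finset.card_univ, Fintype.card_prod, _root_.sq]
  have hq : 1 ≤ Fintype.card F := Fintype.card_pos
  obtain ⟨k, hk⟩ : ∃ k, Fintype.card F = k + 1 := ⟨Fintype.card F - 1, by omega⟩
  rw [hk] at h0 ⊢
  rw [Nat.add_sub_cancel]
  nlinarith [hsplit, h0]

omit [Fintype F] [DecidableEq F] [Fintype V] [DecidableEq V] in
/-- the basic computation for the map `Φ`. -/
theorem h5_key (h2 : (2 : F) = 0) (Q : QuadraticForm F V) (x y : V) (r s : F)
    (hx : Q x = 0) (hy : Q y = 0) (hxy : polar Q x y = 1) :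
    Q (x + r • y) = r ∧ polar Q (x + r • y) (y + s • (x + r • y)) = 1 ∧
      Q (y + s • (x + r • y)) = r * s ^ 2 + s := by
  have h2n : ∀ a : F, (2 : ℕ) • a = 0 := by
    intro a
    rw [two_nsmul, ← two_mul, h2, zero_mul]
  have k1 : Q (x + r • y) = r := by
    rw [QuadraticMap.map_add (⇑Q) x (r • y), QuadraticMap.map_smul, polar_smul_right, hx, hy, hxy]
    simp
  have k0 : polar Q (x + r • y) y = 1 := by
    rw [polar_add_left, polar_smul_left, polar_self, hxy, h2n]
    simp
  have k2 : polar Q (x + r • y) (y + s • (x + r • y)) = 1 := by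
    rw [polar_add_right, polar_smul_right, polar_self, k0, h2n]
    simp
  refine ⟨k1, k2, ?_⟩
  rw [QuadraticMap.map_add (⇑Q) y (s • (x + r • y)), QuadraticMap.map_smul, polar_smul_right,
    polar_comm, k0, k1, hy]
  simp only [smul_eq_mul]
  ring

/-- **(P-H)** the number of hyperbolic pairs is at most `2 |V|² / q³`. -/
theorem h5_hyp_pairs (h2 : (2 : F) = 0) (Q : QuadraticForm F V) :
    Fintype.card F ^ 3 * (Finset.univ.filter fun p : V × V =>
      Q p.1 = 0 ∧ Q p.2 = 0 ∧ polar Q p.1 p.2 = 1).card ≤ 2 * Fintype.card V ^ 2 := by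
  classical
  set X := (Finset.univ.filter fun p : V × V =>
      Q p.1 = 0 ∧ Q p.2 = 0 ∧ polar Q p.1 p.2 = 1) with hX
  set D : Finset ((V × V) × F × F × F) :=
    X ×ˢ ((Finset.univ : Finset F) ×ˢ ((Finset.univ : Finset F) ×ˢ
      (Finset.univ.filter fun t : F => t ≠ 0))) with hD
  set Φ : (V × V) × F × F × F → V × V := fun d =>
    (d.1.1 + d.2.1 • d.1.2, d.2.2.2 • (d.1.2 + d.2.2.1 • (d.1.1 + d.2.1 • d.1.2))) with hΦ
  have hDcard : D.card = X.card * (Fintype.card F * (Fintype.card F * (Fintype.card F - 1))) := by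
    rw [hD, Finset.card_product, Finset.card_product, Finset.card_product, Finset.card_univ,
      Finset.filter_ne' Finset.univ (0 : F), Finset.card_erase_of_mem (Finset.mem_univ _),
      Finset.card_univ]
  have hmemD : ∀ d ∈ D, Q d.1.1 = 0 ∧ Q d.1.2 = 0 ∧ polar Q d.1.1 d.1.2 = 1 ∧ d.2.2.2 ≠ 0 := by
    intro d hd
    rw [hD, Finset.mem_product, Finset.mem_product, Finset.mem_product, hX, Finset.mem_filter,
      Finset.mem_filter] at hd
    exact ⟨hd.1.2.1, hd.1.2.2.1, hd.1.2.2.2, hd.2.2.2.2⟩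
  -- inverse formulas
  have hinv : ∀ d ∈ D, ∀ p : V × V, Φ d = p →
      d.2.1 = Q p.1 ∧ d.2.2.2 = polar Q p.1 p.2 ∧
      d.1.2 = (polar Q p.1 p.2)⁻¹ • p.2 - d.2.2.1 • p.1 ∧
      d.1.1 = p.1 - Q p.1 • d.1.2 ∧
      Q p.1 * d.2.2.1 ^ 2 + d.2.2.1 = Q ((polar Q p.1 p.2)⁻¹ • p.2) := by
    intro d hd p hp
    obtain ⟨hx, hy, hxy, ht⟩ := hmemD d hd
    obtain ⟨k1, k2, k3⟩ := h5_key h2 Q d.1.1 d.1.2 d.2.1 d.2.2.1 hx hy hxy
    have hp1 : p.1 = d.1.1 + d.2.1 • d.1.2 := by rw [← hp]
    have hp2 : p.2 = d.2.2.2 • (d.1.2 + d.2.2.1 • (d.1.1 + d.2.1 • d.1.2)) := by rw [← hp]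
    have e1 : Q p.1 = d.2.1 := by rw [hp1, k1]
    have e2 : polar Q p.1 p.2 = d.2.2.2 := by
      rw [hp1, hp2, polar_smul_right, k2, smul_eq_mul, mul_one]
    have e3 : (polar Q p.1 p.2)⁻¹ • p.2 = d.1.2 + d.2.2.1 • p.1 := by
      rw [e2, hp2, inv_smul_smul₀ ht, hp1]
    refine ⟨e1.symm, e2.symm, ?_, ?_, ?_⟩
    · rw [e3, add_sub_cancel_right]
    · rw [e1, hp1, add_sub_cancel_right]
    · rw [e3, e1, hp1, k3]
  have h1 := Finset.card_le_mul_card_image (f := Φ) D 2 (by
    intro p hp
    refine le_trans (Finset.card_le_card_of_injOn (fun d => d.2.2.1)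
      (t := Finset.univ.filter fun s : F =>
        Q p.1 * s ^ 2 + s = Q ((polar Q p.1 p.2)⁻¹ • p.2)) ?_ ?_) (h5_quad_roots _ _)
    · intro d hd
      simp only [Finset.coe_filter, Finset.mem_univ, true_and, Set.mem_ofPred_eq] at hd ⊢
      exact (hinv d hd.1 p hd.2).2.2.2.2
    · intro d hd d' hd' hs
      simp only [Finset.coe_filter, Set.mem_ofPred_eq] at hd hd'
      simp only at hs
      obtain ⟨a1, a2, a3, a4, -⟩ := hinv d hd.1 p hd.2
      obtain ⟨b1, b2, b3, b4, -⟩ := hinv d' hd'.1 p hd'.2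
      have ey : d.1.2 = d'.1.2 := by rw [a3, b3, hs]
      have ex : d.1.1 = d'.1.1 := by rw [a4, b4, ey]
      refine Prod.ext (Prod.ext ex ey) (Prod.ext (a1.trans b1.symm)
        (Prod.ext hs (a2.trans b2.symm))))
  have himg : (D.image Φ).card
      ≤ (Finset.univ.filter fun p : V × V => polar Q p.1 p.2 ≠ 0).card := by
    apply Finset.card_le_card
    intro p hp
    rw [Finset.mem_image] at hp
    obtain ⟨d, hd, hdp⟩ := hp
    rw [Finset.mem_filter]
    refine ⟨Finset.mem_univ _, ?_⟩
    rw [← (hinv d hd p hdp).2.1]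
    exact (hmemD d hd).2.2.2
  have h3 := h5_nonzero_pairs Q
  have hq : 2 ≤ Fintype.card F := Fintype.one_lt_card
  obtain ⟨k, hk⟩ : ∃ k, Fintype.card F = k + 2 := ⟨Fintype.card F - 2, by omega⟩
  rw [hDcard] at h1
  rw [hk] at h1 h3 ⊢
  have hk1 : k + 2 - 1 = k + 1 := by omega
  rw [hk1] at h1 h3
  -- cancel `k + 1`
  have hfin : (k + 1) * ((k + 2) ^ 3 * X.card) ≤ (k + 1) * (2 * Fintype.card V ^ 2) := by
   calc (k + 1) * ((k + 2) ^ 3 * X.card)
      = (k + 2) * (X.card * ((k + 2) * ((k + 2) * (k + 1)))) := by ring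
    _ ≤ (k + 2) * (2 * (D.image Φ).card) := Nat.mul_le_mul_left _ h1
    _ ≤ (k + 2) * (2 * (Finset.univ.filter fun p : V × V => polar Q p.1 p.2 ≠ 0).card) :=
        Nat.mul_le_mul_left _ (Nat.mul_le_mul_left _ himg)
    _ = 2 * ((k + 2) * (Finset.univ.filter fun p : V × V => polar Q p.1 p.2 ≠ 0).card) := by ring
    _ ≤ 2 * ((k + 1) * Fintype.card V ^ 2) := Nat.mul_le_mul_left _ h3
    _ = (k + 1) * (2 * Fintype.card V ^ 2) := by ring
  exact Nat.le_of_mul_le_mul_left hfin (by omega)

end hyp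

end Cfsg.Agent.LS3
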