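import Mathlib
import Cfsg.Agent.LS3.H2_BlockOdd
import Cfsg.Agent.LS3.H4_HermRank2

set_option autoImplicit false
set_option linter.unusedSectionVars false

/-!
# LS3 (S2334): the odd block model packaged for the assembly (helper7)

On top of helper2's `H2_BlockOdd` and helper4's `H4_HermChar/H4_HermRank2`:
* `h7_uO hF m : Multiplicative (h4_skew hF (Fin m)) →* h3_BU hF (h2_J F m)`, `S ↦ u(S) = v(0,S)`;
* `h7_dO hF A A' hAA'` : the Levi element `diag(A, A'*, λ)` with `λ = det A ^ q * det A'`, for every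
  invertible `A`, and `h7_dO_mul_uO`;
* `h7_uO_not_scalar`;
* `h7_v_rel` : `v(a,S) v(a',S') = u(R(a,a')) (v(a',S') v(a,S))`.
-/

namespace Cfsg.Agent.LS3

open Matrix Cfsg Cfsg.Agent.Helper7.Herm

variable {F : Type*} [Field F] [Fintype F] {q : ℕ} {m : ℕ}

theorem h7_skew_cond (hF : Fintype.card F = q ^ 2) (S : h4_skew hF (Fin m)) :
    h3_ct q S.1 = -S.1 := S.2

/-- the centre `Z(Q) = {u(S)}` as a homomorphic image of the skew-Hermitian matrices. -/
def h7_uO (hF : Fintype.card F = q ^ 2) (m : ℕ) :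
    Multiplicative (h4_skew hF (Fin m)) →* h3_BU hF (h2_J F m) where
  toFun x := h2_u hF (Multiplicative.toAdd x).1 (h7_skew_cond hF (Multiplicative.toAdd x))
  map_one' := by
    have h := (h2_u_eq_one_iff hF (0 : Matrix (Fin m) (Fin m) F)
      (h7_skew_cond hF (0 : h4_skew hF (Fin m)))).2 rfl
    exact h
  map_mul' := by
    intro x y
    have h := h2_u_mul hF (Multiplicative.toAdd x).1 (Multiplicative.toAdd y).1
      (h7_skew_cond hF (Multiplicative.toAdd x)) (h7_skew_cond hF (Multiplicative.toAdd y))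
    exact h.symm

theorem h7_uO_apply (hF : Fintype.card F = q ^ 2) (S : h4_skew hF (Fin m)) :
    h7_uO hF m (Multiplicative.ofAdd S) = h2_u hF S.1 (h7_skew_cond hF S) := rfl

theorem h7_uO_coe (hF : Fintype.card F = q ^ 2) (S : h4_skew hF (Fin m)) :
    ((h7_uO hF m (Multiplicative.ofAdd S)).1).1 = h2_vM q 0 S.1 := rfl

/-- `u(S)` is not a scalar matrix for `S ≠ 0`. -/
theorem h7_uO_not_scalar (hF : Fintype.card F = q ^ 2) (S : h4_skew hF (Fin m)) (hS0 : S.1 ≠ 0)
    (c : F) : ((h7_uO hF m (Multiplicative.ofAdd S)).1).1 ≠ c • (1 : Matrix (h2_I m) (h2_I m) F) := by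
  intro h
  apply hS0
  rw [h7_uO_coe] at h
  unfold h2_vM at h
  rw [← Matrix.fromBlocks_one, Matrix.fromBlocks_smul] at h
  have h1 := (Matrix.fromBlocks_inj.1 h).1
  rw [← Matrix.fromBlocks_one, Matrix.fromBlocks_smul] at h1
  have h2 := (Matrix.fromBlocks_inj.1 h1).2.1
  rw [h2, smul_zero]

theorem h7_det_mul (A A' : Matrix (Fin m) (Fin m) F) (hAA' : A * A' = 1) :
    A.det * A'.det = 1 := by
  rw [← Matrix.det_mul, hAA', Matrix.det_one]

theorem h7_lam_norm (hF : Fintype.card F = q ^ 2) (A A' : Matrix (Fin m) (Fin m) F)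
    (hAA' : A * A' = 1) :
    (A.det ^ q * A'.det) * (A.det ^ q * A'.det) ^ q = 1 := by
  have h1 := h7_det_mul A A' hAA'
  rw [mul_pow, pow_q_pow_q hF]
  calc A.det ^ q * A'.det * (A.det * A'.det ^ q)
      = (A.det * A'.det) ^ q * (A.det * A'.det) := by rw [mul_pow]; ring
    _ = 1 := by rw [h1, one_pow, one_mul]

theorem h7_lam_det (A A' : Matrix (Fin m) (Fin m) F) (hAA' : A * A' = 1) :
    A.det * A'.det ^ q * (A.det ^ q * A'.det) = 1 := by
  have h1 := h7_det_mul A A' hAA'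
  calc A.det * A'.det ^ q * (A.det ^ q * A'.det)
      = (A.det * A'.det) ^ q * (A.det * A'.det) := by rw [mul_pow]; ring
    _ = 1 := by rw [h1, one_pow, one_mul]

/-- the Levi element `diag(A, A'*, det A ^ q * det A')`, for every invertible `A`. -/
def h7_dO (hF : Fintype.card F = q ^ 2) (A A' : Matrix (Fin m) (Fin m) F) (hAA' : A * A' = 1) :
    h3_BU hF (h2_J F m) :=
  h2_d hF A A' hAA' (A.det ^ q * A'.det) (h7_lam_norm hF A A' hAA') (h7_lam_det A A' hAA')

/-- **Levi relation** `d(A) u(S) = u(A S A*) d(A)`. -/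
theorem h7_dO_mul_uO (hF : Fintype.card F = q ^ 2) (A A' : Matrix (Fin m) (Fin m) F)
    (hAA' : A * A' = 1) (S : h4_skew hF (Fin m)) :
    h7_dO hF A A' hAA' * h7_uO hF m (Multiplicative.ofAdd S)
      = h7_uO hF m (Multiplicative.ofAdd
          (⟨A * S.1 * h4_star q A, h4_conj_mem_skew hF A S.2⟩ : h4_skew hF (Fin m)))
        * h7_dO hF A A' hAA' := by
  unfold h7_dO
  rw [h7_uO_apply, h7_uO_apply]
  exact h2_d_mul_u hF A A' hAA' _ _ _ S.1 (h7_skew_cond hF S)

/-- `u` is central in `Q`. -/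
theorem h7_uO_comm_v (hF : Fintype.card F = q ^ 2) (x : Multiplicative (h4_skew hF (Fin m)))
    (a : Matrix (Fin m) Unit F) (S : Matrix (Fin m) (Fin m) F)
    (h : S + h3_ct q S = -(a * h3_ct q a)) :
    h7_uO hF m x * h2_v hF a S h = h2_v hF a S h * h7_uO hF m x :=
  h2_u_comm_v hF _ (h7_skew_cond hF (Multiplicative.toAdd x)) a S h

/-- **commutator relation**: `v(a,S) v(a',S') = u(R(a,a')) (v(a',S') v(a,S))`,
`R(a,a') = a' a* − a a'*`. -/
theorem h7_v_rel (hF : Fintype.card F = q ^ 2) (a a' : Matrix (Fin m) Unit F)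
    (S S' : Matrix (Fin m) (Fin m) F) (h : S + h3_ct q S = -(a * h3_ct q a))
    (h' : S' + h3_ct q S' = -(a' * h3_ct q a')) :
    h2_v hF a S h * h2_v hF a' S' h'
      = h7_uO hF m (Multiplicative.ofAdd
          (⟨h4_R q a a', h4_R_mem_skew hF a a'⟩ : h4_skew hF (Fin m)))
        * (h2_v hF a' S' h' * h2_v hF a S h) := by
  rw [h2_v_comm hF a a' S S' h h', h7_uO_apply]
  have hR : h3_ct q (h4_R q a a') = -(h4_R q a a') := h4_R_mem_skew hF a a'
  have e1 := h2_u_comm_v hF (h4_R q a a') hR a S h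
  have e2 := h2_u_comm_v hF (h4_R q a a') hR a' S' h'
  have e3 : h2_u hF (a' * h3_ct q a - a * h3_ct q a') (h2_comm_skew hF a a')
      = h2_u hF (h4_R q a a') hR := rfl
  rw [e3, mul_assoc, ← e1, ← mul_assoc, ← e2, mul_assoc]

/-- a lift `v(a, c' • a a*)` exists for every `a` (`c' ^ q + c' = -1`). -/
theorem h7_lift_cond (hF : Fintype.card F = q ^ 2) (a : Matrix (Fin m) Unit F) (c' : F)
    (hc' : c' ^ q + c' = -1) :
    c' • (a * h3_ct q a) + h3_ct q (c' • (a * h3_ct q a)) = -(a * h3_ct q a) := by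
  have e : h3_ct q (c' • (a * h3_ct q a)) = c' ^ q • (a * h3_ct q a) := by
    have h1 : h3_ct q (a * h3_ct q a) = a * h3_ct q a := by
      rw [h3_ct_mul hF, h3_ct_ct hF]
    ext i j
    have h2 := congrFun (congrFun h1 i) j
    simp only [h3_ct_apply, Matrix.smul_apply, smul_eq_mul, mul_pow] at h2 ⊢
    rw [h2]
  rw [e, ← add_smul, add_comm, hc', neg_one_smul]

end Cfsg.Agent.LS3
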