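import Mathlib

set_option autoImplicit false

/-!
# LS3 base: the involution `x ↦ x ^ q` of a field with `q²` elements as a ring homomorphism,
and the `q`-conjugate transpose of matrices.
-/

namespace Cfsg.Agent.LS3

open Matrix

variable {K : Type*} [Field K] [Fintype K] {q : ℕ}

theorem ls_exists_char_pow (hK : Fintype.card K = q ^ 2) :
    ∃ (p k : ℕ), p.Prime ∧ CharP K p ∧ q = p ^ k := by
  obtain ⟨p, hp⟩ := CharP.exists K
  obtain ⟨n, hpp, hn⟩ := FiniteField.card K p
  have hdvd : q ∣ p ^ (n : ℕ) := by
    rw [← hn, hK]; exact Dvd.intro_left (q ^ 1) (by ring)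
  obtain ⟨k, _, hk⟩ := (Nat.dvd_prime_pow hpp).mp hdvd
  exact ⟨p, k, hpp, hp, hk⟩

theorem ls_q_pos (hK : Fintype.card K = q ^ 2) : 0 < q := by
  by_contra h
  have : q = 0 := by omega
  rw [this] at hK
  have := Fintype.card_pos (α := K)
  omega

theorem ls_two_le_q (hK : Fintype.card K = q ^ 2) : 2 ≤ q := by
  have h1 := ls_q_pos hK
  by_contra h
  have : q = 1 := by omega
  rw [this] at hK
  have := Fintype.one_lt_card (α := K)
  omega

/-- The involution `x ↦ x ^ q` as a ring homomorphism. -/
noncomputable def sig (hK : Fintype.card K = q ^ 2) : K →+* K where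
  toFun x := x ^ q
  map_one' := one_pow q
  map_mul' x y := mul_pow x y q
  map_zero' := zero_pow (ls_q_pos hK).ne'
  map_add' a b := by
    obtain ⟨p, k, hp, hc, rfl⟩ := ls_exists_char_pow hK
    haveI : Fact p.Prime := ⟨hp⟩
    exact add_pow_char_pow a b p k

@[simp] theorem sig_apply (hK : Fintype.card K = q ^ 2) (x : K) : sig hK x = x ^ q := rfl

theorem sig_sig (hK : Fintype.card K = q ^ 2) (x : K) : sig hK (sig hK x) = x := by
  simp only [sig_apply]
  rw [← pow_mul, ← sq, ← hK, FiniteField.pow_card]

theorem sig_injective (hK : Fintype.card K = q ^ 2) : Function.Injective (sig hK) :=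
  (sig hK).injective

/-- The `q`-conjugate transpose. -/
noncomputable def hst (hK : Fintype.card K = q ^ 2) {m n : Type*} (A : Matrix m n K) :
    Matrix n m K := (A.map (sig hK))ᵀ

theorem hst_apply (hK : Fintype.card K = q ^ 2) {m n : Type*} (A : Matrix m n K) (i : n) (j : m) :
    hst hK A i j = A j i ^ q := rfl

theorem hst_eq (hK : Fintype.card K = q ^ 2) {m n : Type*} (A : Matrix m n K) :
    hst hK A = (A.map (fun x => x ^ q))ᵀ := rfl

theorem hst_hst (hK : Fintype.card K = q ^ 2) {m n : Type*} (A : Matrix m n K) :
    hst hK (hst hK A) = A := by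
  ext i j
  simp only [hst_apply]
  exact sig_sig hK (A i j)

theorem hst_mul (hK : Fintype.card K = q ^ 2) {l m n : Type*} [Fintype m] (A : Matrix l m K)
    (B : Matrix m n K) : hst hK (A * B) = hst hK B * hst hK A := by
  unfold hst
  rw [Matrix.map_mul, Matrix.transpose_mul]

theorem hst_add (hK : Fintype.card K = q ^ 2) {m n : Type*} (A B : Matrix m n K) :
    hst hK (A + B) = hst hK A + hst hK B := by
  unfold hst
  rw [Matrix.map_add (sig hK) (map_add (sig hK)), Matrix.transpose_add]

theorem hst_sub (hK : Fintype.card K = q ^ 2) {m n : Type*} (A B : Matrix m n K) :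
    hst hK (A - B) = hst hK A - hst hK B := by
  ext i j
  simp only [hst_apply, Matrix.sub_apply]
  exact map_sub (sig hK) _ _

theorem hst_neg (hK : Fintype.card K = q ^ 2) {m n : Type*} (A : Matrix m n K) :
    hst hK (-A) = -hst hK A := by
  ext i j
  simp only [hst_apply, Matrix.neg_apply]
  exact map_neg (sig hK) _

theorem hst_zero (hK : Fintype.card K = q ^ 2) {m n : Type*} :
    hst hK (0 : Matrix m n K) = 0 := by
  ext i j
  simp only [hst_apply, Matrix.zero_apply]
  exact zero_pow (ls_q_pos hK).ne'

theorem hst_one (hK : Fintype.card K = q ^ 2) {m : Type*} [DecidableEq m] :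
    hst hK (1 : Matrix m m K) = 1 := by
  ext i j
  simp only [hst_apply, Matrix.one_apply]
  by_cases h : i = j
  · subst h; simp
  · rw [if_neg h, if_neg (Ne.symm h)]
    exact zero_pow (ls_q_pos hK).ne'

theorem hst_smul (hK : Fintype.card K = q ^ 2) {m n : Type*} (c : K) (A : Matrix m n K) :
    hst hK (c • A) = (c ^ q) • hst hK A := by
  ext i j
  simp only [hst_apply, Matrix.smul_apply, smul_eq_mul, mul_pow]

theorem hst_fromBlocks (hK : Fintype.card K = q ^ 2) {l m n o : Type*} (A : Matrix n l K)
    (B : Matrix n m K) (C : Matrix o l K) (D : Matrix o m K) :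
    hst hK (fromBlocks A B C D) = fromBlocks (hst hK A) (hst hK C) (hst hK B) (hst hK D) := by
  unfold hst
  rw [Matrix.fromBlocks_map, Matrix.fromBlocks_transpose]

theorem hst_det (hK : Fintype.card K = q ^ 2) {m : Type*} [Fintype m] [DecidableEq m]
    (A : Matrix m m K) : (hst hK A).det = A.det ^ q := by
  unfold hst
  rw [Matrix.det_transpose, ← RingHom.mapMatrix_apply, ← RingHom.map_det]
  rfl

theorem hst_injective (hK : Fintype.card K = q ^ 2) {m n : Type*} :
    Function.Injective (hst hK : Matrix m n K → Matrix n m K) := by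
  intro A B h
  have := congrArg (hst hK) h
  rwa [hst_hst, hst_hst] at this

/-- Number of `t` with `t ^ (q+1) = a` is at most `q + 1`. -/
theorem ls_norm_fibre (a : K) [DecidableEq K] :
    (Finset.univ.filter (fun t : K => t ^ (q + 1) = a)).card ≤ q + 1 := by
  classical
  have hp : (Polynomial.X ^ (q + 1) - Polynomial.C a : Polynomial K) ≠ 0 :=
    Polynomial.X_pow_sub_C_ne_zero (Nat.succ_pos q) a
  have hdeg : (Polynomial.X ^ (q + 1) - Polynomial.C a : Polynomial K).natDegree = q + 1 :=
    Polynomial.natDegree_X_pow_sub_C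
  calc (Finset.univ.filter (fun t : K => t ^ (q + 1) = a)).card
      ≤ ((Polynomial.X ^ (q + 1) - Polynomial.C a : Polynomial K).roots.toFinset).card := by
        apply Finset.card_le_card
        intro t ht
        rw [Finset.mem_filter] at ht
        rw [Multiset.mem_toFinset, Polynomial.mem_roots hp]
        simp [ht.2]
    _ ≤ Multiset.card (Polynomial.X ^ (q + 1) - Polynomial.C a : Polynomial K).roots :=
        Multiset.toFinset_card_le _
    _ ≤ q + 1 := by
        have := Polynomial.card_roots' (Polynomial.X ^ (q + 1) - Polynomial.C a : Polynomial K)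
        rwa [hdeg] at this

/-- There is `y` with `y + y ^ q ≠ 0` (trace is not identically zero). -/
theorem ls_exists_trace_ne (hK : Fintype.card K = q ^ 2) : ∃ y : K, y + y ^ q ≠ 0 := by
  classical
  by_contra hcon
  push Not at hcon
  have h2 := ls_two_le_q hK
  have hp : (Polynomial.X ^ q + Polynomial.X : Polynomial K) ≠ 0 := by
    intro h
    have := congrArg (fun p => Polynomial.coeff p q) h
    simp only [Polynomial.coeff_add, Polynomial.coeff_X_pow, Polynomial.coeff_X,
      Polynomial.coeff_zero] at this
    rw [if_pos trivial, if_neg (by omega)] at this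
    simp at this
  have hdeg : (Polynomial.X ^ q + Polynomial.X : Polynomial K).natDegree ≤ q := by
    apply Polynomial.natDegree_add_le_of_degree_le
    · simp
    · simp; omega
  have hroots : Fintype.card K ≤ Multiset.card (Polynomial.X ^ q + Polynomial.X : Polynomial K).roots := by
    calc Fintype.card K = (Finset.univ : Finset K).card := rfl
      _ ≤ ((Polynomial.X ^ q + Polynomial.X : Polynomial K).roots.toFinset).card := by
          apply Finset.card_le_card
          intro t _
          rw [Multiset.mem_toFinset, Polynomial.mem_roots hp]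
          simp only [Polynomial.IsRoot, Polynomial.eval_add, Polynomial.eval_pow, Polynomial.eval_X]
          rw [add_comm]; exact hcon t
      _ ≤ _ := Multiset.toFinset_card_le _
  have h3 := Polynomial.card_roots' (Polynomial.X ^ q + Polynomial.X : Polynomial K)
  have : q ^ 2 ≤ q := by rw [← hK]; omega
  nlinarith

end Cfsg.Agent.LS3
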