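import Mathlib
import Cfsg.Agent.LS3.L_Base

set_option autoImplicit false

/-!
# LS3: orbits of Hermitian matrices under `T ↦ C T C*` — basic facts (lead)
-/

namespace Cfsg.Agent.LS3

open Matrix

variable {K : Type*} [Field K] [Fintype K] [DecidableEq K] {q : ℕ}

/-- A set of allowed determinants. -/
structure DetOK (D : Set K) : Prop where
  one : (1 : K) ∈ D
  mul : ∀ {a b : K}, a ∈ D → b ∈ D → a * b ∈ D
  neg_one : (-1 : K) ∈ D

theorem detOK_univ : DetOK (Set.univ : Set K) :=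
  ⟨Set.mem_univ _, fun _ _ => Set.mem_univ _, Set.mem_univ _⟩

theorem detOK_fix (hK : Fintype.card K = q ^ 2) : DetOK {d : K | d ^ q = d} := by
  refine ⟨one_pow q, fun {a b} ha hb => ?_, ?_⟩
  · simp only [Set.mem_setOf_eq] at ha hb ⊢
    rw [mul_pow, ha, hb]
  · simp only [Set.mem_setOf_eq]
    rcases Nat.even_or_odd q with he | ho
    · obtain ⟨p, k, hp, hc, rfl⟩ := ls_exists_char_pow hK
      have hp2 : p = 2 := by
        have : 2 ∣ p ^ k := he.two_dvd
        have := (Nat.Prime.dvd_of_dvd_pow Nat.prime_two this)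
        exact ((Nat.prime_dvd_prime_iff_eq Nat.prime_two hp).mp this).symm
      subst hp2
      have h2 : (2 : K) = 0 := by
        have := CharP.cast_eq_zero K 2
        exact_mod_cast this
      have hneg : (-1 : K) = 1 := by
        rw [neg_eq_iff_add_eq_zero]; rw [one_add_one_eq_two, h2]
      rw [hneg, one_pow]
    · exact ho.neg_one_pow

/-- The orbit of `T` under `C ↦ C T C*`, `det C ≠ 0`, `det C ∈ D`. -/
def horb (hK : Fintype.card K = q ^ 2) (D : Set K) {ι : Type*} [Fintype ι] [DecidableEq ι]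
    (T : Matrix ι ι K) : Set (Matrix ι ι K) :=
  {T' | ∃ C : Matrix ι ι K, C.det ≠ 0 ∧ C.det ∈ D ∧ T' = C * T * hst hK C}

section basic

variable (hK : Fintype.card K = q ^ 2) {D : Set K} {ι : Type*} [Fintype ι] [DecidableEq ι]

theorem horb_self (hD : DetOK D) (T : Matrix ι ι K) : T ∈ horb hK D T :=
  ⟨1, by simp, by rw [det_one]; exact hD.one, by rw [hst_one, one_mul, mul_one]⟩

theorem horb_subset (hD : DetOK D) {T T' : Matrix ι ι K} (h : T' ∈ horb hK D T) :
    horb hK D T' ⊆ horb hK D T := by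
  rintro T'' ⟨C', hC', hC'D, rfl⟩
  obtain ⟨C, hC, hCD, rfl⟩ := h
  refine ⟨C' * C, ?_, ?_, ?_⟩
  · rw [det_mul]; exact mul_ne_zero hC' hC
  · rw [det_mul]; exact hD.mul hC'D hCD
  · rw [hst_mul]; simp only [Matrix.mul_assoc]

theorem horb_mono {D' : Set K} (hDD : D ⊆ D') (T : Matrix ι ι K) :
    horb hK D T ⊆ horb hK D' T := by
  rintro T' ⟨C, hC, hCD, rfl⟩
  exact ⟨C, hC, hDD hCD, rfl⟩

theorem horb_herm {T T' : Matrix ι ι K} (hT : hst hK T = T) (h : T' ∈ horb hK D T) :
    hst hK T' = T' := by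
  obtain ⟨C, _, _, rfl⟩ := h
  rw [hst_mul, hst_mul, hst_hst, hT, Matrix.mul_assoc]

theorem horb_ne_zero {T T' : Matrix ι ι K} (hT0 : T ≠ 0) (h : T' ∈ horb hK D T) : T' ≠ 0 := by
  obtain ⟨C, hC, _, rfl⟩ := h
  intro h0
  apply hT0
  have hu : IsUnit C.det := isUnit_iff_ne_zero.mpr hC
  have hu' : IsUnit (hst hK C).det := by
    rw [hst_det]; exact isUnit_iff_ne_zero.mpr (pow_ne_zero _ hC)
  have h1 : C⁻¹ * (C * T * hst hK C) * (hst hK C)⁻¹ = T := by
    rw [Matrix.mul_assoc C, ← Matrix.mul_assoc C⁻¹, Matrix.nonsing_inv_mul _ hu, Matrix.one_mul,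
      Matrix.mul_assoc, Matrix.mul_nonsing_inv _ hu', Matrix.mul_one]
  rw [← h1, h0, Matrix.mul_zero, Matrix.zero_mul]

theorem horb_ncard_le (hD : DetOK D) {T T' : Matrix ι ι K} (h : T' ∈ horb hK D T) :
    (horb hK D T').ncard ≤ (horb hK D T).ncard :=
  Set.ncard_le_ncard (horb_subset hK hD h) (Set.toFinite _)

omit [DecidableEq K] in
theorem hst_submatrix {m n m' n' : Type*} (A : Matrix m n K) (f : m' → m) (g : n' → n) :
    hst hK (A.submatrix f g) = (hst hK A).submatrix g f := rfl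

omit [DecidableEq K] [DecidableEq ι] in
theorem reindex_conj {ι' : Type*} [Fintype ι'] (e : ι ≃ ι') (C T : Matrix ι ι K) :
    reindex e e (C * T * hst hK C)
      = reindex e e C * reindex e e T * hst hK (reindex e e C) := by
  simp only [reindex_apply, hst_submatrix]
  rw [submatrix_mul_equiv, submatrix_mul_equiv]

theorem horb_reindex {ι' : Type*} [Fintype ι'] [DecidableEq ι'] (e : ι ≃ ι') (T : Matrix ι ι K) :
    horb hK D (reindex e e T) = (reindex e e) '' horb hK D T := by
  ext T'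
  constructor
  · rintro ⟨C, hC, hCD, rfl⟩
    refine ⟨(reindex e.symm e.symm C) * T * hst hK (reindex e.symm e.symm C),
      ⟨reindex e.symm e.symm C, ?_, ?_, rfl⟩, ?_⟩
    · rw [det_reindex_self]; exact hC
    · rw [det_reindex_self]; exact hCD
    · rw [reindex_conj]
      congr 2
      · ext i j; simp
      · ext i j; simp [hst_apply]
  · rintro ⟨T'', ⟨C, hC, hCD, rfl⟩, rfl⟩
    refine ⟨reindex e e C, ?_, ?_, ?_⟩
    · rw [det_reindex_self]; exact hC
    · rw [det_reindex_self]; exact hCD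
    · rw [reindex_conj]

theorem horb_reindex_ncard {ι' : Type*} [Fintype ι'] [DecidableEq ι'] (e : ι ≃ ι')
    (T : Matrix ι ι K) : (horb hK D (reindex e e T)).ncard = (horb hK D T).ncard := by
  rw [horb_reindex]
  exact Set.ncard_image_of_injective _ (reindex e e).injective

end basic

end Cfsg.Agent.LS3
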