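import Mathlib
import Cfsg.Agent.LS3.L_HermOrbA

set_option autoImplicit false

/-!
# LS3: orbits of Hermitian matrices — block reductions (lead)
-/

namespace Cfsg.Agent.LS3

open Matrix

variable {K : Type*} [Field K] [Fintype K] [DecidableEq K] {q : ℕ}

/-- the `1 × 1` block with entry `c`. -/
def sc (c : K) : Matrix Unit Unit K := c • (1 : Matrix Unit Unit K)

omit [Fintype K] [DecidableEq K] in
theorem sc_apply (c : K) (i j : Unit) : sc c i j = c := by
  simp [sc]

omit [Fintype K] [DecidableEq K] in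
theorem sc_det (c : K) : (sc c).det = c := by simp [sc]

omit [Fintype K] [DecidableEq K] in
theorem sc_mul_sc (a b : K) : sc a * sc b = sc (a * b) := by
  simp [sc, smul_smul, mul_comm]

omit [Fintype K] [DecidableEq K] in
theorem sc_mul {n : Type*} (a : K) (M : Matrix Unit n K) : sc a * M = a • M := by
  simp [sc]

omit [Fintype K] [DecidableEq K] in
theorem mul_sc {n : Type*} (a : K) (M : Matrix n Unit K) : M * sc a = a • M := by
  simp [sc]

omit [Fintype K] [DecidableEq K] in
theorem sc_injective : Function.Injective (sc : K → Matrix Unit Unit K) := by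
  intro a b h
  have := congrFun (congrFun h ()) ()
  simpa [sc_apply] using this

omit [Fintype K] [DecidableEq K] in
theorem eq_sc (M : Matrix Unit Unit K) : M = sc (M () ()) := by
  ext i j
  simp [sc_apply]

omit [DecidableEq K] in
theorem hst_sc (hK : Fintype.card K = q ^ 2) (c : K) : hst hK (sc c) = sc (c ^ q) := by
  ext i j
  simp [hst_apply, sc_apply]

section shear

variable (hK : Fintype.card K = q ^ 2) {ι : Type*} [Fintype ι] [DecidableEq ι]

omit [DecidableEq K] in
/-- Conjugating a block matrix by the lower shear `[[1,0],[ρ,1]]`. -/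
theorem shear_formula (a : K) (β : Matrix Unit ι K) (τ ρ : Matrix ι Unit K) (M : Matrix ι ι K) :
    fromBlocks 1 0 ρ 1 * fromBlocks (sc a) β τ M * hst hK (fromBlocks (1 : Matrix Unit Unit K) 0 ρ 1)
      = fromBlocks (sc a) (a • hst hK ρ + β) (a • ρ + τ)
          ((a • ρ + τ) * hst hK ρ + ρ * β + M) := by
  rw [hst_fromBlocks, hst_one, hst_one, hst_zero, fromBlocks_multiply, fromBlocks_multiply]
  simp only [Matrix.one_mul, Matrix.zero_mul, Matrix.mul_one, Matrix.mul_zero, add_zero, zero_add,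
    mul_sc, sc_mul]
  congr 1
  abel

omit [DecidableEq K] in
theorem shear_det (ρ : Matrix ι Unit K) :
    (fromBlocks (1 : Matrix Unit Unit K) 0 ρ (1 : Matrix ι ι K)).det = 1 := by
  rw [det_fromBlocks_zero₁₂, det_one, det_one, mul_one]

omit [DecidableEq K] in
/-- shear up: from block diagonal to a general first column. -/
theorem shear_up {a : K} (ha : a ≠ 0) (haq : a ^ q = a) (τ : Matrix ι Unit K) (N : Matrix ι ι K) :
    fromBlocks 1 0 (a⁻¹ • τ) 1 * fromBlocks (sc a) 0 0 N
        * hst hK (fromBlocks (1 : Matrix Unit Unit K) 0 (a⁻¹ • τ) 1)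
      = fromBlocks (sc a) (hst hK τ) τ (N + a⁻¹ • (τ * hst hK τ)) := by
  rw [shear_formula]
  have h1 : (a⁻¹) ^ q = a⁻¹ := by rw [inv_pow, haq]
  have h2 : a • a⁻¹ • τ = τ := by rw [smul_smul, mul_inv_cancel₀ ha, one_smul]
  rw [hst_smul, h1, h2, smul_smul, mul_inv_cancel₀ ha, one_smul, add_zero, add_zero,
    Matrix.mul_zero, add_zero, Matrix.mul_smul, add_comm]

omit [DecidableEq K] in
/-- shear down: kill the first column. -/
theorem shear_down {a : K} (ha : a ≠ 0) (haq : a ^ q = a) (τ : Matrix ι Unit K) (M : Matrix ι ι K) :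
    fromBlocks 1 0 (-(a⁻¹ • τ)) 1 * fromBlocks (sc a) (hst hK τ) τ M
        * hst hK (fromBlocks (1 : Matrix Unit Unit K) 0 (-(a⁻¹ • τ)) 1)
      = fromBlocks (sc a) 0 0 (M - a⁻¹ • (τ * hst hK τ)) := by
  rw [shear_formula]
  have h1 : (a⁻¹) ^ q = a⁻¹ := by rw [inv_pow, haq]
  have h2 : a • -(a⁻¹ • τ) + τ = 0 := by
    rw [smul_neg, smul_smul, mul_inv_cancel₀ ha, one_smul, neg_add_cancel]
  have h3 : a • hst hK (-(a⁻¹ • τ)) + hst hK τ = 0 := by
    rw [hst_neg, hst_smul, h1, smul_neg, smul_smul, mul_inv_cancel₀ ha, one_smul, neg_add_cancel]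
  rw [h2, h3, Matrix.zero_mul, zero_add, Matrix.neg_mul, Matrix.smul_mul]
  congr 1
  abel

end shear

end Cfsg.Agent.LS3
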