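import Mathlib
import Cfsg.Agent.LS3.L_HermOrbB

set_option autoImplicit false

/-!
# LS3: orbits of Hermitian matrices — normalisation of the corner entry (lead)
-/

namespace Cfsg.Agent.LS3

open Matrix

variable {K : Type*} [Field K] [Fintype K] [DecidableEq K] {q : ℕ}

section corner

variable (hK : Fintype.card K = q ^ 2) {D : Set K} {ι : Type*} [Fintype ι] [DecidableEq ι]

omit [DecidableEq K] in
theorem herm_entry {T : Matrix ι ι K} (hT : hst hK T = T) (i j : ι) : T i j = T j i ^ q := by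
  have := congrFun (congrFun hT i) j
  rw [hst_apply] at this
  exact this.symm

omit [DecidableEq K] in
theorem hst_transvection (i j : ι) (a : K) :
    hst hK (transvection i j a) = transvection j i (a ^ q) := by
  ext k l
  simp only [hst_apply, transvection, Matrix.add_apply, Matrix.one_apply, Matrix.single_apply]
  by_cases h1 : l = k
  · subst h1
    by_cases h2 : i = l ∧ j = l
    · obtain ⟨rfl, rfl⟩ := h2
      simp [add_pow_char_pow]
      obtain ⟨p, k, hp, hc, rfl⟩ := ls_exists_char_pow hK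
      haveI : Fact p.Prime := ⟨hp⟩
      rw [add_pow_char_pow, one_pow]
    · have h3 : ¬ (j = l ∧ i = l) := fun h => h2 ⟨h.2, h.1⟩
      simp [h2, h3]
  · have h1' : ¬ k = l := fun h => h1 h.symm
    by_cases h2 : i = l ∧ j = k
    · have h3 : j = k ∧ i = l := ⟨h2.2, h2.1⟩
      simp [h1, h1', h2, h3]
    · have h3 : ¬ (j = k ∧ i = l) := fun h => h2 ⟨h.2, h.1⟩
      simp [h1, h1', h2, h3, (ls_q_pos hK).ne']

/-- Some orbit element has a non-zero diagonal entry. -/
theorem exists_diag_ne (hD : DetOK D) {T : Matrix ι ι K} (hT : hst hK T = T) (hT0 : T ≠ 0) :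
    ∃ T1 ∈ horb hK D T, ∃ i, T1 i i ≠ 0 := by
  by_cases h : ∃ i, T i i ≠ 0
  · exact ⟨T, horb_self hK hD T, h⟩
  · push Not at h
    have : ∃ i j, T i j ≠ 0 := by
      by_contra hcon
      push Not at hcon
      apply hT0
      ext i j
      exact hcon i j
    obtain ⟨i, j, hij⟩ := this
    have hne : i ≠ j := by
      rintro rfl
      exact hij (h i)
    have hji : T j i ≠ 0 := by
      intro h0
      apply hij
      rw [herm_entry hK hT i j, h0, zero_pow (ls_q_pos hK).ne']
    obtain ⟨y0, hy0⟩ := ls_exists_trace_ne hK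
    refine ⟨transvection i j (y0 / T j i) * T * hst hK (transvection i j (y0 / T j i)),
      ⟨transvection i j (y0 / T j i), ?_, ?_, rfl⟩, i, ?_⟩
    · rw [det_transvection_of_ne i j hne]; exact one_ne_zero
    · rw [det_transvection_of_ne i j hne]; exact hD.one
    · rw [hst_transvection, mul_transvection_apply_same, transvection_mul_apply_same,
        transvection_mul_apply_same, h i, h j, mul_zero, add_zero, zero_add,
        herm_entry hK hT i j, ← mul_pow, div_mul_cancel₀ _ hji]
      exact hy0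

/-- After moving to an orbit element and relabelling, the corner entry at `i0` is non-zero. -/
theorem exists_corner_ne (hD : DetOK D) {T : Matrix ι ι K} (hT : hst hK T = T) (hT0 : T ≠ 0)
    (i0 : ι) :
    ∃ T' : Matrix ι ι K, hst hK T' = T' ∧ T' i0 i0 ≠ 0 ∧
      (horb hK D T').ncard ≤ (horb hK D T).ncard := by
  obtain ⟨T1, hT1, i, hi⟩ := exists_diag_ne hK hD hT hT0
  refine ⟨reindex (Equiv.swap i0 i) (Equiv.swap i0 i) T1, ?_, ?_, ?_⟩
  · rw [reindex_apply, hst_submatrix, horb_herm hK hT hT1]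
  · rw [reindex_apply, submatrix_apply]
    simpa using hi
  · rw [horb_reindex_ncard]
    exact horb_ncard_le hK hD hT1

end corner

section blockdiag

variable (hK : Fintype.card K = q ^ 2) {D : Set K} {ι : Type*} [Fintype ι] [DecidableEq ι]

/-- A Hermitian matrix with non-zero corner is in the orbit of a block-diagonal one. -/
theorem exists_blockdiag (hD : DetOK D) {T : Matrix (Unit ⊕ ι) (Unit ⊕ ι) K}
    (hT : hst hK T = T) {c : K} (hc : T (Sum.inl ()) (Sum.inl ()) = c) (hc0 : c ≠ 0) :
    c ^ q = c ∧ ∃ N : Matrix ι ι K, hst hK N = N ∧ fromBlocks (sc c) 0 0 N ∈ horb hK D T := by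
  have hcq : c ^ q = c := by
    rw [← hc]; exact (herm_entry hK hT _ _).symm
  refine ⟨hcq, ?_⟩
  have hdec := fromBlocks_toBlocks T
  have h11 : T.toBlocks₁₁ = sc c := by
    rw [eq_sc T.toBlocks₁₁]; congr 1
  have hT' := hT
  rw [← hdec, hst_fromBlocks, fromBlocks_inj] at hT'
  obtain ⟨_, h12, h21, h22⟩ := hT'
  refine ⟨T.toBlocks₂₂ - c⁻¹ • (T.toBlocks₂₁ * hst hK T.toBlocks₂₁), ?_, ?_⟩
  · have h1 : (c⁻¹) ^ q = c⁻¹ := by rw [inv_pow, hcq]
    rw [hst_sub, hst_smul, hst_mul, hst_hst, h22, h1]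
  · refine ⟨fromBlocks 1 0 (-(c⁻¹ • T.toBlocks₂₁)) 1, ?_, ?_, ?_⟩
    · rw [shear_det]; exact one_ne_zero
    · rw [shear_det]; exact hD.one
    · rw [← shear_down hK hc0 hcq, h12, ← h11, hdec]

end blockdiag

end Cfsg.Agent.LS3
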