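import Mathlib
import Cfsg.Agent.LS3.L_HermOrbC

set_option autoImplicit false

/-!
# LS3: orbits of Hermitian matrices — the rank one orbit (lead)
-/

namespace Cfsg.Agent.LS3

open Matrix

variable {K : Type*} [Field K] [Fintype K] [DecidableEq K] {q : ℕ}

section rankone

variable {D : Set K} {ι : Type*} [Fintype ι] [DecidableEq ι]

/-- the rank one Hermitian matrix `c • a a*`. -/
def r1 (q : ℕ) (c : K) (a : ι → K) : Matrix ι ι K := c • vecMulVec a (fun j => a j ^ q)

omit [Fintype K] [DecidableEq K] [Fintype ι] [DecidableEq ι] in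
theorem r1_apply (c : K) (a : ι → K) (i j : ι) : r1 q c a i j = c * (a i * a j ^ q) := by
  simp [r1, vecMulVec_apply]

omit [DecidableEq K] in
theorem r1_conj (hK : Fintype.card K = q ^ 2) (c : K) (i0 : ι) (C : Matrix ι ι K) :
    C * r1 q c (Pi.single i0 1) * hst hK C = r1 q c (C *ᵥ Pi.single i0 1) := by
  ext i j
  simp only [r1, Matrix.mul_smul, Matrix.smul_mul, mul_vecMulVec, vecMulVec_mul, Matrix.smul_apply,
    vecMulVec_apply, smul_eq_mul]
  congr 2
  simp only [vecMul, dotProduct, hst_apply, mulVec_single, mul_one]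
  rw [Finset.sum_eq_single i0]
  · simp
  · intro b _ hb
    simp [hb, (ls_q_pos hK).ne']
  · intro h; exact absurd (Finset.mem_univ _) h

omit [Fintype K] [DecidableEq K] in
/-- `GL` is transitive on non-zero vectors (explicit matrix). -/
theorem exists_mat_mulVec (i0 : ι) {a : ι → K} (ha : a ≠ 0) :
    ∃ C : Matrix ι ι K, C.det ≠ 0 ∧ C *ᵥ Pi.single i0 1 = a := by
  have key : ∀ b : ι → K, b i0 ≠ 0 →
      ∃ C : Matrix ι ι K, C.det = b i0 ∧ C *ᵥ Pi.single i0 1 = b := by
    intro b _
    refine ⟨(1 : Matrix ι ι K).updateCol i0 b, ?_, ?_⟩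
    · rw [← cramer_apply, cramer_one]; rfl
    · rw [mulVec_single_one]
      ext k
      simp
  by_cases h0 : a i0 ≠ 0
  · obtain ⟨C, hC, hCa⟩ := key a h0
    exact ⟨C, by rw [hC]; exact h0, hCa⟩
  · push Not at h0
    have : ∃ i1, a i1 ≠ 0 := by
      by_contra hcon
      push Not at hcon
      exact ha (funext hcon)
    obtain ⟨i1, hi1⟩ := this
    have hne : i0 ≠ i1 := by
      rintro rfl; exact hi1 h0
    obtain ⟨C', hC', hCa'⟩ := key (a + Pi.single i0 (1 : K)) (by simp [h0])
    refine ⟨transvection i0 i1 (-(a i1)⁻¹) * C', ?_, ?_⟩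
    · rw [det_mul, det_transvection_of_ne i0 i1 hne, hC']
      simp [h0]
    · have hcol : ∀ k, C' k i0 = a k + (Pi.single i0 (1 : K) : ι → K) k := by
        intro k
        have := congrFun hCa' k
        rw [mulVec_single_one] at this
        simpa using this
      rw [mulVec_single_one]
      ext k
      rw [col_apply]
      by_cases hk : k = i0
      · subst hk
        rw [transvection_mul_apply_same, hcol, hcol]
        simp [h0, hne.symm, hi1]
      · rw [transvection_mul_apply_of_ne _ _ _ _ hk, hcol]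
        simp [hk]

omit [Fintype K] [DecidableEq K] in
/-- With a second index available the matrix can be taken of determinant one. -/
theorem exists_mat_mulVec_det_one (i0 i1 : ι) (h01 : i1 ≠ i0) {a : ι → K} (ha : a ≠ 0) :
    ∃ C : Matrix ι ι K, C.det = 1 ∧ C *ᵥ Pi.single i0 1 = a := by
  obtain ⟨C0, hC0, hCa⟩ := exists_mat_mulVec i0 ha
  refine ⟨C0 * diagonal (Function.update (fun _ => (1 : K)) i1 (C0.det)⁻¹), ?_, ?_⟩
  · rw [det_mul, det_diagonal, Finset.prod_update_of_mem (Finset.mem_univ i1)]
    simp [mul_inv_cancel₀ hC0]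
  · rw [← Matrix.mulVec_mulVec, ← hCa]
    congr 1
    ext k
    simp only [mulVec_diagonal, Pi.single_apply]
    by_cases hk : k = i0
    · subst hk
      simp [Function.update_of_ne h01.symm]
    · simp [hk]

omit [DecidableEq K] in
theorem r1_eq_imp (hK : Fintype.card K = q ^ 2) {c : K} (hc : c ≠ 0) {a b : ι → K} (hb : b ≠ 0) (h : r1 q c a = r1 q c b) :
    ∃ t : K, t ^ (q + 1) = 1 ∧ a = t • b := by
  have hq := ls_q_pos hK
  have h1 : ∀ i j, a i * a j ^ q = b i * b j ^ q := by
    intro i j
    have := congrFun (congrFun h i) j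
    rw [r1_apply, r1_apply] at this
    exact mul_left_cancel₀ hc this
  have : ∃ j0, b j0 ≠ 0 := by
    by_contra hcon
    push Not at hcon
    exact hb (funext hcon)
  obtain ⟨j0, hj0⟩ := this
  have hbb : b j0 * b j0 ^ q ≠ 0 := mul_ne_zero hj0 (pow_ne_zero _ hj0)
  have haj0 : a j0 ≠ 0 := by
    intro h0
    have := h1 j0 j0
    rw [h0, zero_mul] at this
    exact hbb this.symm
  have haq : a j0 ^ q ≠ 0 := pow_ne_zero _ haj0
  refine ⟨b j0 ^ q / a j0 ^ q, ?_, ?_⟩
  · have h2 := h1 j0 j0
    rw [pow_succ, div_pow]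
    have h4 : (b j0 ^ q) ^ q = b j0 := by
      rw [← pow_mul, ← sq, ← hK, FiniteField.pow_card]
    have h5 : (a j0 ^ q) ^ q = a j0 := by
      rw [← pow_mul, ← sq, ← hK, FiniteField.pow_card]
    rw [h4, h5, div_mul_div_comm, div_eq_one_iff_eq (mul_ne_zero haj0 haq)]
    exact h2.symm
  · ext i
    have h2 := h1 i j0
    simp only [Pi.smul_apply, smul_eq_mul]
    rw [div_mul_eq_mul_div, eq_div_iff haq, mul_comm (b j0 ^ q)]
    exact h2

/-- The rank one orbit has at least `(q^(2n) - 1)/(q+1)` elements. -/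
theorem r1_count (hK : Fintype.card K = q ^ 2) {c : K} (hc : c ≠ 0) :
    q ^ (2 * Fintype.card ι) ≤
      (q + 1) * ((fun a : ι → K => r1 q c a) '' {a | a ≠ 0}).ncard + 1 := by
  classical
  have hcard : (Finset.univ.filter (fun a : ι → K => a ≠ 0)).card + 1
      = q ^ (2 * Fintype.card ι) := by
    rw [Finset.filter_ne' Finset.univ (0 : ι → K), Finset.card_erase_of_mem (Finset.mem_univ _),
      Finset.card_univ, Fintype.card_fun, hK, ← pow_mul]
    have : 0 < q ^ (2 * Fintype.card ι) := pow_pos (ls_q_pos hK) _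
    omega
  have hle := Finset.card_le_mul_card_image (f := fun a : ι → K => r1 q c a)
    (Finset.univ.filter (fun a : ι → K => a ≠ 0)) (q + 1) (by
      intro M hM
      rw [Finset.mem_image] at hM
      obtain ⟨b, hb, rfl⟩ := hM
      rw [Finset.mem_filter] at hb
      calc (Finset.filter (fun a => r1 q c a = r1 q c b)
              (Finset.univ.filter (fun a : ι → K => a ≠ 0))).card
          ≤ ((Finset.univ.filter (fun t : K => t ^ (q + 1) = 1)).image (fun t => t • b)).card := by
            apply Finset.card_le_card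
            intro a ha
            rw [Finset.mem_filter] at ha
            obtain ⟨t, ht, rfl⟩ := r1_eq_imp hK hc hb.2 ha.2
            rw [Finset.mem_image]
            exact ⟨t, by simp [ht], rfl⟩
        _ ≤ (Finset.univ.filter (fun t : K => t ^ (q + 1) = 1)).card := Finset.card_image_le
        _ ≤ q + 1 := ls_norm_fibre 1)
  have himg : ((fun a : ι → K => r1 q c a) '' {a | a ≠ 0}).ncard
      = ((Finset.univ.filter (fun a : ι → K => a ≠ 0)).image (fun a : ι → K => r1 q c a)).card := by
    rw [← Set.ncard_coe_finset]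
    congr 1
    ext M
    simp
  rw [himg]
  omega

end rankone

end Cfsg.Agent.LS3
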