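import Mathlib
import Cfsg.Agent.LS3.L_HermOrbD

set_option autoImplicit false

/-!
# LS3: orbits of Hermitian matrices — the injective family over a block-diagonal matrix (lead)
-/

namespace Cfsg.Agent.LS3

open Matrix

variable {K : Type*} [Field K] [Fintype K] [DecidableEq K] {q : ℕ}

/-- Number of `t` with `t ^ e = a` is at most `e` (`e ≥ 1`). -/
theorem ls_pow_fibre (e : ℕ) (he : 0 < e) (a : K) :
    (Finset.univ.filter (fun t : K => t ^ e = a)).card ≤ e := by
  classical
  have hp : (Polynomial.X ^ e - Polynomial.C a : Polynomial K) ≠ 0 :=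
    Polynomial.X_pow_sub_C_ne_zero he a
  have hdeg : (Polynomial.X ^ e - Polynomial.C a : Polynomial K).natDegree = e :=
    Polynomial.natDegree_X_pow_sub_C
  calc (Finset.univ.filter (fun t : K => t ^ e = a)).card
      ≤ ((Polynomial.X ^ e - Polynomial.C a : Polynomial K).roots.toFinset).card := by
        apply Finset.card_le_card
        intro t ht
        rw [Finset.mem_filter] at ht
        rw [Multiset.mem_toFinset, Polynomial.mem_roots hp]
        simp [ht.2]
    _ ≤ Multiset.card (Polynomial.X ^ e - Polynomial.C a : Polynomial K).roots :=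
        Multiset.toFinset_card_le _
    _ ≤ e := by
        have := Polynomial.card_roots' (Polynomial.X ^ e - Polynomial.C a : Polynomial K)
        rwa [hdeg] at this

section family

variable {D : Set K} {ι : Type*} [Fintype ι] [DecidableEq ι]

/-- The family element with corner `c'`, first column `τ` and Schur complement `N'`. -/
noncomputable def fam (hK : Fintype.card K = q ^ 2) (c' : K) (τ : Matrix ι Unit K)
    (N' : Matrix ι ι K) : Matrix (Unit ⊕ ι) (Unit ⊕ ι) K :=
  fromBlocks (sc c') (hst hK τ) τ (N' + c'⁻¹ • (τ * hst hK τ))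

omit [DecidableEq K] [Fintype ι] [DecidableEq ι] in
theorem fam_corner (hK : Fintype.card K = q ^ 2) (c' : K) (τ : Matrix ι Unit K)
    (N' : Matrix ι ι K) : fam hK c' τ N' (Sum.inl ()) (Sum.inl ()) = c' := by
  simp [fam, sc_apply]

omit [DecidableEq K] [DecidableEq ι] in
theorem fam_injective (hK : Fintype.card K = q ^ 2) :
    Function.Injective
      (fun p : (K × Matrix ι ι K) × Matrix ι Unit K => fam hK p.1.1 p.2 p.1.2) := by
  rintro ⟨⟨c1, N1⟩, τ1⟩ ⟨⟨c2, N2⟩, τ2⟩ h
  simp only [fam, fromBlocks_inj] at h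
  obtain ⟨h1, _, h3, h4⟩ := h
  have hc : c1 = c2 := sc_injective h1
  subst hc
  subst h3
  have hN : N1 = N2 := add_right_cancel h4
  subst hN
  rfl

omit [DecidableEq K] in
theorem pow_q_q (hK : Fintype.card K = q ^ 2) (t : K) : (t ^ q) ^ q = t := by
  rw [← pow_mul, ← sq, ← hK, FiniteField.pow_card]

omit [DecidableEq K] in
theorem fam_mem (hK : Fintype.card K = q ^ 2) {c : K} (hc0 : c ≠ 0) (hcq : c ^ q = c)
    (N : Matrix ι ι K) {t : K} (ht : t ≠ 0) {h : Matrix ι ι K} (hh : h.det ≠ 0)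
    (hD' : t * h.det ∈ D) (τ : Matrix ι Unit K) :
    fam hK (t * c * t ^ q) τ (h * N * hst hK h) ∈ horb hK D (fromBlocks (sc c) 0 0 N) := by
  have hc'0 : t * c * t ^ q ≠ 0 := mul_ne_zero (mul_ne_zero ht hc0) (pow_ne_zero _ ht)
  have hc'q : (t * c * t ^ q) ^ q = t * c * t ^ q := by
    rw [mul_pow, mul_pow, hcq, pow_q_q hK]; ring
  refine ⟨fromBlocks 1 0 ((t * c * t ^ q)⁻¹ • τ) 1 * fromBlocks (sc t) 0 0 h, ?_, ?_, ?_⟩
  · rw [det_mul, shear_det, one_mul, det_fromBlocks_zero₁₂, sc_det]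
    exact mul_ne_zero ht hh
  · rw [det_mul, shear_det, one_mul, det_fromBlocks_zero₁₂, sc_det]
    exact hD'
  · have hG : fromBlocks (sc t) 0 0 h * fromBlocks (sc c) 0 0 N
        * hst hK (fromBlocks (sc t) (0 : Matrix Unit ι K) (0 : Matrix ι Unit K) h)
        = fromBlocks (sc (t * c * t ^ q)) 0 0 (h * N * hst hK h) := by
      rw [hst_fromBlocks, hst_zero, hst_zero, hst_sc, fromBlocks_multiply, fromBlocks_multiply]
      simp only [Matrix.zero_mul, Matrix.mul_zero, add_zero, zero_add, sc_mul_sc]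
    rw [hst_mul]
    have : fromBlocks 1 0 ((t * c * t ^ q)⁻¹ • τ) 1 * fromBlocks (sc t) 0 0 h
          * fromBlocks (sc c) 0 0 N
          * (hst hK (fromBlocks (sc t) (0 : Matrix Unit ι K) (0 : Matrix ι Unit K) h)
            * hst hK (fromBlocks (1 : Matrix Unit Unit K) 0 ((t * c * t ^ q)⁻¹ • τ) 1))
        = fromBlocks 1 0 ((t * c * t ^ q)⁻¹ • τ) 1
          * (fromBlocks (sc t) 0 0 h * fromBlocks (sc c) 0 0 N
            * hst hK (fromBlocks (sc t) (0 : Matrix Unit ι K) (0 : Matrix ι Unit K) h))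
          * hst hK (fromBlocks (1 : Matrix Unit Unit K) 0 ((t * c * t ^ q)⁻¹ • τ) 1) := by
      simp only [Matrix.mul_assoc]
    rw [this, hG, shear_up hK hc'0 hc'q]
    rfl

/-- The set of admissible (corner, Schur complement) pairs. -/
def Yset (hK : Fintype.card K = q ^ 2) (D : Set K) (c : K) (N : Matrix ι ι K) :
    Set (K × Matrix ι ι K) :=
  {p | ∃ (t : K) (h : Matrix ι ι K), t ≠ 0 ∧ h.det ≠ 0 ∧ t * h.det ∈ D ∧
      p.1 = t * c * t ^ q ∧ p.2 = h * N * hst hK h}

omit [DecidableEq K] in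
theorem fam_count (hK : Fintype.card K = q ^ 2) {c : K} (hc0 : c ≠ 0) (hcq : c ^ q = c)
    (N : Matrix ι ι K) :
    (Yset hK D c N).ncard * q ^ (2 * Fintype.card ι)
      ≤ (horb hK D (fromBlocks (sc c) 0 0 N)).ncard := by
  classical
  have hsub : (fun p : (K × Matrix ι ι K) × Matrix ι Unit K => fam hK p.1.1 p.2 p.1.2) ''
      (Yset hK D c N ×ˢ (Set.univ : Set (Matrix ι Unit K)))
      ⊆ horb hK D (fromBlocks (sc c) 0 0 N) := by
    rintro M ⟨⟨⟨c', N'⟩, τ⟩, ⟨hY, _⟩, rfl⟩
    obtain ⟨t, h, ht, hh, hD', h1, h2⟩ := hY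
    simp only at h1 h2 ⊢
    rw [h1, h2]
    exact fam_mem hK hc0 hcq N ht hh hD' τ
  have h1 := Set.ncard_le_ncard hsub (Set.toFinite _)
  rw [Set.ncard_image_of_injective _ (fam_injective hK), Set.ncard_prod, Set.ncard_univ] at h1
  have h2 : Nat.card (Matrix ι Unit K) = q ^ (2 * Fintype.card ι) := by
    rw [Nat.card_eq_fintype_card]
    have : Fintype.card (Matrix ι Unit K) = Fintype.card (ι → Unit → K) := rfl
    rw [this, Fintype.card_fun, Fintype.card_fun, hK, ← pow_mul, ← pow_mul]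
    simp
  rwa [h2] at h1

omit [DecidableEq K] in
/-- every element of the family has a non-zero corner. -/
theorem Yset_corner_ne (hK : Fintype.card K = q ^ 2) {c : K} (hc0 : c ≠ 0) {N : Matrix ι ι K}
    {p : K × Matrix ι ι K} (hp : p ∈ Yset hK D c N) : p.1 ≠ 0 := by
  obtain ⟨t, h, ht, _, _, h1, _⟩ := hp
  rw [h1]
  exact mul_ne_zero (mul_ne_zero ht hc0) (pow_ne_zero _ ht)

end family

end Cfsg.Agent.LS3
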