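import Mathlib
import Cfsg.Agent.LS3.L_HermOrbE

set_option autoImplicit false

/-!
# LS3: orbits of Hermitian matrices — counting the admissible pairs (lead)
-/

namespace Cfsg.Agent.LS3

open Matrix

variable {K : Type*} [Field K] [Fintype K] [DecidableEq K] {q : ℕ}

/-- fibrewise counting: if every fibre over `B0` has at least `k/2` elements then
`k * |B0| ≤ 2 * |Y|`. -/
theorem fibre_count {A B : Type*} [DecidableEq A] [DecidableEq B] (Y : Finset (A × B))
    (B0 : Finset B) (k : ℕ)
    (hk : ∀ b ∈ B0, k ≤ 2 * (Y.filter (fun p => p.2 = b)).card) :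
    k * B0.card ≤ 2 * Y.card := by
  have h1 : ∑ b ∈ B0, (Y.filter (fun p => p.2 = b)).card ≤ Y.card := by
    rw [← Finset.card_biUnion]
    · apply Finset.card_le_card
      intro p hp
      rw [Finset.mem_biUnion] at hp
      obtain ⟨b, _, hp⟩ := hp
      exact (Finset.mem_filter.mp hp).1
    · intro b1 _ b2 _ hne
      rw [Function.onFun, Finset.disjoint_left]
      intro p hp1 hp2
      exact hne ((Finset.mem_filter.mp hp1).2.symm.trans (Finset.mem_filter.mp hp2).2)
  calc k * B0.card = ∑ _b ∈ B0, k := by rw [Finset.sum_const, smul_eq_mul, mul_comm]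
    _ ≤ ∑ b ∈ B0, 2 * (Y.filter (fun p => p.2 = b)).card := Finset.sum_le_sum hk
    _ = 2 * ∑ b ∈ B0, (Y.filter (fun p => p.2 = b)).card := (Finset.mul_sum _ _ _).symm
    _ ≤ 2 * Y.card := Nat.mul_le_mul_left 2 h1

section count

variable {ι : Type*} [Fintype ι] [DecidableEq ι]

omit [DecidableEq K] in
/-- Setwise form of `fibre_count`. -/
theorem fibre_count_set {A B : Type*} [Finite A] [Finite B] (Y : Set (A × B)) (B0 : Set B) (k : ℕ)
    (hk : ∀ b ∈ B0, ∃ S : Set A, k ≤ 2 * S.ncard ∧ ∀ a ∈ S, (a, b) ∈ Y) :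
    k * B0.ncard ≤ 2 * Y.ncard := by
  classical
  haveI := Fintype.ofFinite A
  haveI := Fintype.ofFinite B
  have h := fibre_count Y.toFinset B0.toFinset k (by
    intro b hb
    rw [Set.mem_toFinset] at hb
    obtain ⟨S, hS, hSY⟩ := hk b hb
    refine le_trans hS (Nat.mul_le_mul_left 2 ?_)
    rw [Set.ncard_eq_toFinset_card']
    apply Finset.card_le_card_of_injOn (fun a => (a, b))
    · intro a ha
      rw [Finset.mem_coe, Set.mem_toFinset] at ha
      rw [Finset.mem_coe, Finset.mem_filter, Set.mem_toFinset]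
      exact ⟨hSY a ha, rfl⟩
    · intro a1 _ a2 _ h12
      exact (Prod.mk.inj h12).1)
  rwa [← Set.ncard_eq_toFinset_card', ← Set.ncard_eq_toFinset_card'] at h

omit [DecidableEq K] in
/-- the set of corners `t c t^q`, `t ≠ 0`, has at least `q - 1` elements. -/
theorem corner_count (hK : Fintype.card K = q ^ 2) {c : K} (hc0 : c ≠ 0) :
    q - 1 ≤ ((fun t : K => t * c * t ^ q) '' {t | t ≠ 0}).ncard := by
  classical
  have hq := ls_two_le_q hK
  have hcard : (Finset.univ.filter (fun t : K => t ≠ 0)).card = q ^ 2 - 1 := by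
    rw [Finset.filter_ne' Finset.univ (0 : K), Finset.card_erase_of_mem (Finset.mem_univ _),
      Finset.card_univ, hK]
  have hle := Finset.card_le_mul_card_image (f := fun t : K => t * c * t ^ q)
    (Finset.univ.filter (fun t : K => t ≠ 0)) (q + 1) (by
      intro b _
      calc (Finset.filter (fun t => t * c * t ^ q = b)
              (Finset.univ.filter (fun t : K => t ≠ 0))).card
          ≤ (Finset.univ.filter (fun t : K => t ^ (q + 1) = b / c)).card := by
            apply Finset.card_le_card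
            intro t ht
            rw [Finset.mem_filter] at ht
            rw [Finset.mem_filter]
            refine ⟨Finset.mem_univ _, ?_⟩
            rw [eq_div_iff hc0, ← ht.2, pow_succ]; ring
        _ ≤ q + 1 := ls_norm_fibre _)
  have himg : ((fun t : K => t * c * t ^ q) '' {t | t ≠ 0}).ncard
      = ((Finset.univ.filter (fun t : K => t ≠ 0)).image (fun t : K => t * c * t ^ q)).card := by
    rw [← Set.ncard_coe_finset]
    congr 1
    ext M
    simp
  rw [himg]
  rw [hcard] at hle
  have h2 : q ^ 2 - 1 = (q + 1) * (q - 1) := by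
    obtain ⟨s, rfl⟩ : ∃ s, q = s + 1 := ⟨q - 1, by omega⟩
    simp only [Nat.add_sub_cancel]
    have : (s + 1) ^ 2 = (s + 1 + 1) * s + 1 := by ring
    omega
  rw [h2] at hle
  exact Nat.le_of_mul_le_mul_left hle (by omega)

omit [DecidableEq K] in
/-- `GL`: at least `(q-1) * |orbit of N|` admissible pairs. -/
theorem Yset_count_univ (hK : Fintype.card K = q ^ 2) {c : K} (hc0 : c ≠ 0) (N : Matrix ι ι K) :
    (q - 1) * (horb hK Set.univ N).ncard ≤ (Yset hK Set.univ c N).ncard := by
  have hsub : ((fun t : K => t * c * t ^ q) '' {t | t ≠ 0}) ×ˢ (horb hK Set.univ N)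
      ⊆ Yset hK Set.univ c N := by
    rintro ⟨c', N'⟩ ⟨⟨t, ht, rfl⟩, ⟨h, hh, _, rfl⟩⟩
    exact ⟨t, h, ht, hh, Set.mem_univ _, rfl, rfl⟩
  have h1 := Set.ncard_le_ncard hsub (Set.toFinite _)
  rw [Set.ncard_prod] at h1
  exact le_trans (Nat.mul_le_mul_right _ (corner_count hK hc0)) h1

omit [DecidableEq K] in
/-- determinant in the fixed field: at least `(q-1)/2 * |GL-orbit of N|` admissible pairs. -/
theorem Yset_count_fix (hK : Fintype.card K = q ^ 2) {c : K} (hc0 : c ≠ 0) (N : Matrix ι ι K) :
    (q - 1) * (horb hK Set.univ N).ncard ≤ 2 * (Yset hK {d : K | d ^ q = d} c N).ncard := by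
  classical
  have hq := ls_two_le_q hK
  apply fibre_count_set
  rintro N' ⟨h, hh, _, rfl⟩
  refine ⟨(fun r : K => (r ^ (q + 1) / h.det) * c * (r ^ (q + 1) / h.det) ^ q) '' {r | r ≠ 0}, ?_, ?_⟩
  · -- count
    have hcard : (Finset.univ.filter (fun t : K => t ≠ 0)).card = q ^ 2 - 1 := by
      rw [Finset.filter_ne' Finset.univ (0 : K), Finset.card_erase_of_mem (Finset.mem_univ _),
        Finset.card_univ, hK]
    have hrq : ∀ r : K, (r ^ (q + 1)) ^ q = r ^ (q + 1) := by
      intro r
      rw [← pow_mul, add_mul, one_mul, ← sq, pow_add, ← hK, FiniteField.pow_card, pow_succ, mul_comm]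
    have hdq : h.det ^ q ≠ 0 := pow_ne_zero _ hh
    have hform : ∀ r : K, (r ^ (q + 1) / h.det) * c * (r ^ (q + 1) / h.det) ^ q
        = c / (h.det * h.det ^ q) * r ^ (2 * (q + 1)) := by
      intro r
      rw [div_pow, hrq]
      field_simp
      ring
    have hle := Finset.card_le_mul_card_image
      (f := fun r : K => (r ^ (q + 1) / h.det) * c * (r ^ (q + 1) / h.det) ^ q)
      (Finset.univ.filter (fun t : K => t ≠ 0)) (2 * (q + 1)) (by
        intro b _
        calc (Finset.filter (fun r => (r ^ (q + 1) / h.det) * c * (r ^ (q + 1) / h.det) ^ q = b)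
                (Finset.univ.filter (fun t : K => t ≠ 0))).card
            ≤ (Finset.univ.filter (fun r : K => r ^ (2 * (q + 1))
                = b / (c / (h.det * h.det ^ q)))).card := by
              apply Finset.card_le_card
              intro r hr
              rw [Finset.mem_filter] at hr
              rw [Finset.mem_filter]
              refine ⟨Finset.mem_univ _, ?_⟩
              rw [eq_div_iff (div_ne_zero hc0 (mul_ne_zero hh hdq)), ← hr.2, hform, mul_comm]
          _ ≤ 2 * (q + 1) := ls_pow_fibre _ (by omega) _)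
    have himg : ((fun r : K => (r ^ (q + 1) / h.det) * c * (r ^ (q + 1) / h.det) ^ q) ''
          {r | r ≠ 0}).ncard
        = ((Finset.univ.filter (fun t : K => t ≠ 0)).image
            (fun r : K => (r ^ (q + 1) / h.det) * c * (r ^ (q + 1) / h.det) ^ q)).card := by
      rw [← Set.ncard_coe_finset]
      congr 1
      ext M
      simp
    rw [himg]
    rw [hcard] at hle
    have h2 : q ^ 2 - 1 = (q + 1) * (q - 1) := by
      obtain ⟨s, rfl⟩ : ∃ s, q = s + 1 := ⟨q - 1, by omega⟩
      simp only [Nat.add_sub_cancel]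
      have : (s + 1) ^ 2 = (s + 1 + 1) * s + 1 := by ring
      omega
    rw [h2] at hle
    have hle' : (q + 1) * (q - 1) ≤ (q + 1) * (2 * ((Finset.univ.filter (fun t : K => t ≠ 0)).image
        (fun r : K => (r ^ (q + 1) / h.det) * c * (r ^ (q + 1) / h.det) ^ q)).card) := by
      calc (q + 1) * (q - 1) ≤ _ := hle
        _ = _ := by ring
    exact Nat.le_of_mul_le_mul_left hle' (by omega)
  · rintro c' ⟨r, hr, rfl⟩
    have hr' : r ^ (q + 1) ≠ 0 := pow_ne_zero _ hr
    refine ⟨r ^ (q + 1) / h.det, h, div_ne_zero hr' hh, hh, ?_, rfl, rfl⟩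
    rw [div_mul_cancel₀ _ hh]
    show (r ^ (q + 1)) ^ q = r ^ (q + 1)
    rw [← pow_mul, add_mul, one_mul, ← sq, pow_add, ← hK, FiniteField.pow_card, pow_succ, mul_comm]

end count

end Cfsg.Agent.LS3
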