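import Mathlib
import Cfsg.Agent.LS3.L_HermOrbF

set_option autoImplicit false

/-!
# LS3: orbits of Hermitian matrices — the induction step (lead)
-/

namespace Cfsg.Agent.LS3

open Matrix

variable {K : Type*} [Field K] [Fintype K] [DecidableEq K] {q : ℕ}

section step

variable {D : Set K} {ι : Type*} [Fintype ι] [DecidableEq ι]

theorem blockdiag_zero_eq_r1 (hK : Fintype.card K = q ^ 2) (c : K) :
    (fromBlocks (sc c) 0 0 (0 : Matrix ι ι K))
      = r1 q c (Pi.single (Sum.inl ()) (1 : K) : Unit ⊕ ι → K) := by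
  have hq := (ls_q_pos hK).ne'
  ext i j
  rcases i with i | i <;> rcases j with j | j <;>
    simp [r1_apply, sc_apply, hq]

/-- rank one case: `N = 0`. -/
theorem step_rank_one (hK : Fintype.card K = q ^ 2) (m : ℕ) (hm : Fintype.card ι = m) {c : K}
    (hc0 : c ≠ 0)
    (hC : ∀ a : Unit ⊕ ι → K, a ≠ 0 → ∃ C : Matrix (Unit ⊕ ι) (Unit ⊕ ι) K,
      C.det ≠ 0 ∧ C.det ∈ D ∧ C *ᵥ Pi.single (Sum.inl ()) 1 = a) :
    q ^ (2 * (m + 1)) ≤
      (q + 1) * (horb hK D (fromBlocks (sc c) 0 0 (0 : Matrix ι ι K))).ncard + 1 := by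
  have hsub : (fun a : Unit ⊕ ι → K => r1 q c a) '' {a | a ≠ 0}
      ⊆ horb hK D (fromBlocks (sc c) 0 0 (0 : Matrix ι ι K)) := by
    rintro M ⟨a, ha, rfl⟩
    obtain ⟨C, hC0, hCD, hCa⟩ := hC a ha
    refine ⟨C, hC0, hCD, ?_⟩
    rw [blockdiag_zero_eq_r1 hK, r1_conj hK, hCa]
  have h1 := Set.ncard_le_ncard hsub (Set.toFinite _)
  have h2 := r1_count (ι := Unit ⊕ ι) hK hc0
  have h3 : Fintype.card (Unit ⊕ ι) = m + 1 := by
    rw [Fintype.card_sum, hm, Fintype.card_unit, add_comm]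
  rw [h3] at h2
  calc q ^ (2 * (m + 1)) ≤ _ := h2
    _ ≤ _ := by
      have := Nat.mul_le_mul_left (q + 1) h1
      omega

/-- an orbit element with zero corner forces one more element than the family. -/
theorem fam_count_succ (hK : Fintype.card K = q ^ 2) {c : K} (hc0 : c ≠ 0) (hcq : c ^ q = c)
    (N : Matrix ι ι K) {M : Matrix (Unit ⊕ ι) (Unit ⊕ ι) K}
    (hM : M ∈ horb hK D (fromBlocks (sc c) 0 0 N)) (hM0 : M (Sum.inl ()) (Sum.inl ()) = 0) :
    (Yset hK D c N).ncard * q ^ (2 * Fintype.card ι) + 1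
      ≤ (horb hK D (fromBlocks (sc c) 0 0 N)).ncard := by
  classical
  have hsub : insert M ((fun p : (K × Matrix ι ι K) × Matrix ι Unit K => fam hK p.1.1 p.2 p.1.2) ''
      (Yset hK D c N ×ˢ (Set.univ : Set (Matrix ι Unit K))))
      ⊆ horb hK D (fromBlocks (sc c) 0 0 N) := by
    intro M' hM'
    rcases Set.mem_insert_iff.mp hM' with rfl | hM'
    · exact hM
    · obtain ⟨⟨⟨c', N'⟩, τ⟩, ⟨hY, _⟩, rfl⟩ := hM'
      obtain ⟨t, h, ht, hh, hD', h1, h2⟩ := hY
      simp only at h1 h2 ⊢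
      rw [h1, h2]
      exact fam_mem hK hc0 hcq N ht hh hD' τ
  have hnot : M ∉ ((fun p : (K × Matrix ι ι K) × Matrix ι Unit K => fam hK p.1.1 p.2 p.1.2) ''
      (Yset hK D c N ×ˢ (Set.univ : Set (Matrix ι Unit K)))) := by
    rintro ⟨⟨⟨c', N'⟩, τ⟩, ⟨hY, _⟩, rfl⟩
    simp only [fam_corner] at hM0
    exact Yset_corner_ne hK hc0 hY hM0
  have h1 := Set.ncard_le_ncard hsub (Set.toFinite _)
  rw [Set.ncard_insert_of_notMem hnot (Set.toFinite _),
    Set.ncard_image_of_injective _ (fam_injective hK), Set.ncard_prod, Set.ncard_univ] at h1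
  have h2 : Nat.card (Matrix ι Unit K) = q ^ (2 * Fintype.card ι) := by
    rw [Nat.card_eq_fintype_card]
    have : Fintype.card (Matrix ι Unit K) = Fintype.card (ι → Unit → K) := rfl
    rw [this, Fintype.card_fun, Fintype.card_fun, hK, ← pow_mul, ← pow_mul]
    simp
  rwa [h2] at h1

/-- the patch: `q = 2`, one extra coordinate. -/
theorem patch_two (hK : Fintype.card K = q ^ 2) (hq2 : q = 2) (hι : Fintype.card ι = 1) {c : K}
    (hc0 : c ≠ 0) (hcq : c ^ q = c) {N : Matrix ι ι K} (hN : hst hK N = N) (hN0 : N ≠ 0)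
    (hD : DetOK D) :
    ∃ M ∈ horb hK D (fromBlocks (sc c) 0 0 N), M (Sum.inl ()) (Sum.inl ()) = 0 := by
  subst hq2
  obtain ⟨i1, hi1⟩ := Fintype.card_eq_one_iff.mp hι
  have hc1 : c = 1 := by
    have : c * c = c * 1 := by rw [mul_one, ← sq]; exact hcq
    exact mul_left_cancel₀ hc0 this
  have hν0 : N i1 i1 ≠ 0 := by
    intro h0
    apply hN0
    ext i j
    rw [hi1 i, hi1 j, h0]; rfl
  have hν1 : N i1 i1 = 1 := by
    have h1 := herm_entry hK hN i1 i1
    have : N i1 i1 * N i1 i1 = N i1 i1 * 1 := by rw [mul_one, ← sq]; exact h1.symm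
    exact mul_left_cancel₀ hν0 this
  have h2 : (1 : K) + 1 = 0 := by
    obtain ⟨p, k, hp, hc, hpk⟩ := ls_exists_char_pow hK
    have hp2 : p = 2 := by
      have : p ∣ 2 := by
        rw [hpk]
        rcases Nat.eq_zero_or_pos k with hk | hk
        · subst hk; simp at hpk
        · exact dvd_pow_self p hk.ne'
      exact (Nat.prime_dvd_prime_iff_eq hp Nat.prime_two).mp this
    subst hp2
    have := CharP.cast_eq_zero K 2
    rw [one_add_one_eq_two]
    exact_mod_cast this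
  let ρ : Matrix Unit ι K := fun _ _ => 1
  refine ⟨fromBlocks 1 ρ 0 1 * fromBlocks (sc c) 0 0 N
      * hst hK (fromBlocks (1 : Matrix Unit Unit K) ρ 0 (1 : Matrix ι ι K)),
    ⟨fromBlocks 1 ρ 0 1, ?_, ?_, rfl⟩, ?_⟩
  · rw [det_fromBlocks_zero₂₁, det_one, det_one, mul_one]; exact one_ne_zero
  · rw [det_fromBlocks_zero₂₁, det_one, det_one, mul_one]; exact hD.one
  · rw [hst_fromBlocks, hst_one, hst_one, hst_zero, fromBlocks_multiply, fromBlocks_multiply]
    simp only [Matrix.one_mul, Matrix.zero_mul, Matrix.mul_one, Matrix.mul_zero, add_zero, zero_add,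
      fromBlocks_apply₁₁, Matrix.add_apply, sc_apply]
    have huniv : (Finset.univ : Finset ι) = {i1} := by
      ext i; simp [hi1 i]
    rw [Matrix.mul_apply, huniv, Finset.sum_singleton, Matrix.mul_apply, huniv,
      Finset.sum_singleton, hst_apply, hν1, hc1]
    simp [ρ, h2]

end step

end Cfsg.Agent.LS3
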