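import Mathlib
import Cfsg.Agent.LS3.L_HermOrbG

set_option autoImplicit false

/-!
# LS3: lower bounds for the orbits of Hermitian matrices under `T ↦ C T C*` (lead)

`l_herm_orbit`: every non-zero Hermitian `m × m` matrix over the field with `q²` elements has at
least `(q^(2m) - 1)/(q + 1)` matrices in its `GL_m`-orbit; `l_herm_orbit_det`: the same for the
subgroup of matrices with determinant in the fixed field, `m ≥ 2`, `(m, q) ≠ (2,2), (2,3)`.
-/

namespace Cfsg.Agent.LS3

open Matrix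

variable {K : Type*} [Field K] [Fintype K] [DecidableEq K] {q : ℕ}

section steps

variable {ι : Type*} [Fintype ι] [DecidableEq ι]

theorem step_GL (hK : Fintype.card K = q ^ 2) (m : ℕ) (hm : Fintype.card ι = m)
    (IH : ∀ N : Matrix ι ι K, hst hK N = N → N ≠ 0 →
      q ^ (2 * m) ≤ (q + 1) * (horb hK Set.univ N).ncard + 1)
    (T : Matrix (Unit ⊕ ι) (Unit ⊕ ι) K) (hT : hst hK T = T) (hT0 : T ≠ 0) :
    q ^ (2 * (m + 1)) ≤ (q + 1) * (horb hK Set.univ T).ncard + 1 := by
  obtain ⟨T', hT', hc0, hle⟩ := exists_corner_ne hK detOK_univ hT hT0 (Sum.inl ())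
  obtain ⟨hcq, N, hN, hmem⟩ := exists_blockdiag hK detOK_univ hT' rfl hc0
  have hle2 := horb_ncard_le hK detOK_univ hmem
  suffices h : q ^ (2 * (m + 1)) ≤ (q + 1) *
      (horb hK Set.univ (fromBlocks (sc (T' (Sum.inl ()) (Sum.inl ()))) 0 0 N)).ncard + 1 by
    have := Nat.mul_le_mul_left (q + 1) (le_trans hle2 hle)
    omega
  by_cases hN0 : N = 0
  · subst hN0
    refine step_rank_one hK m hm hc0 ?_
    intro a ha
    obtain ⟨C, hC, hCa⟩ := exists_mat_mulVec (Sum.inl ()) ha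
    exact ⟨C, hC, Set.mem_univ _, hCa⟩
  · have hx1 : 1 ≤ (horb hK Set.univ N).ncard := by
      exact (Set.ncard_pos (Set.toFinite _)).mpr ⟨N, horb_self hK detOK_univ N⟩
    have hIH := IH N hN hN0
    have hy := Yset_count_univ hK hc0 N
    have hz := fam_count (D := Set.univ) hK hc0 hcq N
    rw [hm] at hz
    have hq := ls_two_le_q hK
    obtain ⟨s, rfl⟩ : ∃ s, q = s + 2 := ⟨q - 2, by omega⟩
    have hm1 : 1 ≤ m := by
      rw [← hm, Nat.one_le_iff_ne_zero]
      intro h0
      haveI : IsEmpty ι := Fintype.card_eq_zero_iff.mp h0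
      apply hN0
      ext i
      exact isEmptyElim i
    set x := (horb hK Set.univ N).ncard with hx
    set y := (Yset hK Set.univ (T' (Sum.inl ()) (Sum.inl ())) N).ncard with hy'
    set z := (horb hK Set.univ
      (fromBlocks (sc (T' (Sum.inl ()) (Sum.inl ()))) 0 0 N)).ncard with hz'
    set P := (s + 2) ^ (2 * m) with hP
    have hpow : (s + 2) ^ (2 * (m + 1)) = (s + 2) ^ 2 * P := by
      rw [hP, ← pow_add]; congr 1; ring
    have hs1 : s + 2 - 1 = s + 1 := by omega
    rw [hs1] at hy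
    rw [hpow]
    by_cases hx2 : 2 ≤ x
    · have h1 : 2 * (s + 1) * P ≤ y * P := by
        apply Nat.mul_le_mul_right
        calc 2 * (s + 1) = (s + 1) * 2 := by ring
          _ ≤ (s + 1) * x := Nat.mul_le_mul_left _ hx2
          _ ≤ y := hy
      have h2 : 2 * (s + 1) * P ≤ z := le_trans h1 hz
      have h3 : (s + 2 + 1) * (2 * (s + 1) * P) ≤ (s + 2 + 1) * z := Nat.mul_le_mul_left _ h2
      have h4 : (s + 2) ^ 2 * P ≤ (s + 2 + 1) * (2 * (s + 1) * P) := by
        have : (s + 2) ^ 2 ≤ (s + 2 + 1) * (2 * (s + 1)) := by nlinarith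
        calc (s + 2) ^ 2 * P ≤ (s + 2 + 1) * (2 * (s + 1)) * P := Nat.mul_le_mul_right _ this
          _ = _ := by ring
      omega
    · have hx1' : x = 1 := by omega
      rw [hx1'] at hIH hy
      -- then q = 2 and m = 1
      have hP4 : (s + 2) ^ 2 ≤ P := by
        rw [hP]
        exact Nat.pow_le_pow_right (by omega) (by omega)
      have hs0 : s = 0 := by nlinarith
      subst hs0
      have hm' : m = 1 := by
        by_contra hne
        have : 2 ≤ m := by omega
        have : (0 + 2) ^ (2 * 2) ≤ P := by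
          rw [hP]
          exact Nat.pow_le_pow_right (by omega) (by omega)
        norm_num at this hIH
        omega
      subst hm'
      obtain ⟨M, hM, hM0⟩ := patch_two hK rfl hm hc0 hcq hN hN0 detOK_univ
      have hz2 := fam_count_succ hK hc0 hcq N hM hM0
      rw [hm] at hz2
      have hP' : P = 4 := by rw [hP]; norm_num
      rw [hP'] at hz ⊢
      norm_num at hz2 hy ⊢
      omega

theorem step_fix (hK : Fintype.card K = q ^ 2) (m : ℕ) (hm : Fintype.card ι = m) (hm1 : 1 ≤ m)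
    (hex : ¬ (m = 1 ∧ q ≤ 3))
    (A : ∀ N : Matrix ι ι K, hst hK N = N → N ≠ 0 →
      q ^ (2 * m) ≤ (q + 1) * (horb hK Set.univ N).ncard + 1)
    (T : Matrix (Unit ⊕ ι) (Unit ⊕ ι) K) (hT : hst hK T = T) (hT0 : T ≠ 0) :
    q ^ (2 * (m + 1)) ≤ (q + 1) * (horb hK {d : K | d ^ q = d} T).ncard + 1 := by
  have hD := detOK_fix hK
  obtain ⟨T', hT', hc0, hle⟩ := exists_corner_ne hK hD hT hT0 (Sum.inl ())
  obtain ⟨hcq, N, hN, hmem⟩ := exists_blockdiag hK hD hT' rfl hc0
  have hle2 := horb_ncard_le hK hD hmem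
  suffices h : q ^ (2 * (m + 1)) ≤ (q + 1) *
      (horb hK {d : K | d ^ q = d}
        (fromBlocks (sc (T' (Sum.inl ()) (Sum.inl ()))) 0 0 N)).ncard + 1 by
    have := Nat.mul_le_mul_left (q + 1) (le_trans hle2 hle)
    omega
  by_cases hN0 : N = 0
  · subst hN0
    refine step_rank_one hK m hm hc0 ?_
    intro a ha
    have : Nonempty ι := by
      rw [← Fintype.card_pos_iff, hm]; omega
    obtain ⟨j⟩ := this
    obtain ⟨C, hC, hCa⟩ := exists_mat_mulVec_det_one (Sum.inl ()) (Sum.inr j) (by simp) ha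
    refine ⟨C, by rw [hC]; exact one_ne_zero, ?_, hCa⟩
    rw [hC]; exact hD.one
  · have hA := A N hN hN0
    have hy := Yset_count_fix hK hc0 N
    have hz := fam_count (D := {d : K | d ^ q = d}) hK hc0 hcq N
    rw [hm] at hz
    have hq := ls_two_le_q hK
    obtain ⟨s, rfl⟩ : ∃ s, q = s + 2 := ⟨q - 2, by omega⟩
    set x := (horb hK Set.univ N).ncard with hx
    set y := (Yset hK {d : K | d ^ (s + 2) = d} (T' (Sum.inl ()) (Sum.inl ())) N).ncard with hy'
    set z := (horb hK {d : K | d ^ (s + 2) = d}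
      (fromBlocks (sc (T' (Sum.inl ()) (Sum.inl ()))) 0 0 N)).ncard with hz'
    set P := (s + 2) ^ (2 * m) with hP
    have hpow : (s + 2) ^ (2 * (m + 1)) = (s + 2) ^ 2 * P := by
      rw [hP, ← pow_add]; congr 1; ring
    have hs1 : s + 2 - 1 = s + 1 := by omega
    rw [hs1] at hy
    rw [hpow]
    have hP4 : (s + 2) ^ 2 ≤ P := by
      rw [hP]
      exact Nat.pow_le_pow_right (by omega) (by omega)
    have hx3 : 3 ≤ x := by
      by_contra hlt
      have hx2 : x ≤ 2 := by omega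
      have h1 : P ≤ (s + 2 + 1) * 2 + 1 := by
        calc P ≤ (s + 2 + 1) * x + 1 := hA
          _ ≤ (s + 2 + 1) * 2 + 1 := by
            have := Nat.mul_le_mul_left (s + 2 + 1) hx2
            omega
      by_cases hm' : m = 1
      · apply hex
        refine ⟨hm', ?_⟩
        nlinarith
      · have hm2 : 2 ≤ m := by omega
        have h2 : (s + 2) ^ (2 * 2) ≤ P := by
          rw [hP]
          exact Nat.pow_le_pow_right (by omega) (by omega)
        have h3 : (s + 2) ^ (2 * 2) = ((s + 2) ^ 2) ^ 2 := by ring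
        have h4 : 4 + 4 * s ≤ (s + 2) ^ 2 := by nlinarith
        have h5 : (4 + 4 * s) ^ 2 ≤ ((s + 2) ^ 2) ^ 2 := Nat.pow_le_pow_left h4 2
        have h6 : 16 + 32 * s ≤ (4 + 4 * s) ^ 2 := by nlinarith
        omega
    -- main inequality
    have h1 : (s + 1) * 3 * P ≤ 2 * y * P := by
      apply Nat.mul_le_mul_right
      calc (s + 1) * 3 ≤ (s + 1) * x := Nat.mul_le_mul_left _ hx3
        _ ≤ 2 * y := hy
    have h2 : 2 * y * P ≤ 2 * z := by
      calc 2 * y * P = 2 * (y * P) := by ring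
        _ ≤ 2 * z := Nat.mul_le_mul_left _ hz
    have h3 : 2 * ((s + 2) ^ 2 * P) ≤ (s + 2 + 1) * ((s + 1) * 3 * P) := by
      have : 2 * (s + 2) ^ 2 ≤ (s + 2 + 1) * ((s + 1) * 3) := by nlinarith
      calc 2 * ((s + 2) ^ 2 * P) = 2 * (s + 2) ^ 2 * P := by ring
        _ ≤ (s + 2 + 1) * ((s + 1) * 3) * P := Nat.mul_le_mul_right _ this
        _ = _ := by ring
    have h4 : (s + 2 + 1) * ((s + 1) * 3 * P) ≤ (s + 2 + 1) * (2 * z) :=
      Nat.mul_le_mul_left _ (le_trans h1 h2)
    have h5 : (s + 2 + 1) * (2 * z) = 2 * ((s + 2 + 1) * z) := by ring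
    omega

end steps

/-- (A) for `Fin m`, in `hst`/`horb` vocabulary. -/
theorem herm_orbit_aux (hK : Fintype.card K = q ^ 2) :
    ∀ (m : ℕ) (T : Matrix (Fin m) (Fin m) K), hst hK T = T → T ≠ 0 →
      q ^ (2 * m) ≤ (q + 1) * (horb hK Set.univ T).ncard + 1 := by
  intro m
  induction m with
  | zero =>
    intro T _ hT0
    exfalso
    apply hT0
    ext i
    exact Fin.elim0 i
  | succ m ih =>
    intro T hT hT0
    let e : Fin (m + 1) ≃ Unit ⊕ Fin m := Fintype.equivOfCardEq (by simp [add_comm])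
    have h1 := step_GL (ι := Fin m) hK m (by simp) ih (reindex e e T)
      (by rw [reindex_apply, hst_submatrix, hT])
      (by
        intro h0
        apply hT0
        have := congrArg (reindex e e).symm h0
        simpa using this)
    rwa [horb_reindex_ncard] at h1

/-- (A₀) for `Fin (m+1)`, in `hst`/`horb` vocabulary. -/
theorem herm_orbit_det_aux (hK : Fintype.card K = q ^ 2) (m : ℕ) (hm1 : 1 ≤ m)
    (hex : ¬ (m = 1 ∧ q ≤ 3)) (T : Matrix (Fin (m + 1)) (Fin (m + 1)) K) (hT : hst hK T = T)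
    (hT0 : T ≠ 0) :
    q ^ (2 * (m + 1)) ≤ (q + 1) * (horb hK {d : K | d ^ q = d} T).ncard + 1 := by
  let e : Fin (m + 1) ≃ Unit ⊕ Fin m := Fintype.equivOfCardEq (by simp [add_comm])
  have h1 := step_fix (ι := Fin m) hK m (by simp) hm1 hex (herm_orbit_aux hK m) (reindex e e T)
    (by rw [reindex_apply, hst_submatrix, hT])
    (by
      intro h0
      apply hT0
      have := congrArg (reindex e e).symm h0
      simpa using this)
  rwa [horb_reindex_ncard] at h1

end Cfsg.Agent.LS3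

namespace Cfsg.Agent.LS3

open Matrix

/-- **(A)** Every non-zero Hermitian `m × m` matrix over the field with `q²` elements has at least
`(q^(2m) - 1)/(q+1)` matrices in its orbit under `T ↦ C T C*`, `C ∈ GL_m`. -/
theorem l_herm_orbit {F : Type*} [Field F] [Fintype F] {q : ℕ} (hF : Fintype.card F = q ^ 2)
    (m : ℕ) (T : Matrix (Fin m) (Fin m) F) (hT : (T.map (· ^ q))ᵀ = T) (hT0 : T ≠ 0) :
    q ^ (2 * m) - 1 ≤ (q + 1) * Nat.card {T' : Matrix (Fin m) (Fin m) F //
      ∃ C : GL (Fin m) F, T' = C.1 * T * (C.1.map (· ^ q))ᵀ} := by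
  classical
  have h := herm_orbit_aux hF m T hT hT0
  have heq : Nat.card {T' : Matrix (Fin m) (Fin m) F //
      ∃ C : GL (Fin m) F, T' = C.1 * T * (C.1.map (· ^ q))ᵀ} = (horb hF Set.univ T).ncard := by
    rw [← Nat.card_coe_set_eq]
    apply Nat.card_congr
    refine Equiv.subtypeEquivRight (fun T' => ?_)
    constructor
    · rintro ⟨C, rfl⟩
      exact ⟨C.1, ((Matrix.isUnit_iff_isUnit_det _).mp (Units.isUnit C)).ne_zero,
        Set.mem_univ _, rfl⟩
    · rintro ⟨C, hC, _, rfl⟩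
      exact ⟨Matrix.GeneralLinearGroup.mkOfDetNeZero C hC, rfl⟩
  rw [heq]
  omega

/-- **(A₀)** The same for matrices `C` with determinant in the fixed field, for `m ≥ 2` and
`(m, q) ≠ (2, 2), (2, 3)`. -/
theorem l_herm_orbit_det {F : Type*} [Field F] [Fintype F] {q : ℕ} (hF : Fintype.card F = q ^ 2)
    (m : ℕ) (hm : 2 ≤ m) (hex : ¬ (m = 2 ∧ q ≤ 3)) (T : Matrix (Fin m) (Fin m) F)
    (hT : (T.map (· ^ q))ᵀ = T) (hT0 : T ≠ 0) :
    q ^ (2 * m) - 1 ≤ (q + 1) * Nat.card {T' : Matrix (Fin m) (Fin m) F //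
      ∃ C : GL (Fin m) F, C.1.det ^ q = C.1.det ∧ T' = C.1 * T * (C.1.map (· ^ q))ᵀ} := by
  classical
  obtain ⟨m', rfl⟩ : ∃ m', m = m' + 1 := ⟨m - 1, by omega⟩
  have h := herm_orbit_det_aux hF m' (by omega) (by
    rintro ⟨h1, h2⟩
    exact hex ⟨by omega, h2⟩) T hT hT0
  have heq : Nat.card {T' : Matrix (Fin (m' + 1)) (Fin (m' + 1)) F //
      ∃ C : GL (Fin (m' + 1)) F, C.1.det ^ q = C.1.det ∧ T' = C.1 * T * (C.1.map (· ^ q))ᵀ}
      = (horb hF {d : F | d ^ q = d} T).ncard := by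
    rw [← Nat.card_coe_set_eq]
    apply Nat.card_congr
    refine Equiv.subtypeEquivRight (fun T' => ?_)
    constructor
    · rintro ⟨C, hCq, rfl⟩
      exact ⟨C.1, ((Matrix.isUnit_iff_isUnit_det _).mp (Units.isUnit C)).ne_zero, hCq, rfl⟩
    · rintro ⟨C, hC, hCq, rfl⟩
      exact ⟨Matrix.GeneralLinearGroup.mkOfDetNeZero C hC, hCq, rfl⟩
  rw [heq]
  omega

end Cfsg.Agent.LS3
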