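import Mathlib
import Cfsg.Agent.LS3.H2_OddApi
import Cfsg.Agent.LS3.H4_SUAsm
import Cfsg.Agent.LS3.H3_Frames
import Cfsg.Agent.LS3.H3_NonCentral
import Cfsg.Agent.LS3.L_HermOrb
import Cfsg.Agent.S0283

set_option autoImplicit false
set_option linter.unusedSectionVars false

/-!
# LS3 (S2334): assembly for `SU_n(q)`, `n = 2 m + 1` odd (helper7)

`h7_su_odd_of_heis`: the Landazuri–Seitz bound for `SU (2 * m + 1) F q`, given the Heisenberg step
(every non-trivial weight space of the centre `Z(Q)` of the unipotent radical has dimension `≥ q`).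
-/

namespace Cfsg.Agent.LS3

open Matrix Cfsg Cfsg.Agent.Helper7.Herm Cfsg.Agent.Helper8.LS

variable {F : Type*} [Field F] [Fintype F] {q : ℕ}

/-- a non-zero skew-Hermitian matrix (`m ≥ 1`). -/
theorem h7_exists_skew_ne_zero (hF : Fintype.card F = q ^ 2) {m : ℕ} (hm : 1 ≤ m) :
    ∃ S : h4_skew hF (Fin m), S ≠ 0 := by
  obtain ⟨j, hj0, hj⟩ := h4_exists_j hF
  have h1 : (1 : Matrix (Fin m) (Fin m) F) ∈ h4_herm hF (Fin m) := h4_star_one hF
  refine ⟨⟨j • (1 : Matrix (Fin m) (Fin m) F), h4_smul_mem_skew_of_herm hF hj h1⟩, ?_⟩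
  intro h
  have h2 : j • (1 : Matrix (Fin m) (Fin m) F) = 0 := congrArg Subtype.val h
  have h3 := congrFun (congrFun h2 ⟨0, hm⟩) ⟨0, hm⟩
  rw [Matrix.smul_apply, Matrix.one_apply_eq, smul_eq_mul, mul_one, Matrix.zero_apply] at h3
  exact hj0 h3

/-- **S2334 modulo the Heisenberg step.** -/
theorem h7_su_odd_of_heis (hF : Fintype.card F = q ^ 2) {m : ℕ} (hm : 1 ≤ m)
    (hex : ¬ (2 * m + 1 = 3 ∧ q = 2))
    [Fintype (Multiplicative (h4_skew hF (Fin m)))]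
    (hheis : ∀ (k : ℕ) (R : h3_BU hF (h2_J F m) →* Module.End ℂ (Fin k → ℂ))
      (ψ : Multiplicative F →* ℂˣ), h4_Good q ψ → ∀ T : Matrix (Fin m) (Fin m) F,
      T ∈ h4_herm hF (Fin m) → T ≠ 0 →
      wt (R.comp (h2_uO hF m)) (h4_chi hF ψ T) ≠ ⊥ →
      q ≤ Module.finrank ℂ (wt (R.comp (h2_uO hF m)) (h4_chi hF ψ T)))
    (k : ℕ) (ρ : Representation ℂ (SU (2 * m + 1) F q) (Fin k → ℂ)) (hirr : ρ.IsIrreducible)
    (hk : 2 ≤ k) : (q ^ (2 * m + 1) - q) / (q + 1) ≤ k := by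
  classical
  obtain ⟨B, B', h1, h2, hG⟩ := h3_frame_odd_aux (F := F) hF m (2 * m + 1) rfl
  have hJ : h3_gram q B = h2_J F m := hG
  set φ : h3_BU hF (h2_J F m) →* SU (2 * m + 1) F q := h3_phi hF B B' h1 h2 (h2_J F m) hJ with hφ
  have hs : IsSimpleGroup (SU (2 * m + 1) F q ⧸ Subgroup.center (SU (2 * m + 1) F q)) :=
    Cfsg.Agent.S0283.result hF (2 * m + 1) (by omega) hex
  obtain ⟨S0, hS0⟩ := h7_exists_skew_ne_zero hF hm
  have hnc : (φ.comp (h2_uO hF m)) (Multiplicative.ofAdd S0)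
      ∉ Subgroup.center (SU (2 * m + 1) F q) :=
    h3_phi_not_mem_center hF (by omega) B B' h1 h2 (h2_J F m) hJ _ (h2_uO_not_scalar hF S0 hS0)
  -- the Levi elements
  have hd : ∀ C : GL (Fin m) F, True → ∃ g : SU (2 * m + 1) F q, ∀ S : h4_skew hF (Fin m),
      (φ.comp (h2_uO hF m)) (Multiplicative.ofAdd S) * g
        = g * (φ.comp (h2_uO hF m)) (Multiplicative.ofAdd
          (⟨h4_star q C.1 * S.1 * C.1, h4_conj_mem_skew' hF C.1 S.2⟩ : h4_skew hF (Fin m))) := by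
    intro C _
    have hCC : C.1 * (C⁻¹ : GL (Fin m) F).1 = 1 := Units.mul_inv C
    have hAA' : h4_star q (C⁻¹ : GL (Fin m) F).1 * h4_star q C.1 = 1 := by
      rw [← h4_star_mul hF, hCC, h4_star_one hF]
    have hA'A : h4_star q C.1 * h4_star q (C⁻¹ : GL (Fin m) F).1 = 1 := by
      rw [← h4_star_mul hF, Units.inv_mul C, h4_star_one hF]
    refine ⟨φ (h2_dO hF (h4_star q (C⁻¹ : GL (Fin m) F).1) (h4_star q C.1) hAA'), ?_⟩
    intro S
    have hrel := h2_dO_mul_uO hF (h4_star q (C⁻¹ : GL (Fin m) F).1) (h4_star q C.1) hAA'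
      (⟨h4_star q C.1 * S.1 * C.1, h4_conj_mem_skew' hF C.1 S.2⟩ : h4_skew hF (Fin m))
    have hS : (⟨h4_star q (C⁻¹ : GL (Fin m) F).1 * (h4_star q C.1 * S.1 * C.1)
          * h4_star q (h4_star q (C⁻¹ : GL (Fin m) F).1),
        h4_conj_mem_skew hF (h4_star q (C⁻¹ : GL (Fin m) F).1)
          (h4_conj_mem_skew' hF C.1 S.2)⟩ : h4_skew hF (Fin m)) = S := by
      apply Subtype.ext
      show h4_star q (C⁻¹ : GL (Fin m) F).1 * (h4_star q C.1 * S.1 * C.1)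
          * h4_star q (h4_star q (C⁻¹ : GL (Fin m) F).1) = S.1
      rw [h4_star_star hF]
      calc h4_star q (C⁻¹ : GL (Fin m) F).1 * (h4_star q C.1 * S.1 * C.1) * (C⁻¹ : GL (Fin m) F).1
          = (h4_star q (C⁻¹ : GL (Fin m) F).1 * h4_star q C.1) * S.1
              * (C.1 * (C⁻¹ : GL (Fin m) F).1) := by simp only [Matrix.mul_assoc]
        _ = S.1 := by rw [hAA', hCC, Matrix.one_mul, Matrix.mul_one]
    rw [hS] at hrel
    show φ (h2_uO hF m (Multiplicative.ofAdd S)) * φ _ = φ _ * φ (h2_uO hF m _)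
    rw [← map_mul, ← map_mul, hrel]
  -- the orbit bound
  have hM : ∀ T : Matrix (Fin m) (Fin m) F, (T.map (· ^ q))ᵀ = T → T ≠ 0 →
      q ^ (2 * m) - 1 ≤ (q + 1) * Nat.card {T' : Matrix (Fin m) (Fin m) F //
        ∃ C : GL (Fin m) F, True ∧ T' = C.1 * T * (C.1.map (· ^ q))ᵀ} := by
    intro T hT hT0
    have h := l_herm_orbit hF m T hT hT0
    have e : Nat.card {T' : Matrix (Fin m) (Fin m) F //
        ∃ C : GL (Fin m) F, True ∧ T' = C.1 * T * (C.1.map (· ^ q))ᵀ}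
        = Nat.card {T' : Matrix (Fin m) (Fin m) F //
        ∃ C : GL (Fin m) F, T' = C.1 * T * (C.1.map (· ^ q))ᵀ} := by
      apply Nat.card_congr
      exact Equiv.subtypeEquivRight (fun T' => by simp)
    rw [e]
    exact h
  have hr : ∀ (ψ : Multiplicative F →* ℂˣ), h4_Good q ψ → ∀ T : Matrix (Fin m) (Fin m) F,
      T ∈ h4_herm hF (Fin m) → T ≠ 0 →
      wt ((ρ : SU (2 * m + 1) F q →* Module.End ℂ (Fin k → ℂ)).comp (φ.comp (h2_uO hF m)))
        (h4_chi hF ψ T) ≠ ⊥ →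
      q ≤ Module.finrank ℂ (wt ((ρ : SU (2 * m + 1) F q →* Module.End ℂ (Fin k → ℂ)).comp
        (φ.comp (h2_uO hF m))) (h4_chi hF ψ T)) := by
    intro ψ hψ T hT hT0 hne
    exact hheis k ((ρ : SU (2 * m + 1) F q →* Module.End ℂ (Fin k → ℂ)).comp φ) ψ hψ T hT hT0 hne
  have hfin := h4_su_asm hF hs (φ.comp (h2_uO hF m)) S0 hnc (fun _ => True) hd (q ^ (2 * m) - 1)
    hM ρ hirr hk q hr
  apply Nat.div_le_of_le_mul
  have e : q ^ (2 * m + 1) - q = q * (q ^ (2 * m) - 1) := by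
    rw [Nat.mul_sub, mul_one, pow_succ, mul_comm]
  rw [e]
  exact hfin

end Cfsg.Agent.LS3
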