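import Mathlib

set_option autoImplicit false
set_option linter.unusedSectionVars false
set_option linter.unusedSimpArgs false

/-!
LS3 / S2333 (helper8): counting lemmas for a quadratic form over a finite field of characteristic
two (zeros, affine hyperplanes, fibres), by "at most two-to-one" maps.
-/

namespace Cfsg.Agent.LS3

open QuadraticMap Polynomial

section roots

variable {F : Type*} [Field F] [Fintype F] [DecidableEq F]

/-- a polynomial `a t² + b t + c` with `a ≠ 0` or `b ≠ 0` has at most two roots. -/
theorem h8_quad_roots (a b c : F) (hab : a ≠ 0 ∨ b ≠ 0) :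
    (Finset.univ.filter fun t : F => a * t ^ 2 + b * t + c = 0).card ≤ 2 := by
  classical
  set p : F[X] := C a * X ^ 2 + C b * X + C c with hp
  have hp0 : p ≠ 0 := by
    intro h
    have h2 : p.coeff 2 = a := by
      rw [hp]
      simp [coeff_X, coeff_C]
    have h1 : p.coeff 1 = b := by
      rw [hp]
      simp [coeff_X, coeff_C]
    rw [h] at h1 h2
    simp at h1 h2
    rcases hab with h' | h'
    · exact h' h2.symm
    · exact h' h1.symm
  have hdeg : p.natDegree ≤ 2 := by
    rw [hp]
    compute_degree
  have hsub : (Finset.univ.filter fun t : F => a * t ^ 2 + b * t + c = 0) ⊆ p.roots.toFinset := by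
    intro t ht
    rw [Finset.mem_filter] at ht
    rw [Multiset.mem_toFinset, mem_roots hp0, IsRoot.def, hp]
    simp only [eval_add, eval_mul, eval_C, eval_pow, eval_X]
    exact ht.2
  calc _ ≤ p.roots.toFinset.card := Finset.card_le_card hsub
    _ ≤ Multiset.card p.roots := Multiset.toFinset_card_le _
    _ ≤ p.natDegree := card_roots' p
    _ ≤ 2 := hdeg

/-- a polynomial `b t + c` with `b ≠ 0` has at most one root. -/
theorem h8_lin_roots (b c : F) (hb : b ≠ 0) :
    (Finset.univ.filter fun t : F => b * t + c = 0).card ≤ 1 := by
  rw [Finset.card_le_one]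
  intro t ht t' ht'
  rw [Finset.mem_filter] at ht ht'
  have h : b * (t - t') = 0 := by linear_combination ht.2 - ht'.2
  rcases mul_eq_zero.mp h with h' | h'
  · exact absurd h' hb
  · exact sub_eq_zero.mp h'

end roots

section counts

variable {F : Type*} [Field F] [Fintype F] [DecidableEq F]
variable {V : Type*} [AddCommGroup V] [Module F V] [Fintype V] [DecidableEq V]
variable (Q : QuadraticForm F V)

theorem h8_polar_self (h2 : (2 : F) = 0) (x : V) : polar Q x x = 0 := by
  rw [polar_self, two_smul, ← two_mul, h2, zero_mul]

/-- the value of `Q` on `w - t • x`. -/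
theorem h8_Q_sub_smul (w x : V) (t : F) :
    Q (w - t • x) = Q x * t ^ 2 - polar Q w x * t + Q w := by
  have h : w - t • x = w + (-t) • x := by rw [neg_smul, sub_eq_add_neg]
  rw [h, QuadraticMap.map_add (⇑Q), QuadraticMap.map_smul, polar_smul_right]
  simp only [smul_eq_mul]
  ring

/-- an affine hyperplane `{y | B(x, y) = 1}` has at most `|V| / q` points. -/
theorem h8_hyper_card (x : V) :
    (Finset.univ.filter fun y : V => polar Q x y = 1).card * Fintype.card F ≤ Fintype.card V := by
  classical
  set H := Finset.univ.filter fun y : V => polar Q x y = 1 with hH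
  by_cases hne : H.Nonempty
  · obtain ⟨w0, hw0⟩ := hne
    rw [hH, Finset.mem_filter] at hw0
    have h1 : (H ×ˢ (Finset.univ : Finset F)).card ≤ (Finset.univ : Finset V).card := by
      refine Finset.card_le_card_of_injOn (fun p => p.1 + p.2 • w0) (fun _ _ => Finset.mem_univ _) ?_
      intro p hp p' hp' hpp
      simp only [Finset.coe_product, Set.mem_prod, Finset.mem_coe] at hp hp'
      have hp1 := hp.1
      have hp1' := hp'.1
      rw [hH, Finset.mem_filter] at hp1 hp1'
      simp only at hpp
      have h3 := congrArg (fun z => polar Q x z) hpp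
      simp only [polar_add_right, polar_smul_right, hp1.2, hp1'.2, hw0.2, smul_eq_mul, mul_one] at h3
      have h4 : p.2 = p'.2 := add_left_cancel h3
      have h5 : p.1 = p'.1 := by
        rw [h4] at hpp
        exact add_right_cancel hpp
      exact Prod.ext h5 h4
    rwa [Finset.card_product, Finset.card_univ, Finset.card_univ] at h1
  · rw [Finset.not_nonempty_iff_eq_empty] at hne
    rw [hne, Finset.card_empty, zero_mul]
    exact Nat.zero_le _

/-- the fibre count: on the affine hyperplane `B(x, ·) = 1` the equation `Q y = γ` has at most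
`2 / q` of the points (at most `1 / q` if `Q x = 0`). -/
theorem h8_fibre_card (h2 : (2 : F) = 0) (x : V) (γ : F) :
    (Finset.univ.filter fun y : V => polar Q x y = 1 ∧ Q y = γ).card * Fintype.card F
      ≤ (if Q x = 0 then 1 else 2)
        * (Finset.univ.filter fun y : V => polar Q x y = 1).card := by
  classical
  set S := Finset.univ.filter fun y : V => polar Q x y = 1 ∧ Q y = γ with hS
  set H := Finset.univ.filter fun y : V => polar Q x y = 1 with hH
  set f : V × F → V := fun p => p.1 + p.2 • x with hf
  set s := S ×ˢ (Finset.univ : Finset F) with hs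
  have himg : s.image f ⊆ H := by
    intro w hw
    obtain ⟨p, hp, rfl⟩ := Finset.mem_image.mp hw
    rw [hs, Finset.mem_product, hS, Finset.mem_filter] at hp
    rw [hH, Finset.mem_filter]
    refine ⟨Finset.mem_univ _, ?_⟩
    simp only [hf]
    rw [polar_add_right, polar_smul_right, h8_polar_self Q h2, smul_zero, add_zero]
    exact hp.1.2.1
  have hfib : ∀ w ∈ s.image f, (s.filter fun p => f p = w).card
      ≤ (if Q x = 0 then 1 else 2) := by
    intro w hw
    have hwH := himg hw
    rw [hH, Finset.mem_filter] at hwH
    have hwx : polar Q w x = 1 := by rw [polar_comm]; exact hwH.2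
    have hinj : Set.InjOn (fun p : V × F => p.2) (s.filter fun p => f p = w) := by
      intro p hp p' hp' hpp
      simp only [Finset.coe_filter, Set.mem_ofPred_eq] at hp hp'
      simp only at hpp
      have h1 : p.1 + p.2 • x = w := hp.2
      have h2' : p'.1 + p'.2 • x = w := hp'.2
      have h3 : p.1 = p'.1 := by
        rw [hpp] at h1
        exact add_right_cancel (h1.trans h2'.symm)
      exact Prod.ext h3 hpp
    have hroot : ∀ p ∈ s.filter (fun p => f p = w),
        Q x * p.2 ^ 2 + (-1) * p.2 + (Q w - γ) = 0 := by
      intro p hp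
      rw [Finset.mem_filter, hs, Finset.mem_product, hS, Finset.mem_filter] at hp
      have h1 : p.1 = w - p.2 • x := by
        rw [← hp.2]
        simp [hf]
      have h3 : Q p.1 = γ := hp.1.1.2.2
      rw [h1, h8_Q_sub_smul, hwx] at h3
      linear_combination h3
    by_cases hx : Q x = 0
    · rw [if_pos hx]
      have hmap : ∀ p ∈ s.filter (fun p => f p = w),
          p.2 ∈ Finset.univ.filter fun t : F => (-1 : F) * t + (Q w - γ) = 0 := by
        intro p hp
        rw [Finset.mem_filter]
        refine ⟨Finset.mem_univ _, ?_⟩
        have := hroot p hp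
        rw [hx, zero_mul, zero_add] at this
        exact this
      exact le_trans (Finset.card_le_card_of_injOn _ hmap hinj)
        (h8_lin_roots _ _ (by norm_num))
    · rw [if_neg hx]
      have hmap : ∀ p ∈ s.filter (fun p => f p = w),
          p.2 ∈ Finset.univ.filter fun t : F => Q x * t ^ 2 + (-1) * t + (Q w - γ) = 0 := by
        intro p hp
        rw [Finset.mem_filter]
        exact ⟨Finset.mem_univ _, hroot p hp⟩
      exact le_trans (Finset.card_le_card_of_injOn _ hmap hinj)
        (h8_quad_roots _ _ _ (Or.inl hx))
  have h1 := Finset.card_le_mul_card_image (s := s) (f := f) _ hfib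
  rw [hs, Finset.card_product, Finset.card_univ] at h1
  exact le_trans h1 (Nat.mul_le_mul_left _ (Finset.card_le_card himg))

/-- the zero set of a quadratic form with a non-singular vector has at most `2 |V| / q` points. -/
theorem h8_zero_card (e : V) (he : Q e ≠ 0) :
    (Finset.univ.filter fun x : V => Q x = 0).card * Fintype.card F ≤ 2 * Fintype.card V := by
  classical
  set Z := Finset.univ.filter fun x : V => Q x = 0 with hZ
  set f : V × F → V := fun p => p.1 + p.2 • e with hf
  set s := Z ×ˢ (Finset.univ : Finset F) with hs
  have hfib : ∀ w ∈ s.image f, (s.filter fun p => f p = w).card ≤ 2 := by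
    intro w _
    have hinj : Set.InjOn (fun p : V × F => p.2) (s.filter fun p => f p = w) := by
      intro p hp p' hp' hpp
      simp only [Finset.coe_filter, Set.mem_ofPred_eq] at hp hp'
      simp only at hpp
      have h1 : p.1 + p.2 • e = w := hp.2
      have h2' : p'.1 + p'.2 • e = w := hp'.2
      have h3 : p.1 = p'.1 := by
        rw [hpp] at h1
        exact add_right_cancel (h1.trans h2'.symm)
      exact Prod.ext h3 hpp
    have hmap : ∀ p ∈ s.filter (fun p => f p = w),
        p.2 ∈ Finset.univ.filter fun t : F => Q e * t ^ 2 + (-polar Q w e) * t + Q w = 0 := by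
      intro p hp
      rw [Finset.mem_filter, hs, Finset.mem_product, hZ, Finset.mem_filter] at hp
      rw [Finset.mem_filter]
      refine ⟨Finset.mem_univ _, ?_⟩
      have h1 : p.1 = w - p.2 • e := by
        rw [← hp.2]
        simp [hf]
      have h3 : Q p.1 = 0 := hp.1.1.2
      rw [h1, h8_Q_sub_smul] at h3
      linear_combination h3
    exact le_trans (Finset.card_le_card_of_injOn _ hmap hinj) (h8_quad_roots _ _ _ (Or.inl he))
  have h1 := Finset.card_le_mul_card_image (s := s) (f := f) 2 hfib
  rw [hs, Finset.card_product, Finset.card_univ] at h1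
  refine le_trans h1 (Nat.mul_le_mul_left _ ?_)
  rw [← Finset.card_univ]
  exact Finset.card_le_card (Finset.subset_univ _)

end counts

end Cfsg.Agent.LS3
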