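import Mathlib
import Cfsg.Agent.LS3.H8_PairCountA
import Cfsg.Agent.LS3.H1_Level

set_option autoImplicit false
set_option linter.unusedSectionVars false

/-!
LS3 / S2333 (helper8): the pair count.  For a quadratic form `Q` over a finite field of
characteristic two with some pair `B(u, v) = 1`, the number of pairs `(x, y)` of any given type
`Q x = α`, `Q y = γ`, `B(x, y) = 1` is at most `2 (q + 1) |V|² / q⁴`.
-/

namespace Cfsg.Agent.LS3

open QuadraticMap

variable {F : Type*} [Field F] [Fintype F] [DecidableEq F]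
variable {V : Type*} [AddCommGroup V] [Module F V] [Fintype V] [DecidableEq V]
variable (Q : QuadraticForm F V)

/-- the pairs of a given type, fibred over the first component. -/
theorem h8_pairs_le_sum (α γ : F) :
    (Finset.univ.filter fun p : V × V => Q p.1 = α ∧ Q p.2 = γ ∧ polar Q p.1 p.2 = 1).card
      ≤ ∑ x ∈ Finset.univ.filter (fun x : V => Q x = α),
          (Finset.univ.filter fun y : V => polar Q x y = 1 ∧ Q y = γ).card := by
  classical
  rw [← Finset.card_sigma]
  refine Finset.card_le_card_of_injOn (fun p => ⟨p.1, p.2⟩) ?_ ?_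
  · intro p hp
    simp only [Finset.coe_filter, Finset.mem_univ, true_and, Set.mem_ofPred_eq] at hp
    simp only [Finset.coe_sigma, Set.mem_sigma_iff, Finset.mem_coe, Finset.mem_filter,
      Finset.mem_univ, true_and]
    exact ⟨hp.1, hp.2.2, hp.2.1⟩
  · intro p _ p' _ hpp
    simp only [Sigma.mk.injEq, heq_eq_eq] at hpp
    exact Prod.ext hpp.1 hpp.2

/-- some vector is non-singular. -/
theorem h8_exists_nonsing (u v : V) (huv : polar Q u v = 1) : ∃ e : V, Q e ≠ 0 := by
  by_cases hu : Q u = 0
  · by_cases hv : Q v = 0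
    · refine ⟨u + v, ?_⟩
      rw [QuadraticMap.map_add (⇑Q), hu, hv, huv]
      simp
    · exact ⟨v, hv⟩
  · exact ⟨u, hu⟩

/-- **the pair count.** -/
theorem h8_pair_count (h2 : (2 : F) = 0) (u v : V) (huv : polar Q u v = 1) (α γ : F) :
    (Finset.univ.filter fun p : V × V => Q p.1 = α ∧ Q p.2 = γ ∧ polar Q p.1 p.2 = 1).card
        * Fintype.card F ^ 4
      ≤ 2 * (Fintype.card F + 1) * Fintype.card V ^ 2 := by
  classical
  set q := Fintype.card F with hq
  set N := Fintype.card V with hN
  set L := Finset.univ.filter (fun x : V => Q x = α) with hL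
  have hsum := h8_pairs_le_sum Q α γ
  -- the fibre bound, in the form `#S_x * q² ≤ c * N`
  have hfib : ∀ x : V, (Finset.univ.filter fun y : V => polar Q x y = 1 ∧ Q y = γ).card * q ^ 2
      ≤ (if Q x = 0 then 1 else 2) * N := by
    intro x
    have h1 := h8_fibre_card Q h2 x γ
    have h3 := h8_hyper_card Q x
    calc (Finset.univ.filter fun y : V => polar Q x y = 1 ∧ Q y = γ).card * q ^ 2
        = ((Finset.univ.filter fun y : V => polar Q x y = 1 ∧ Q y = γ).card * q) * q := by ring
      _ ≤ ((if Q x = 0 then 1 else 2)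
            * (Finset.univ.filter fun y : V => polar Q x y = 1).card) * q :=
          Nat.mul_le_mul_right _ h1
      _ = (if Q x = 0 then 1 else 2)
            * ((Finset.univ.filter fun y : V => polar Q x y = 1).card * q) := by ring
      _ ≤ (if Q x = 0 then 1 else 2) * N := Nat.mul_le_mul_left _ h3
  by_cases hα : α = 0
  · -- singular first component
    obtain ⟨e, he⟩ := h8_exists_nonsing Q u v huv
    have hz := h8_zero_card Q e he
    have hL0 : L = Finset.univ.filter (fun x : V => Q x = 0) := by rw [hL, hα]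
    have h4 : (∑ x ∈ L, (Finset.univ.filter fun y : V => polar Q x y = 1 ∧ Q y = γ).card) * q ^ 2
        ≤ L.card * N := by
      rw [Finset.sum_mul, Finset.card_eq_sum_ones, Finset.sum_mul]
      refine Finset.sum_le_sum (fun x hx => ?_)
      have hx0 : Q x = 0 := by
        rw [hL, Finset.mem_filter] at hx
        rw [hx.2, hα]
      have := hfib x
      rwa [if_pos hx0] at this
    have h5 : L.card * q ≤ 2 * N := by rw [hL0]; exact hz
    have hq1 : q ≤ q + 1 := Nat.le_succ _
    calc (Finset.univ.filter fun p : V × V =>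
            Q p.1 = α ∧ Q p.2 = γ ∧ polar Q p.1 p.2 = 1).card * q ^ 4
        ≤ (∑ x ∈ L, (Finset.univ.filter fun y : V => polar Q x y = 1 ∧ Q y = γ).card) * q ^ 4 :=
          Nat.mul_le_mul_right _ hsum
      _ = ((∑ x ∈ L, (Finset.univ.filter fun y : V => polar Q x y = 1 ∧ Q y = γ).card) * q ^ 2)
            * q ^ 2 := by ring
      _ ≤ (L.card * N) * q ^ 2 := Nat.mul_le_mul_right _ h4
      _ = (L.card * q) * (N * q) := by ring
      _ ≤ (2 * N) * (N * q) := Nat.mul_le_mul_right _ h5
      _ = 2 * q * N ^ 2 := by ring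
      _ ≤ 2 * (q + 1) * N ^ 2 := by
          apply Nat.mul_le_mul_right
          omega
  · -- non-singular first component
    have hlev := h1_level_count h2 Q u v huv α hα
    have h4 : (∑ x ∈ L, (Finset.univ.filter fun y : V => polar Q x y = 1 ∧ Q y = γ).card) * q ^ 2
        ≤ L.card * (2 * N) := by
      rw [Finset.sum_mul, Finset.card_eq_sum_ones, Finset.sum_mul]
      refine Finset.sum_le_sum (fun x hx => ?_)
      have hx0 : Q x ≠ 0 := by
        rw [hL, Finset.mem_filter] at hx
        rw [hx.2]
        exact hα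
      have := hfib x
      rw [if_neg hx0] at this
      rw [one_mul]
      exact this
    calc (Finset.univ.filter fun p : V × V =>
            Q p.1 = α ∧ Q p.2 = γ ∧ polar Q p.1 p.2 = 1).card * q ^ 4
        ≤ (∑ x ∈ L, (Finset.univ.filter fun y : V => polar Q x y = 1 ∧ Q y = γ).card) * q ^ 4 :=
          Nat.mul_le_mul_right _ hsum
      _ = ((∑ x ∈ L, (Finset.univ.filter fun y : V => polar Q x y = 1 ∧ Q y = γ).card) * q ^ 2)
            * q ^ 2 := by ring
      _ ≤ (L.card * (2 * N)) * q ^ 2 := Nat.mul_le_mul_right _ h4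
      _ = (q ^ 2 * L.card) * (2 * N) := by ring
      _ ≤ ((q + 1) * N) * (2 * N) := Nat.mul_le_mul_right _ hlev
      _ = 2 * (q + 1) * N ^ 2 := by ring

end Cfsg.Agent.LS3
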