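import Mathlib

set_option autoImplicit false
set_option linter.unusedSectionVars false

/-!
LS3 / S2333 (helper8): ingredients of the orbit count for quadratic forms — the split of `|GL_n(q)|`,
the dimension of `{x, y}^⊥`, and a fibre-counting lemma.
-/

namespace Cfsg.Agent.LS3

open QuadraticMap

section glcard

variable {F : Type*} [Field F] [Fintype F]

theorem h8_card_GL_split (m : ℕ) :
    Nat.card (GL (Fin (m + 2)) F)
      = (Fintype.card F ^ (m + 2) - 1) * (Fintype.card F ^ (m + 2) - Fintype.card F)
        * Fintype.card F ^ (2 * m) * ∏ i : Fin m, (Fintype.card F ^ m - Fintype.card F ^ (i : ℕ)) := by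
  rw [Matrix.card_GL_field, Fin.prod_univ_succ, Fin.prod_univ_succ]
  simp only [Fin.val_zero, pow_zero, Fin.val_succ, zero_add, pow_one]
  have h : ∀ i : Fin m, Fintype.card F ^ (m + 2) - Fintype.card F ^ ((i : ℕ) + 1 + 1)
      = Fintype.card F ^ 2 * (Fintype.card F ^ m - Fintype.card F ^ (i : ℕ)) := by
    intro i
    rw [Nat.mul_sub]
    congr 1 <;> ring
  rw [Finset.prod_congr rfl (fun i _ => h i), Finset.prod_mul_distrib, Finset.prod_const,
    Finset.card_univ, Fintype.card_fin, ← pow_mul]
  ring

theorem h8_prod_pos (m : ℕ) :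
    0 < ∏ i : Fin m, (Fintype.card F ^ m - Fintype.card F ^ (i : ℕ)) := by
  apply Finset.prod_pos
  intro i _
  have h1 : 1 < Fintype.card F := Fintype.one_lt_card
  have h2 : Fintype.card F ^ (i : ℕ) < Fintype.card F ^ m := Nat.pow_lt_pow_right h1 i.isLt
  omega

end glcard

section perp

variable {F : Type*} [Field F] {V : Type*} [AddCommGroup V] [Module F V]
variable (Q : QuadraticForm F V)

/-- the linear map `z ↦ (B(x, z), B(y, z))`. -/
def h8_perpMap (x y : V) : V →ₗ[F] F × F := (Q.polarBilin x).prod (Q.polarBilin y)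

theorem h8_perpMap_apply (x y z : V) : h8_perpMap Q x y z = (polar Q x z, polar Q y z) := rfl

/-- `{x, y}^⊥`. -/
def h8_perp (x y : V) : Submodule F V := LinearMap.ker (h8_perpMap Q x y)

theorem h8_mem_perp (x y z : V) : z ∈ h8_perp Q x y ↔ polar Q x z = 0 ∧ polar Q y z = 0 := by
  rw [h8_perp, LinearMap.mem_ker, h8_perpMap_apply, Prod.mk_eq_zero]

theorem h8_finrank_perp [FiniteDimensional F V] (x y : V) (hxy : polar Q x y = 1)
    (hx : polar Q x x = 0) (hy : polar Q y y = 0) :
    Module.finrank F (h8_perp Q x y) + 2 = Module.finrank F V := by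
  have hsurj : LinearMap.range (h8_perpMap Q x y) = ⊤ := by
    rw [LinearMap.range_eq_top]
    intro p
    refine ⟨p.2 • x + p.1 • y, ?_⟩
    rw [h8_perpMap_apply, polar_add_right, polar_add_right, polar_smul_right, polar_smul_right,
      polar_smul_right, polar_smul_right, hx, hy, hxy, polar_comm (⇑Q) y x, hxy]
    simp
  have h := LinearMap.finrank_range_add_finrank_ker (h8_perpMap Q x y)
  rw [hsurj, finrank_top, Module.finrank_prod, Module.finrank_self] at h
  rw [h8_perp]
  omega

/-- the decomposition `z = z' + B(v, z) u + B(u, z) v` with `z' ∈ {u, v}^⊥`. -/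
theorem h8_decomp (u v : V) (huv : polar Q u v = 1) (hu : polar Q u u = 0) (hv : polar Q v v = 0)
    (z : V) : z - polar Q v z • u - polar Q u z • v ∈ h8_perp Q u v := by
  rw [h8_mem_perp]
  constructor
  · rw [polar_sub_right, polar_sub_right, polar_smul_right, polar_smul_right, hu, huv]
    simp
  · rw [polar_sub_right, polar_sub_right, polar_smul_right, polar_smul_right, hv,
      polar_comm (⇑Q) v u, huv]
    simp

end perp

section fibres

/-- if every fibre of `f` has at most `k` points then `|α| ≤ k |range f|`. -/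
theorem h8_card_le_mul_range {α β : Type*} [Finite α] (f : α → β) (k : ℕ)
    (hk : ∀ b : β, Nat.card {a : α // f a = b} ≤ k) :
    Nat.card α ≤ k * Nat.card (Set.range f) := by
  classical
  have : Fintype α := Fintype.ofFinite α
  have h1 := Finset.card_le_mul_card_image (s := (Finset.univ : Finset α)) (f := f) k (by
    intro b _
    have := hk b
    rw [Nat.card_eq_fintype_card, Fintype.card_subtype] at this
    exact this)
  rw [Finset.card_univ] at h1
  rw [Nat.card_eq_fintype_card]
  have h2 : Nat.card (Set.range f) = (Finset.univ.image f).card := by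
    rw [← Set.toFinset_range, Nat.card_eq_fintype_card, Set.toFinset_card]
  rw [h2]
  exact h1

end fibres

end Cfsg.Agent.LS3
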