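import Mathlib
import Cfsg.Agent.LS3.H8_QOrbA
import Cfsg.Agent.LS3.H8_PairCount

set_option autoImplicit false
set_option linter.unusedSectionVars false

/-!
LS3 / S2333 (helper8): the orbit count.  For a quadratic form `Q` on `F^n` (`F` finite of
characteristic two) with non-zero polar form, the `GL_n(F)`-orbit of `Q` has at least
`(q^n - 1)(q^n - q) / (2 (q + 1))` elements.
-/

namespace Cfsg.Agent.LS3

open QuadraticMap Matrix

section orbit

variable {F : Type*} [Field F] [Fintype F] {m : ℕ}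
variable (Q : QuadraticForm F (Fin (m + 2) → F))

/-- the form `Q ∘ A` as a function. -/
def h8_act (A : GL (Fin (m + 2)) F) : (Fin (m + 2) → F) → F := fun x => Q (A.1 *ᵥ x)

/-- the stabiliser of `Q`. -/
def h8_stab : Set (GL (Fin (m + 2)) F) := {S | ∀ x, Q (S.1 *ᵥ x) = Q x}

theorem h8_stab_polar {S : GL (Fin (m + 2)) F} (hS : S ∈ h8_stab Q) (x y : Fin (m + 2) → F) :
    polar Q (S.1 *ᵥ x) (S.1 *ᵥ y) = polar Q x y := by
  unfold polar
  rw [← Matrix.mulVec_add, hS (x + y), hS x, hS y]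

theorem h8_inv_mulVec (S : GL (Fin (m + 2)) F) (x : Fin (m + 2) → F) :
    (S⁻¹ : GL (Fin (m + 2)) F).1 *ᵥ (S.1 *ᵥ x) = x := by
  rw [Matrix.mulVec_mulVec, ← Units.val_mul, inv_mul_cancel, Units.val_one, Matrix.one_mulVec]

theorem h8_mulVec_inv (S : GL (Fin (m + 2)) F) (x : Fin (m + 2) → F) :
    S.1 *ᵥ ((S⁻¹ : GL (Fin (m + 2)) F).1 *ᵥ x) = x := by
  rw [Matrix.mulVec_mulVec, ← Units.val_mul, mul_inv_cancel, Units.val_one, Matrix.one_mulVec]

/-- **Step I**: `|GL_n| ≤ |Stab Q| · |orbit|`. -/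
theorem h8_stepI :
    Nat.card (GL (Fin (m + 2)) F)
      ≤ Nat.card (h8_stab Q) * Nat.card (Set.range (h8_act Q)) := by
  classical
  refine h8_card_le_mul_range (h8_act Q) _ ?_
  intro b
  by_cases hb : Nonempty {A : GL (Fin (m + 2)) F // h8_act Q A = b}
  · obtain ⟨⟨A0, hA0⟩⟩ := hb
    refine Nat.card_le_card_of_injective
      (fun A : {A : GL (Fin (m + 2)) F // h8_act Q A = b} =>
        (⟨A.1 * A0⁻¹, by
          intro x
          have h1 : h8_act Q A.1 ((A0⁻¹ : GL (Fin (m + 2)) F).1 *ᵥ x)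
              = h8_act Q A0 ((A0⁻¹ : GL (Fin (m + 2)) F).1 *ᵥ x) := by rw [A.2, hA0]
          simp only [h8_act] at h1
          rw [h8_mulVec_inv] at h1
          rw [Units.val_mul, ← Matrix.mulVec_mulVec]
          exact h1⟩ : h8_stab Q)) ?_
    intro A A' h
    have h1 := congrArg Subtype.val h
    simp only at h1
    exact Subtype.ext (mul_right_cancel h1)
  · rw [not_nonempty_iff] at hb
    rw [Nat.card_of_isEmpty]
    exact Nat.zero_le _

/-- the pairs of a given type. -/
def h8_pairs (α γ : F) : Set ((Fin (m + 2) → F) × (Fin (m + 2) → F)) :=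
  {p | Q p.1 = α ∧ Q p.2 = γ ∧ polar Q p.1 p.2 = 1}

theorem h8_mulVecLin_ker (S : GL (Fin (m + 2)) F) : LinearMap.ker (Matrix.mulVecLin S.1) = ⊥ := by
  rw [LinearMap.ker_eq_bot]
  intro x y hxy
  simp only [Matrix.mulVecLin_apply] at hxy
  rw [← h8_inv_mulVec S x, hxy, h8_inv_mulVec]

/-- **Step II**: `|Stab Q| ≤ |GL_{n-2}| · #pairs`. -/
theorem h8_stepII (hself : ∀ x, polar Q x x = 0) (u v : Fin (m + 2) → F)
    (huv : polar Q u v = 1) :
    Nat.card (h8_stab Q)
      ≤ (∏ i : Fin m, (Fintype.card F ^ m - Fintype.card F ^ (i : ℕ)))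
        * Nat.card (h8_pairs Q (Q u) (Q v)) := by
  classical
  set f : h8_stab Q → (Fin (m + 2) → F) × (Fin (m + 2) → F) :=
    fun S => (S.1.1 *ᵥ u, S.1.1 *ᵥ v) with hf
  have hrange : Set.range f ⊆ h8_pairs Q (Q u) (Q v) := by
    rintro p ⟨S, rfl⟩
    exact ⟨S.2 u, S.2 v, by rw [h8_stab_polar Q S.2, huv]⟩
  refine le_trans (h8_card_le_mul_range f
    (∏ i : Fin m, (Fintype.card F ^ m - Fintype.card F ^ (i : ℕ))) ?_)
    (Nat.mul_le_mul_left _ (Nat.card_mono (Set.toFinite _) hrange))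
  intro b
  by_cases hb : Nonempty {S : h8_stab Q // f S = b}
  · obtain ⟨⟨S0, hS0⟩⟩ := hb
    obtain ⟨x, y⟩ := b
    have hx0 : S0.1.1 *ᵥ u = x := congrArg Prod.fst hS0
    have hy0 : S0.1.1 *ᵥ v = y := congrArg Prod.snd hS0
    have hxy : polar Q x y = 1 := by rw [← hx0, ← hy0, h8_stab_polar Q S0.2, huv]
    -- dimensions
    have hfr : Module.finrank F (h8_perp Q x y) = m := by
      have := h8_finrank_perp Q x y hxy (hself x) (hself y)
      rw [Module.finrank_fin_fun] at this
      omega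
    have hfr0 : Module.finrank F (h8_perp Q u v) = m := by
      have := h8_finrank_perp Q u v huv (hself u) (hself v)
      rw [Module.finrank_fin_fun] at this
      omega
    let bs : Module.Basis (Fin m) F (h8_perp Q u v) := Module.finBasisOfFinrankEq F _ hfr0
    have hcount : Nat.card {s : Fin m → h8_perp Q x y // LinearIndependent F s}
        = ∏ i : Fin m, (Fintype.card F ^ m - Fintype.card F ^ (i : ℕ)) := by
      rw [card_linearIndependent (le_of_eq hfr.symm), hfr]
    rw [← hcount]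
    -- the map
    have hmem : ∀ (S : {S : h8_stab Q // f S = (x, y)}) (i : Fin m),
        S.1.1.1 *ᵥ (bs i : Fin (m + 2) → F) ∈ h8_perp Q x y := by
      intro S i
      have hx : S.1.1.1 *ᵥ u = x := congrArg Prod.fst S.2
      have hy : S.1.1.1 *ᵥ v = y := congrArg Prod.snd S.2
      have hw := (h8_mem_perp Q u v _).mp (bs i).2
      have h1 := h8_stab_polar Q S.1.2 u (bs i : Fin (m + 2) → F)
      have h2 := h8_stab_polar Q S.1.2 v (bs i : Fin (m + 2) → F)
      rw [hx, hw.1] at h1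
      rw [hy, hw.2] at h2
      exact (h8_mem_perp Q x y _).mpr ⟨h1, h2⟩
    refine Nat.card_le_card_of_injective
      (fun S : {S : h8_stab Q // f S = (x, y)} =>
        (⟨fun i => ⟨S.1.1.1 *ᵥ (bs i : Fin (m + 2) → F), hmem S i⟩, by
          apply LinearIndependent.of_comp (h8_perp Q x y).subtype
          have h1 : LinearIndependent F (fun i => ((bs i : h8_perp Q u v) : Fin (m + 2) → F)) :=
            bs.linearIndependent.map' (h8_perp Q u v).subtype (Submodule.ker_subtype _)
          exact h1.map' (Matrix.mulVecLin S.1.1.1) (h8_mulVecLin_ker S.1.1)⟩ :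
          {s : Fin m → h8_perp Q x y // LinearIndependent F s})) ?_
    intro S S' hSS
    have hb : ∀ i, S.1.1.1 *ᵥ (bs i : Fin (m + 2) → F) = S'.1.1.1 *ᵥ (bs i : Fin (m + 2) → F) := by
      intro i
      have h1 := congrArg Subtype.val hSS
      have h2 := congrFun h1 i
      exact congrArg Subtype.val h2
    have hu : S.1.1.1 *ᵥ u = S'.1.1.1 *ᵥ u :=
      (congrArg Prod.fst S.2).trans (congrArg Prod.fst S'.2).symm
    have hv : S.1.1.1 *ᵥ v = S'.1.1.1 *ᵥ v :=
      (congrArg Prod.snd S.2).trans (congrArg Prod.snd S'.2).symm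
    -- the two linear maps agree on `{u, v}^⊥`
    have hperp : (Matrix.mulVecLin S.1.1.1).comp (h8_perp Q u v).subtype
        = (Matrix.mulVecLin S'.1.1.1).comp (h8_perp Q u v).subtype := by
      apply bs.ext
      intro i
      simp only [LinearMap.comp_apply, Submodule.subtype_apply, Matrix.mulVecLin_apply]
      exact hb i
    have hall : ∀ z, S.1.1.1 *ᵥ z = S'.1.1.1 *ᵥ z := by
      intro z
      have hz := h8_decomp Q u v huv (hself u) (hself v) z
      have h1 := LinearMap.congr_fun hperp ⟨_, hz⟩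
      simp only [LinearMap.comp_apply, Submodule.subtype_apply, Matrix.mulVecLin_apply] at h1
      have h2 : z = (z - polar Q v z • u - polar Q u z • v) + polar Q v z • u + polar Q u z • v := by
        abel
      rw [h2, Matrix.mulVec_add, Matrix.mulVec_add, Matrix.mulVec_add, Matrix.mulVec_add,
        Matrix.mulVec_smul, Matrix.mulVec_smul, Matrix.mulVec_smul, Matrix.mulVec_smul, h1, hu, hv]
    apply Subtype.ext
    apply Subtype.ext
    apply Units.ext
    exact Matrix.ext_iff_mulVec.mpr hall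
  · rw [not_nonempty_iff] at hb
    rw [Nat.card_of_isEmpty]
    exact Nat.zero_le _

/-- **the orbit bound**, abstract form. -/
theorem h8_orbit_bound (h2 : (2 : F) = 0) (u v : Fin (m + 2) → F) (huv : polar Q u v = 1) :
    (Fintype.card F ^ (m + 2) - 1) * (Fintype.card F ^ (m + 2) - Fintype.card F)
      ≤ 2 * (Fintype.card F + 1) * Nat.card (Set.range (h8_act Q)) := by
  classical
  have hself : ∀ x, polar Q x x = 0 := h8_polar_self Q h2
  have hI := h8_stepI Q
  have hII := h8_stepII Q hself u v huv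
  have hsplit := h8_card_GL_split (F := F) m
  have hL := h8_prod_pos (F := F) m
  have hP : Nat.card (h8_pairs Q (Q u) (Q v)) * Fintype.card F ^ 4
      ≤ 2 * (Fintype.card F + 1) * (Fintype.card F ^ (m + 2)) ^ 2 := by
    have h := h8_pair_count Q h2 u v huv (Q u) (Q v)
    rw [Fintype.card_fun, Fintype.card_fin] at h
    have h3 : Nat.card (h8_pairs Q (Q u) (Q v))
        = (Finset.univ.filter fun p : (Fin (m + 2) → F) × (Fin (m + 2) → F) =>
            Q p.1 = Q u ∧ Q p.2 = Q v ∧ polar Q p.1 p.2 = 1).card := by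
      rw [← Nat.card_eq_finsetCard]
      apply Nat.card_congr
      refine Equiv.subtypeEquivRight (fun p => ?_)
      simp only [h8_pairs, Set.mem_ofPred_eq, Finset.mem_filter, Finset.mem_univ, true_and]
    rw [h3]
    exact h
  set q := Fintype.card F with hq
  set L := ∏ i : Fin m, (q ^ m - q ^ (i : ℕ)) with hLdef
  set O := Nat.card (Set.range (h8_act Q)) with hO
  set P := Nat.card (h8_pairs Q (Q u) (Q v)) with hPdef
  set A := (q ^ (m + 2) - 1) * (q ^ (m + 2) - q) with hA
  have hq0 : 0 < q := Fintype.card_pos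
  -- cancel `L`
  have h1 : A * q ^ (2 * m) * L ≤ (P * O) * L := by
    calc A * q ^ (2 * m) * L = Nat.card (GL (Fin (m + 2)) F) := hsplit.symm
      _ ≤ Nat.card (h8_stab Q) * O := hI
      _ ≤ (L * P) * O := Nat.mul_le_mul_right _ hII
      _ = (P * O) * L := by ring
  have h3 : A * q ^ (2 * m) ≤ P * O := Nat.le_of_mul_le_mul_right h1 hL
  -- multiply by `q ^ 4`
  have h4 : A * q ^ (2 * m + 4) ≤ (2 * (q + 1) * O) * q ^ (2 * m + 4) := by
    calc A * q ^ (2 * m + 4) = (A * q ^ (2 * m)) * q ^ 4 := by ring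
      _ ≤ (P * O) * q ^ 4 := Nat.mul_le_mul_right _ h3
      _ = (P * q ^ 4) * O := by ring
      _ ≤ (2 * (q + 1) * (q ^ (m + 2)) ^ 2) * O := Nat.mul_le_mul_right _ hP
      _ = (2 * (q + 1) * O) * q ^ (2 * m + 4) := by ring
  exact Nat.le_of_mul_le_mul_right h4 (pow_pos hq0 _)

end orbit

section final

variable {F : Type*} [Field F] [Fintype F]

theorem h8_toQF_apply {n : ℕ} (c : Matrix (Fin n) (Fin n) F) (x : Fin n → F) :
    Matrix.toQuadraticForm' c x = x ⬝ᵥ (c *ᵥ x) := by
  rw [Matrix.toQuadraticForm', LinearMap.BilinMap.toQuadraticMap_apply,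
    Matrix.toLinearMap₂'_apply']

theorem h8_toQF_polar {n : ℕ} (c : Matrix (Fin n) (Fin n) F) (x y : Fin n → F) :
    polar (Matrix.toQuadraticForm' c) x y = x ⬝ᵥ ((c + cᵀ) *ᵥ y) := by
  rw [Matrix.toQuadraticForm', LinearMap.BilinMap.polar_toQuadraticMap,
    Matrix.toLinearMap₂'_apply', Matrix.toLinearMap₂'_apply', Matrix.add_mulVec, dotProduct_add]
  congr 1
  rw [Matrix.dotProduct_mulVec, Matrix.mulVec_transpose, dotProduct_comm]

/-- **the orbit lemma (Q)** in helper6's shape. -/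
theorem h8_quad_orbit (hq : Even (Fintype.card F)) (n : ℕ) (hn : 2 ≤ n)
    (c : Matrix (Fin n) (Fin n) F) (hc : c + cᵀ ≠ 0) :
    (Fintype.card F ^ n - 1) * (Fintype.card F ^ n - Fintype.card F)
      ≤ 2 * (Fintype.card F + 1) * Nat.card {g : (Fin n → F) → F //
          ∃ A : GL (Fin n) F, g = fun x => (A.1 *ᵥ x) ⬝ᵥ (c *ᵥ (A.1 *ᵥ x))} := by
  classical
  obtain ⟨m, rfl⟩ : ∃ m, n = m + 2 := ⟨n - 2, by omega⟩
  -- characteristic two
  have h2 : (2 : F) = 0 := by
    obtain ⟨p, hp⟩ := CharP.exists F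
    obtain ⟨e, hprime, hcard⟩ := FiniteField.card F p
    have h2' : 2 ∣ p ^ (e : ℕ) := by
      rw [← hcard]; exact even_iff_two_dvd.mp hq
    have h3 : 2 ∣ p := (Nat.Prime.dvd_of_dvd_pow Nat.prime_two h2')
    have h4 : p = 2 := ((Nat.prime_dvd_prime_iff_eq Nat.prime_two hprime).mp h3).symm
    subst h4
    have := CharP.cast_eq_zero F 2
    exact_mod_cast this
  set Q : QuadraticForm F (Fin (m + 2) → F) := Matrix.toQuadraticForm' c with hQ
  -- a pair with `B(u, v) = 1`
  obtain ⟨i, j, hij⟩ : ∃ i j, (c + cᵀ) i j ≠ 0 := by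
    by_contra hcon
    push Not at hcon
    apply hc
    ext i j
    exact hcon i j
  have hpol : polar Q (Pi.single i 1) (((c + cᵀ) i j)⁻¹ • Pi.single j 1) = 1 := by
    rw [hQ, h8_toQF_polar, Matrix.mulVec_smul, dotProduct_smul, Matrix.mulVec_single_one,
      single_one_dotProduct]
    simp only [smul_eq_mul]
    exact inv_mul_cancel₀ hij
  have hmain := h8_orbit_bound Q h2 _ _ hpol
  have hcard : Nat.card (Set.range (h8_act Q)) = Nat.card {g : (Fin (m + 2) → F) → F //
      ∃ A : GL (Fin (m + 2)) F, g = fun x => (A.1 *ᵥ x) ⬝ᵥ (c *ᵥ (A.1 *ᵥ x))} := by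
    apply Nat.card_congr
    refine Equiv.subtypeEquivRight (fun g => ?_)
    constructor
    · rintro ⟨A, rfl⟩
      refine ⟨A, ?_⟩
      funext x
      simp only [h8_act, hQ, h8_toQF_apply]
    · rintro ⟨A, rfl⟩
      refine ⟨A, ?_⟩
      funext x
      simp only [h8_act, hQ, h8_toQF_apply]
  rw [← hcard]
  exact hmain

end final

end Cfsg.Agent.LS3
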