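import Mathlib
import Cfsg.Agent.LS3.H1_SymChar

set_option autoImplicit false

/-!
LS3 / S2333 (helper8): the Siegel unipotent radical `u(S) = [[1, S], [0, 1]]` (`S` symmetric) and the
Levi elements `d(A) = diag(A, A⁻ᵀ)` in Mathlib's `Matrix.symplecticGroup (Fin n) F`.
-/

namespace Cfsg.Agent.LS3

open Matrix

variable {F : Type*} [Field F] {n : ℕ}

/-- the unipotent element `[[1, S], [0, 1]]`. -/
def h8_uS (S : Matrix (Fin n) (Fin n) F) (hS : Sᵀ = S) : ↥(Matrix.symplecticGroup (Fin n) F) :=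
  ⟨fromBlocks 1 S 0 1, by
    rw [SymplecticGroup.fromBlocks_mem_iff]
    refine ⟨by simp, ?_, by simp⟩
    rw [hS]
    simp⟩

theorem h8_uS_coe (S : Matrix (Fin n) (Fin n) F) (hS : Sᵀ = S) :
    ((h8_uS S hS : ↥(Matrix.symplecticGroup (Fin n) F)) :
      Matrix (Fin n ⊕ Fin n) (Fin n ⊕ Fin n) F) = fromBlocks 1 S 0 1 := rfl

theorem h8_uS_mul (S S' : Matrix (Fin n) (Fin n) F) (hS : Sᵀ = S) (hS' : S'ᵀ = S') :
    h8_uS S hS * h8_uS S' hS' = h8_uS (S + S') (by rw [transpose_add, hS, hS']) := by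
  apply Subtype.ext
  rw [Submonoid.coe_mul, h8_uS_coe, h8_uS_coe, h8_uS_coe, fromBlocks_multiply]
  simp [add_comm]

theorem h8_uS_zero : h8_uS (0 : Matrix (Fin n) (Fin n) F) (transpose_zero) = 1 := by
  apply Subtype.ext
  show fromBlocks (1 : Matrix (Fin n) (Fin n) F) 0 0 1 = _
  rw [Submonoid.coe_one, fromBlocks_one]

theorem h8_uS_congr {S S' : Matrix (Fin n) (Fin n) F} (h : S = S') (hS : Sᵀ = S) (hS' : S'ᵀ = S') :
    h8_uS S hS = h8_uS S' hS' := by
  subst h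
  rfl

/-- the Siegel radical as a homomorphism from the upper-triangle coordinates. -/
def h8_uHom : Multiplicative (h1_UT n → F) →* ↥(Matrix.symplecticGroup (Fin n) F) where
  toFun a := h8_uS (h1_symOf a.toAdd) (h1_symOf_transpose _)
  map_one' := by
    rw [← h8_uS_zero]
    exact h8_uS_congr h1_symOf_zero _ _
  map_mul' := by
    intro a b
    rw [h8_uS_mul]
    exact h8_uS_congr (h1_symOf_add _ _) _ _

theorem h8_uHom_apply (a : h1_UT n → F) :
    h8_uHom (Multiplicative.ofAdd a) = h8_uS (h1_symOf a) (h1_symOf_transpose a) := rfl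

/-- the Levi elements `diag(A, A⁻ᵀ)`. -/
def h8_dA (A : GL (Fin n) F) : ↥(Matrix.symplecticGroup (Fin n) F) :=
  ⟨fromBlocks (A : Matrix (Fin n) (Fin n) F) 0 0
      ((A⁻¹ : GL (Fin n) F) : Matrix (Fin n) (Fin n) F)ᵀ, by
    rw [SymplecticGroup.fromBlocks_mem_iff]
    refine ⟨by simp, by simp, ?_⟩
    rw [← transpose_mul, ← Units.val_mul, inv_mul_cancel]
    simp⟩

theorem h8_dA_coe (A : GL (Fin n) F) :
    ((h8_dA A : ↥(Matrix.symplecticGroup (Fin n) F)) :
      Matrix (Fin n ⊕ Fin n) (Fin n ⊕ Fin n) F)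
      = fromBlocks (A : Matrix (Fin n) (Fin n) F) 0 0
      ((A⁻¹ : GL (Fin n) F) : Matrix (Fin n) (Fin n) F)ᵀ := rfl

theorem h8_conj_symm (A S : Matrix (Fin n) (Fin n) F) (hS : Sᵀ = S) :
    (A * S * Aᵀ)ᵀ = A * S * Aᵀ := by
  rw [transpose_mul, transpose_mul, transpose_transpose, hS, Matrix.mul_assoc]

/-- `d(A) u(S) = u(A S Aᵀ) d(A)`. -/
theorem h8_dA_mul_uS (A : GL (Fin n) F) (S : Matrix (Fin n) (Fin n) F) (hS : Sᵀ = S) :
    h8_dA A * h8_uS S hS
      = h8_uS ((A : Matrix (Fin n) (Fin n) F) * S * (A : Matrix (Fin n) (Fin n) F)ᵀ)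
          (h8_conj_symm _ S hS) * h8_dA A := by
  apply Subtype.ext
  rw [Submonoid.coe_mul, Submonoid.coe_mul, h8_uS_coe, h8_uS_coe, h8_dA_coe, fromBlocks_multiply,
    fromBlocks_multiply]
  simp only [mul_one, mul_zero, add_zero, zero_mul, zero_add, one_mul]
  congr 1
  rw [Matrix.mul_assoc, ← transpose_mul, ← Units.val_mul, inv_mul_cancel]
  simp

/-- a nontrivial element of the Siegel radical is not central. -/
theorem h8_uS_not_mem_center (S : Matrix (Fin n) (Fin n) F) (hS : Sᵀ = S) (h0 : S ≠ 0) :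
    h8_uS S hS ∉ Subgroup.center ↥(Matrix.symplecticGroup (Fin n) F) := by
  intro h
  rw [Subgroup.mem_center_iff] at h
  have h1 := h (SymplecticGroup.symJ (Fin n) F)
  have h3 := congrArg Subtype.val h1
  rw [Submonoid.coe_mul, Submonoid.coe_mul, SymplecticGroup.coe_J] at h3
  change J (Fin n) F * fromBlocks 1 S 0 1 = fromBlocks 1 S 0 1 * J (Fin n) F at h3
  unfold J at h3
  rw [fromBlocks_multiply, fromBlocks_multiply] at h3
  apply h0
  ext i j
  have h4 := congrFun (congrFun h3 (Sum.inl i)) (Sum.inl j)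
  simp only [fromBlocks_apply₁₁] at h4
  simp at h4
  exact h4.symm

end Cfsg.Agent.LS3
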