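import Mathlib
import Cfsg.Agent.Helper8.LSA
import Cfsg.Agent.Helper8.LSB
import Cfsg.Agent.LS3.H1_SymChar
import Cfsg.Agent.LS3.H4_NT
import Cfsg.Agent.LS3.H8_Siegel
import Cfsg.Agent.LS3.H8_QOrb
import Cfsg.Agent.S0270

set_option autoImplicit false

/-!
LS3 / S2333 (helper8): the Landazuri–Seitz type bound for `Sp_{2n}(q)`, `q` even — assembly.
-/

namespace Cfsg.Agent.LS3

open Matrix Cfsg.Agent.Helper8.LS

/-- **S2333**, with the degree `n` arbitrary `≥ 2`. -/
theorem h8_sp_even {F : Type*} [Field F] [Fintype F] [DecidableEq F] (n : ℕ) (hn : 2 ≤ n)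
    (heven : Even (Fintype.card F)) (hex : (n, Fintype.card F) ≠ (2, 2)) (k : ℕ)
    (ρ : Representation ℂ (Matrix.symplecticGroup (Fin n) F) (Fin k → ℂ))
    (hirr : ρ.IsIrreducible) (hk : 2 ≤ k) :
    (Fintype.card F ^ n - 1) * (Fintype.card F ^ n - Fintype.card F)
      / (2 * (Fintype.card F + 1)) ≤ k := by
  classical
  -- characteristic two
  have hchar : CharP F 2 := by
    obtain ⟨p, hp⟩ := CharP.exists F
    obtain ⟨e, hprime, hcard⟩ := FiniteField.card F p
    have h2 : 2 ∣ p ^ (e : ℕ) := by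
      rw [← hcard]; exact even_iff_two_dvd.mp heven
    have h3 : 2 ∣ p := (Nat.Prime.dvd_of_dvd_pow Nat.prime_two h2)
    have h4 : p = 2 := ((Nat.prime_dvd_prime_iff_eq Nat.prime_two hprime).mp h3).symm
    rw [← h4]; exact hp
  -- simplicity of `PSp`
  have hcard2 : 2 ≤ Fintype.card F := Fintype.one_lt_card
  have hs : IsSimpleGroup (Cfsg.PSp n F) := by
    refine Cfsg.Agent.S0270.result n hn ?_
    intro h2
    by_contra hlt
    apply hex
    have : Fintype.card F = 2 := by omega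
    rw [h2, this]
  -- roots of unity
  have : NeZero ((2 : ℕ) : ℂ) := ⟨by norm_num⟩
  have : HasEnoughRootsOfUnity ℂ 2 := inferInstance
  have hE1 : HasEnoughRootsOfUnity ℂ (Monoid.exponent (Multiplicative (h1_UT n → F))) :=
    hasEnough_exponent 2
  have hE2 : HasEnoughRootsOfUnity ℂ (Monoid.exponent (Multiplicative F)) :=
    hasEnough_exponent' 2
  obtain ⟨ψ, hψ⟩ := exists_char_ne_one (F := F) (K := ℂ)
  -- the action of the Siegel radical
  let T : Multiplicative (h1_UT n → F) →* Module.End ℂ (Fin k → ℂ) := ρ.comp h8_uHom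
  have hA : (Fintype.card (Multiplicative (h1_UT n → F)) : ℂ) ≠ 0 :=
    Nat.cast_ne_zero.mpr Fintype.card_ne_zero
  -- the element `u(E_01 + E_10)`
  let i0 : Fin n := ⟨0, by omega⟩
  let i1 : Fin n := ⟨1, by omega⟩
  have h01 : i0 ≤ i1 := by
    show (0 : ℕ) ≤ 1
    omega
  let p01 : h1_UT n := ⟨(i0, i1), h01⟩
  let a0 : h1_UT n → F := Pi.single p01 1
  have ha0 : h1_symOf a0 ≠ 0 := by
    intro h
    have := congrFun (congrFun h i0) i1
    rw [h1_symOf_apply_le a0 h01] at this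
    simp [a0, p01] at this
  have ha0diag : ∀ i, h1_symOf a0 i i = 0 := by
    intro i
    rw [h1_symOf_apply_le a0 (le_refl i)]
    have hne : (⟨(i, i), le_refl i⟩ : h1_UT n) ≠ p01 := by
      intro h
      have h1 := congrArg (fun p : h1_UT n => p.1.1.val) h
      have h2 := congrArg (fun p : h1_UT n => p.1.2.val) h
      simp only [p01, i0, i1] at h1 h2
      omega
    simp [a0, hne]
  have hz : T (Multiplicative.ofAdd a0) ≠ 1 := by
    show ρ (h8_uHom (Multiplicative.ofAdd a0)) ≠ 1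
    rw [h8_uHom_apply]
    exact h4_nt hs ρ hirr hk (h8_uS_not_mem_center _ _ ha0)
  obtain ⟨χ, hχne, hχ1⟩ := exists_wt_ne_bot T hA _ hz
  obtain ⟨c, rfl⟩ := h1_symChar_surjective hψ χ
  have hc : c + cᵀ ≠ 0 := by
    intro hc
    exact hχ1 (h1_symChar_eq_one_of_alt ψ c hc a0 ha0diag)
  -- the orbit
  have hW : ∀ B : GL (Fin n) F,
      wt T (h1_symChar ψ ((B : Matrix (Fin n) (Fin n) F)ᵀ * c * (B : Matrix (Fin n) (Fin n) F))) ≠ ⊥ := by
    intro B
    have hinj : Function.Injective (ρ (h8_dA B)⁻¹) := by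
      intro v w hvw
      have h1 : ρ (h8_dA B) (ρ (h8_dA B)⁻¹ v) = ρ (h8_dA B) (ρ (h8_dA B)⁻¹ w) := by rw [hvw]
      rw [← Module.End.mul_apply, ← Module.End.mul_apply, ← map_mul, mul_inv_cancel, map_one] at h1
      exact h1
    refine wt_ne_bot_of_conj' T (ρ (h8_dA B)⁻¹) hinj _ (h1_symChar ψ c) ?_ hχne
    intro a'
    refine ⟨Multiplicative.ofAdd (h1_toSym ((B : Matrix (Fin n) (Fin n) F) * h1_symOf a'.toAdd *
      (B : Matrix (Fin n) (Fin n) F)ᵀ)), ?_, ?_⟩
    · show ρ (h8_dA B)⁻¹ * ρ (h8_uHom _) = ρ (h8_uHom a') * ρ (h8_dA B)⁻¹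
      rw [← map_mul, ← map_mul]
      congr 1
      rw [inv_mul_eq_iff_eq_mul, ← mul_assoc, eq_mul_inv_iff_mul_eq]
      have : a' = Multiplicative.ofAdd a'.toAdd := rfl
      rw [this, h8_uHom_apply, h8_uHom_apply, toAdd_ofAdd,
        h8_dA_mul_uS B _ (h1_symOf_transpose _)]
      congr 1
      exact h8_uS_congr (h1_symOf_toSym _ (h8_conj_symm _ _ (h1_symOf_transpose _))) _ _
    · have : a' = Multiplicative.ofAdd a'.toAdd := rfl
      rw [this, h1_symChar_conj, toAdd_ofAdd]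
  have h1 := h1_card_forms_le T hA hψ c hW
  rw [Module.finrank_fin_fun] at h1
  have h2 := h8_quad_orbit heven n hn c hc
  apply Nat.div_le_of_le_mul
  calc (Fintype.card F ^ n - 1) * (Fintype.card F ^ n - Fintype.card F)
      ≤ 2 * (Fintype.card F + 1) * Nat.card {g : (Fin n → F) → F // ∃ A : GL (Fin n) F,
          g = fun x => (A.1 *ᵥ x) ⬝ᵥ (c *ᵥ (A.1 *ᵥ x))} := h2
    _ ≤ 2 * (Fintype.card F + 1) * k := Nat.mul_le_mul_left _ h1

end Cfsg.Agent.LS3
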