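import Mathlib

/-!
# LS3: pure arithmetic glue for the final inequalities of S2333, S2334, S2335 (helper9)

All statements are about natural numbers (truncated subtraction and division), in exactly the
shapes in which they occur in the three frozen statements.
-/

set_option autoImplicit false

namespace Cfsg.Agent.LS3

/-- `q + 1 ∣ q ^ (2 m) - 1` in `ℕ`. -/
theorem h9_succ_dvd_pow_two_mul_sub_one (q m : ℕ) : (q + 1) ∣ q ^ (2 * m) - 1 := by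
  have h1 : q ^ (2 * m) = (q ^ 2) ^ m := by rw [pow_mul]
  rw [h1]
  have h2 := Nat.sub_dvd_pow_sub_pow (q ^ 2) 1 m
  rw [one_pow] at h2
  refine Dvd.dvd.trans ?_ h2
  refine ⟨q - 1, ?_⟩
  have h3 := Nat.sq_sub_sq q 1
  simpa using h3

/-- even `n`-form. -/
theorem h9_succ_dvd_pow_sub_one_of_even (q n : ℕ) (hn : Even n) : (q + 1) ∣ q ^ n - 1 := by
  obtain ⟨m, rfl⟩ := hn
  have := h9_succ_dvd_pow_two_mul_sub_one q m
  rwa [two_mul] at this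

/-- `q ^ (2 m + 1) - q = q * (q ^ (2 m) - 1)`. -/
theorem h9_pow_succ_sub (q m : ℕ) : q ^ (2 * m + 1) - q = q * (q ^ (2 * m) - 1) := by
  rw [Nat.mul_sub, pow_succ, mul_one, mul_comm]

/-- `q + 1 ∣ q ^ (2 m + 1) - q`. -/
theorem h9_succ_dvd_pow_succ_sub (q m : ℕ) : (q + 1) ∣ q ^ (2 * m + 1) - q := by
  rw [h9_pow_succ_sub]
  exact Dvd.dvd.mul_left (h9_succ_dvd_pow_two_mul_sub_one q m) q

/-- odd `n`-form. -/
theorem h9_succ_dvd_pow_sub_of_odd (q n : ℕ) (hn : Odd n) : (q + 1) ∣ q ^ n - q := by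
  obtain ⟨m, rfl⟩ := hn
  exact h9_succ_dvd_pow_succ_sub q m

/-- `q * ((q ^ (2 m) - 1) / (q + 1)) = (q ^ (2 m + 1) - q) / (q + 1)`. -/
theorem h9_mul_div_eq (q m : ℕ) :
    q * ((q ^ (2 * m) - 1) / (q + 1)) = (q ^ (2 * m + 1) - q) / (q + 1) := by
  rw [h9_pow_succ_sub, Nat.mul_div_assoc _ (h9_succ_dvd_pow_two_mul_sub_one q m)]

/-- general shape: `a ≤ D * c`, `c ≤ k` give `a / D ≤ k`. -/
theorem h9_div_le_of_le_mul_of_le {a D c k : ℕ} (h1 : a ≤ D * c) (h2 : c ≤ k) : a / D ≤ k :=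
  Nat.div_le_of_le_mul (h1.trans (Nat.mul_le_mul_left D h2))

/-- **S2335 final arithmetic** (`n = 2 m`): from the orbit bound and `#orbit ≤ k`. -/
theorem h9_even_final {q m c k : ℕ} (h1 : q ^ (2 * m) - 1 ≤ (q + 1) * c) (h2 : c ≤ k) :
    (q ^ (2 * m) - 1) / (q + 1) ≤ k :=
  h9_div_le_of_le_mul_of_le h1 h2

/-- **S2335 final arithmetic**, `n`-form with `n = 2 * m` given as an equation. -/
theorem h9_even_final' {q n m c k : ℕ} (hn : n = 2 * m) (h1 : q ^ (2 * m) - 1 ≤ (q + 1) * c)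
    (h2 : c ≤ k) : (q ^ n - 1) / (q + 1) ≤ k := by
  subst hn
  exact h9_even_final h1 h2

/-- **S2335 final arithmetic**, `n`-form with `n = m + m` (the shape produced by `Even n`). -/
theorem h9_even_final'' {q n m c k : ℕ} (hn : n = m + m) (h1 : q ^ (2 * m) - 1 ≤ (q + 1) * c)
    (h2 : c ≤ k) : (q ^ n - 1) / (q + 1) ≤ k :=
  h9_even_final' (by omega) h1 h2

/-- **S2334 final arithmetic** (`n = 2 m + 1`): from the orbit bound and `q * #orbit ≤ k`. -/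
theorem h9_odd_final {q m c k : ℕ} (h1 : q ^ (2 * m) - 1 ≤ (q + 1) * c) (h2 : q * c ≤ k) :
    (q ^ (2 * m + 1) - q) / (q + 1) ≤ k := by
  apply Nat.div_le_of_le_mul
  rw [h9_pow_succ_sub]
  calc q * (q ^ (2 * m) - 1) ≤ q * ((q + 1) * c) := Nat.mul_le_mul_left q h1
    _ = (q + 1) * (q * c) := by ring
    _ ≤ (q + 1) * k := Nat.mul_le_mul_left (q + 1) h2

/-- **S2334 final arithmetic**, `n`-form. -/
theorem h9_odd_final' {q n m c k : ℕ} (hn : n = 2 * m + 1) (h1 : q ^ (2 * m) - 1 ≤ (q + 1) * c)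
    (h2 : q * c ≤ k) : (q ^ n - q) / (q + 1) ≤ k := by
  subst hn
  exact h9_odd_final h1 h2

/-- **S2333 final arithmetic**: from `(q^n − 1)(q^n − q) ≤ 2 (q + 1) · #orbit` and `#orbit ≤ k`. -/
theorem h9_sp_final {q n c k : ℕ} (h1 : (q ^ n - 1) * (q ^ n - q) ≤ 2 * (q + 1) * c)
    (h2 : c ≤ k) : (q ^ n - 1) * (q ^ n - q) / (2 * (q + 1)) ≤ k :=
  h9_div_le_of_le_mul_of_le h1 h2

/-- **S2333 counting arithmetic**: from `|GL_n| ≤ #orbit · P · R`, `P · q⁴ ≤ 2 (q + 1) · (q^n)²`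
and `|GL_n| = (q^n − 1)(q^n − q) · (q^(2(n−2)) · R)` with `R > 0`, `q > 0`, `2 ≤ n`:
`(q^n − 1)(q^n − q) ≤ 2 (q + 1) · #orbit`. -/
theorem h9_sp_count {q n c P R G : ℕ} (hq : 0 < q) (hn : 2 ≤ n) (hR : 0 < R)
    (hG : G = (q ^ n - 1) * (q ^ n - q) * (q ^ (2 * (n - 2)) * R))
    (hle : G ≤ c * P * R)
    (hP : P * q ^ 4 ≤ 2 * (q + 1) * (q ^ n) ^ 2) :
    (q ^ n - 1) * (q ^ n - q) ≤ 2 * (q + 1) * c := by
  set X := (q ^ n - 1) * (q ^ n - q) with hX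
  have hqn : (q ^ n) ^ 2 = q ^ (2 * (n - 2)) * q ^ 4 := by
    rw [← pow_mul, ← pow_add]
    congr 1
    omega
  have hpos : 0 < q ^ (2 * (n - 2)) * q ^ 4 * R := by positivity
  refine Nat.le_of_mul_le_mul_right ?_ hpos
  calc X * (q ^ (2 * (n - 2)) * q ^ 4 * R)
      = (X * (q ^ (2 * (n - 2)) * R)) * q ^ 4 := by ring
    _ = G * q ^ 4 := by rw [hG]
    _ ≤ (c * P * R) * q ^ 4 := Nat.mul_le_mul_right _ hle
    _ = c * R * (P * q ^ 4) := by ring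
    _ ≤ c * R * (2 * (q + 1) * (q ^ n) ^ 2) := Nat.mul_le_mul_left _ hP
    _ = 2 * (q + 1) * c * (q ^ (2 * (n - 2)) * q ^ 4 * R) := by rw [hqn]; ring

end Cfsg.Agent.LS3
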